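/-
The double cover of the alternating group of degree seven admits no such shift.
-/
import Cfsg.Agent.Lib.GW.Conseq.QuatNormal

set_option autoImplicit false
set_option linter.unusedSectionVars false

namespace CfsgLib.G2Cent

open Cfsg CfsgLib.GW CfsgLib.GWConseq

universe u

variable {H : Type u} [Group H] [Finite H]

/-- No element fixes the cyclic and shifts the non-cyclic generator of a Sylow subgroup of a normal double cover
of `A₇`. -/
theorem no_double_seven (P : Subgroup H) [P.Normal] [Group.IsPerfect P] (h1 : PRankLE 2 1 P)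
    (hA : IsNonsplitDoubleCover P ↥(alternatingGroup (Fin 7))) (T : Sylow 2 P)
    (e : (T : Subgroup P) ≃* QuaternionGroup (2 ^ 2)) (u : H)
    (hua : u * ((e.symm (.a 1) : (T : Subgroup P)) : P).1 * u⁻¹ = ((e.symm (.a 1) : (T : Subgroup P)) : P).1)
    (hux : u * ((e.symm (.xa 0) : (T : Subgroup P)) : P).1 * u⁻¹ = ((e.symm (.xa 1) : (T : Subgroup P)) : P).1) :
    False := by
  haveI : Fact (Nat.Prime 2) := ⟨Nat.prime_two⟩
  obtain ⟨hZ, ⟨f⟩, -⟩ := hA
  -- the cyclic and the non-cyclic generators
  set g := (quatDih (2 ^ 2)).comp e.toMonoidHom with hgdef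
  have hgs : Function.Surjective g := (quatDih_surjective _).comp e.surjective
  set π : (T : Subgroup P) →* ↥(alternatingGroup (Fin 7)) :=
    (f.toMonoidHom.comp (QuotientGroup.mk' (Subgroup.center P))).comp (T : Subgroup P).subtype with hπ
  have hZT : Subgroup.center P ≤ (T : Subgroup P) := by
    obtain ⟨T', hT'⟩ :=
      (IsPGroup.of_card (p := 2) (n := 1) (G := Subgroup.center P) (by rw [hZ, pow_one])).exists_le_sylow
    obtain ⟨c, hc⟩ := MulAction.exists_smul_eq P T' T
    intro z hz
    rw [← hc, Sylow.coe_subgroup_smul, Subgroup.mem_pointwise_smul_iff_inv_smul_mem]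
    refine hT' ?_
    simpa [MulAut.conj_apply, MulAut.smul_def] using (inferInstance : (Subgroup.center P).Normal).conj_mem z hz c⁻¹
  have hker : π.ker = g.ker := by
    have hu : CfsgLib.Frob.UniqSub 2 (T : Subgroup P) := uniqSub_of_rank T.2 (rank_subgroup h1 _)
    refine hu _ _ ?_ ?_
    · have : π.ker = (Subgroup.center P).subgroupOf (T : Subgroup P) := by
        ext t
        rw [MonoidHom.mem_ker, hπ, Subgroup.mem_subgroupOf]
        simp only [MonoidHom.comp_apply, MulEquiv.coe_toMonoidHom, MulEquiv.map_eq_one_iff, QuotientGroup.mk'_apply,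
          QuotientGroup.eq_one_iff, Subgroup.coe_subtype]
      rw [this]
      exact (Nat.card_congr (Subgroup.subgroupOfEquivOfLe hZT).toEquiv).trans hZ
    · rw [hgdef, ← MonoidHom.comap_ker]
      refine (Nat.card_congr ((Subgroup.equivMapOfInjective _ e.toMonoidHom e.injective).trans
        (MulEquiv.subgroupCongr (Subgroup.map_comap_eq_self_of_surjective e.surjective _))).toEquiv).trans ?_
      exact card_ker_quatDih _
  set φ : DihedralGroup (2 ^ 2) →* ↥(alternatingGroup (Fin 7)) := g.liftOfSurjective hgs ⟨π, hker.ge⟩ with hφdef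
  have hφg : ∀ t, φ (g t) = π t := fun t => MonoidHom.liftOfRightInverse_comp_apply _ _ _ ⟨π, hker.ge⟩ t
  have hφinj : Function.Injective φ := by
    rw [injective_iff_map_eq_one]
    intro d hd
    obtain ⟨t, rfl⟩ := hgs d
    rw [hφg] at hd
    exact (show t ∈ g.ker from hker ▸ hd)
  set a : (T : Subgroup P) := e.symm (.a 1) with hadef
  set x : (T : Subgroup P) := e.symm (.xa 0) with hxdef
  set β : MulAut P := MulAut.conjNormal u with hβdef
  have hβa : β (a : P) = (a : P) := Subtype.ext ((MulAut.conjNormal_apply u (a : P)).trans hua)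
  have hβx : β (x : P) = ((x * a : (T : Subgroup P)) : P) := Subtype.ext ((MulAut.conjNormal_apply u (x : P)).trans (by
    rw [hux, hxdef, hadef, ← map_mul]
    congr 2))
  have hchar : (Subgroup.center P).map (↑β : P →* P) = Subgroup.center P :=
    Subgroup.characteristic_iff_map_eq.mp inferInstance β
  set α : MulAut ↥(alternatingGroup (Fin 7)) :=
    f.symm.trans ((QuotientGroup.congr _ _ β hchar).trans f) with hα
  have hαπ : ∀ t t' : (T : Subgroup P), β (t : P) = (t' : P) → α (π t) = π t' := fun t t' h => by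
    simp only [hα, hπ, MonoidHom.comp_apply, MulEquiv.trans_apply, MulEquiv.coe_toMonoidHom,
      MulEquiv.symm_apply_apply, QuotientGroup.mk'_apply, Subgroup.coe_subtype, QuotientGroup.congr_mk, h]
  have hga : g a = .r 1 := by
    rw [hgdef, MonoidHom.comp_apply, hadef, MulEquiv.coe_toMonoidHom, MulEquiv.apply_symm_apply]
    rfl
  have hgx : g x = .sr 0 := by
    rw [hgdef, MonoidHom.comp_apply, hxdef, MulEquiv.coe_toMonoidHom, MulEquiv.apply_symm_apply]
    rfl
  refine A7.no_swap φ hφinj α ?_ (i := 1) (Or.inl rfl) ?_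
  · show α (φ (.r 1)) = φ (.r 1)
    rw [← hga, hφg]
    exact hαπ a a hβa
  · show α (φ (.sr 0)) = φ (.sr 1)
    rw [show (DihedralGroup.sr 1 : DihedralGroup (2 ^ 2)) = g (x * a) by rw [map_mul, hga, hgx]; decide,
      ← hgx, hφg, hφg]
    exact hαπ x (x * a) hβx


end CfsgLib.G2Cent
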