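/-
Lemmas on 2-subgroups.
-/
import Mathlib
import Cfsg.Agent.Lib.PResidual
import Cfsg.Agent.Lib.LocalFusion

set_option autoImplicit false
set_option linter.unusedSectionVars false
set_option linter.style.haveILetI false

namespace CfsgLib.G2Cent

universe u

variable {X : Type u} [Group X] [Finite X]

/-- An element of odd order fixing the involutions of an abelian 2-group centralises it. -/
theorem lift_fix {A : Subgroup X} (hA : IsPGroup 2 A) (hab : ∀ a ∈ A, ∀ b ∈ A, a * b = b * a) {g : X}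
    (hg : Odd (orderOf g)) (hn : ∀ a ∈ A, g * a * g⁻¹ ∈ A)
    (hfix : ∀ a ∈ A, a * a = 1 → g * a * g⁻¹ = a) : ∀ a ∈ A, g * a * g⁻¹ = a := by
  suffices H : ∀ k : ℕ, ∀ a ∈ A, a ^ 2 ^ k = 1 → g * a * g⁻¹ = a by
    intro a ha
    obtain ⟨k, hk⟩ := hA ⟨a, ha⟩
    exact H k a ha (congrArg Subtype.val hk)
  intro k
  induction k with
  | zero => intro a _ h; rw [pow_zero, pow_one] at h; simp [h]
  | succ k ih =>
    intro a ha hk
    have h2 : g * (a * a) * g⁻¹ = a * a := ih _ (mul_mem ha ha) (by rw [← pow_two, ← pow_mul, ← pow_succ', hk])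
    set d := a⁻¹ * (g * a * g⁻¹) with hd
    have hdA : d ∈ A := mul_mem (inv_mem ha) (hn a ha)
    have hd2 : d * d = 1 := by
      have e : d * d = a⁻¹ * a⁻¹ * (g * a * g⁻¹ * (g * a * g⁻¹)) := by
        rw [hd]
        have h1 := hab (g * a * g⁻¹) (hn a ha) a⁻¹ (inv_mem ha)
        calc a⁻¹ * (g * a * g⁻¹) * (a⁻¹ * (g * a * g⁻¹)) = a⁻¹ * ((g * a * g⁻¹) * a⁻¹) * (g * a * g⁻¹) := by group
          _ = _ := by rw [h1]; group
      rw [e, show g * a * g⁻¹ * (g * a * g⁻¹) = g * (a * a) * g⁻¹ by group, h2]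
      group
    have hdf := hfix d hdA hd2
    have step : ∀ n : ℕ, g ^ n * a * (g ^ n)⁻¹ = a * d ^ n := by
      intro n
      induction n with
      | zero => simp
      | succ n ihn =>
        calc g ^ (n + 1) * a * (g ^ (n + 1))⁻¹ = g * (g ^ n * a * (g ^ n)⁻¹) * g⁻¹ := by group
          _ = (g * a * g⁻¹) * (g * d * g⁻¹) ^ n := by rw [ihn, conj_pow]; group
          _ = a * d ^ (n + 1) := by rw [hdf, show g * a * g⁻¹ = a * d by rw [hd]; group, mul_assoc, ← pow_succ']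
    have h1 := step (orderOf g)
    rw [pow_orderOf_eq_one, one_mul, inv_one, mul_one] at h1
    obtain ⟨j, hj⟩ := hg
    rw [hj, pow_succ, pow_mul, pow_two, hd2, one_pow, one_mul, left_eq_mul] at h1
    rw [hd, inv_mul_eq_one] at h1
    exact h1.symm

/-- A subgroup containing a Sylow subgroup is that times the elements of odd order. -/
theorem exists_mul_odd {N C : Subgroup X} (S : Sylow 2 X) (hS : (S : Subgroup X) ≤ N)
    (hC : ∀ g ∈ N, Odd (orderOf g) → g ∈ C) {g : X} (hg : g ∈ N) :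
    ∃ s ∈ (S : Subgroup X), ∃ c ∈ C, g = s * c := by
  haveI : Fact (Nat.Prime 2) := ⟨Nat.prime_two⟩
  haveI := CfsgLib.PResidual.pResidual_normal (G := N) (p := 2)
  have h := CfsgLib.PResidual.pResidual_sup_sylow (S.subtype hS)
  obtain ⟨s, hs, c, hc, e⟩ := Subgroup.mem_sup_of_normal_right.mp (h ▸ Subgroup.mem_top (⟨g, hg⟩ : N))
  refine ⟨s, hs, c, ?_, congrArg Subtype.val e.symm⟩
  have hle : Cfsg.pResidual 2 N ≤ C.subgroupOf N := (Subgroup.closure_le _).mpr fun x hx =>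
    Subgroup.mem_subgroupOf.mpr (hC x x.2 (Nat.coprime_two_right.mp (by rw [Subgroup.orderOf_coe]; exact hx)))
  exact Subgroup.mem_subgroupOf.mp (hle hc)

/-- An involution and its product with a central one are not conjugate when a Sylow subgroup centralises it. -/
theorem odd_orbit {N T : Subgroup X} (hT : T ≤ N) (hodd : ¬ 2 ∣ T.relIndex N) {z w : X}
    (hz : ∀ n ∈ N, Commute n z) (hz2 : z * z = 1) (hz1 : z ≠ 1) (hTw : ∀ t ∈ T, Commute t w) {n : X}
    (hn : n ∈ N) (hnw : n * w * n⁻¹ = w * z) : False := by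
  have hzc : ∀ a ∈ N, a * z * a⁻¹ = z := fun a ha => by rw [(hz a ha).eq, mul_inv_cancel_right]
  let D : Subgroup X := N ⊓ Subgroup.centralizer {w}
  let D' : Subgroup X :=
    { carrier := {a | a ∈ N ∧ (a * w * a⁻¹ = w ∨ a * w * a⁻¹ = w * z)}
      one_mem' := ⟨one_mem _, Or.inl (by group)⟩
      mul_mem' := by
        rintro a b ⟨ha, ha'⟩ ⟨hb, hb'⟩
        refine ⟨mul_mem ha hb, ?_⟩
        have e : a * b * w * (a * b)⁻¹ = a * (b * w * b⁻¹) * a⁻¹ := by group
        have e2 : a * (w * z) * a⁻¹ = (a * w * a⁻¹) * z := by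
          conv_rhs => rw [← hzc a ha]
          group
        rcases ha' with ha' | ha' <;> rcases hb' with hb' | hb' <;> rw [e, hb'] <;>
          simp only [e2, ha', true_or, or_true, mul_assoc, hz2, mul_one]
      inv_mem' := by
        rintro a ⟨ha, ha'⟩
        refine ⟨inv_mem ha, ?_⟩
        rcases ha' with ha' | ha'
        · left
          conv_lhs => rw [← ha']
          group
        · right
          have e : a * (w * z) * a⁻¹ = w := by
            calc a * (w * z) * a⁻¹ = (a * w * a⁻¹) * (a * z * a⁻¹) := by group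
              _ = w := by rw [ha', hzc a ha, mul_assoc, hz2, mul_one]
          conv_lhs => rw [← e]
          group }
  have hTD : T ≤ D := fun t ht => ⟨hT ht, Subgroup.mem_centralizer_singleton_iff.mpr (hTw t ht).eq⟩
  have hDD : D ≤ D' := fun a ha => ⟨ha.1, Or.inl (by
    rw [Subgroup.mem_centralizer_singleton_iff.mp ha.2, mul_inv_cancel_right])⟩
  have h2 : D.relIndex D' = 2 := by
    refine Subgroup.index_eq_two_iff.mpr ⟨⟨n, hn, Or.inr hnw⟩, fun b => ?_⟩
    obtain ⟨b, hb, hb'⟩ := b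
    have hmem : ∀ a ∈ N, a ∈ D ↔ a * w * a⁻¹ = w := fun a ha =>
      ⟨fun h => by rw [Subgroup.mem_centralizer_singleton_iff.mp h.2, mul_inv_cancel_right],
        fun h => ⟨ha, Subgroup.mem_centralizer_singleton_iff.mpr (by
          calc a * w = a * w * a⁻¹ * a := by group
            _ = w * a := by rw [h])⟩⟩
    have hne : ¬ w * z = w := fun e => hz1 (mul_left_cancel (e.trans (mul_one w).symm))
    show Xor' (b * n ∈ D) (b ∈ D)
    rw [hmem _ (mul_mem hb hn), hmem _ hb, show b * n * w * (b * n)⁻¹ = b * (n * w * n⁻¹) * b⁻¹ by group, hnw,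
      show b * (w * z) * b⁻¹ = (b * w * b⁻¹) * (b * z * b⁻¹) by group, hzc b hb]
    rcases hb' with h | h
    · exact Or.inr ⟨h, by rw [h]; exact hne⟩
    · exact Or.inl ⟨by rw [h, mul_assoc, hz2, mul_one], by rw [h]; exact hne⟩
  refine hodd ?_
  rw [← Subgroup.relIndex_mul_relIndex T D N hTD inf_le_left,
    ← Subgroup.relIndex_mul_relIndex D D' N hDD (fun a ha => ha.1), h2]
  exact dvd_mul_of_dvd_right (dvd_mul_right 2 _) _

/-- A 2-subgroup moves into a given Sylow subgroup. -/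
theorem into (S : Sylow 2 X) {Q : Subgroup X} (hQ : IsPGroup 2 Q) :
    ∃ g : X, ∀ q ∈ Q, g * q * g⁻¹ ∈ (S : Subgroup X) := by
  haveI : Fact (Nat.Prime 2) := ⟨Nat.prime_two⟩
  obtain ⟨R, hR⟩ := hQ.exists_le_sylow
  obtain ⟨g, hg⟩ := MulAction.exists_smul_eq X R S
  refine ⟨g, fun q hq => ?_⟩
  rw [← hg, Sylow.smul_def, Sylow.pointwise_smul_def]
  exact ⟨q, hR hq, rfl⟩

/-- Two 2-subgroups of `H` move into a given Sylow subgroup after a conjugation inside `H`. -/
theorem common (S : Sylow 2 X) {H A B : Subgroup X} (hA : IsPGroup 2 A) (hB : IsPGroup 2 B) (hAH : A ≤ H)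
    (hBH : B ≤ H) :
    ∃ c ∈ H, ∃ g : X, (∀ a ∈ A, g * a * g⁻¹ ∈ (S : Subgroup X)) ∧
      ∀ b ∈ B, g * (c * b * c⁻¹) * g⁻¹ ∈ (S : Subgroup X) := by
  haveI : Fact (Nat.Prime 2) := ⟨Nat.prime_two⟩
  obtain ⟨R, hR⟩ := (hA.of_equiv (Subgroup.subgroupOfEquivOfLe hAH).symm).exists_le_sylow
  obtain ⟨c, hc⟩ := into R (hB.of_equiv (Subgroup.subgroupOfEquivOfLe hBH).symm)
  obtain ⟨g, hg⟩ := into S (R.2.map H.subtype)
  exact ⟨c, c.2, g, fun a ha => hg a ⟨⟨a, hAH ha⟩, hR (Subgroup.mem_subgroupOf.mpr ha), rfl⟩,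
    fun b hb => hg _ ⟨_, hc ⟨b, hBH hb⟩ (Subgroup.mem_subgroupOf.mpr hb), rfl⟩⟩

/-- A 2-subgroup which is not largest in `H` grows inside its normaliser. -/
theorem grow {H B R₀ : Subgroup X} (hB : IsPGroup 2 B) (hBH : B ≤ H) (hR : IsPGroup 2 R₀) (hRH : R₀ ≤ H)
    (hlt : Nat.card B < Nat.card R₀) :
    ∃ P : Subgroup X, IsPGroup 2 P ∧ P ≤ H ∧ B ≤ P ∧ Nat.card B < Nat.card P ∧
      ∀ y ∈ P, ∀ b ∈ B, y * b * y⁻¹ ∈ B := by
  haveI : Fact (Nat.Prime 2) := ⟨Nat.prime_two⟩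
  obtain ⟨R, hBR⟩ := (hB.of_equiv (Subgroup.subgroupOfEquivOfLe hBH).symm).exists_le_sylow
  obtain ⟨c, hc⟩ := into R (hR.of_equiv (Subgroup.subgroupOfEquivOfLe hRH).symm)
  have hcard : Nat.card R₀ ≤ Nat.card (R : Subgroup H) := by
    refine Nat.card_le_card_of_injective
      (fun q : R₀ => (⟨c * ⟨q, hRH q.2⟩ * c⁻¹, hc _ (Subgroup.mem_subgroupOf.mpr q.2)⟩ : (R : Subgroup H)))
      fun a b e => ?_
    have e' : c * (⟨a, hRH a.2⟩ : H) * c⁻¹ = c * ⟨b, hRH b.2⟩ * c⁻¹ := congrArg Subtype.val e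
    have e'' : (⟨a, hRH a.2⟩ : H) = ⟨b, hRH b.2⟩ := mul_left_cancel (mul_right_cancel e')
    exact Subtype.ext (congrArg Subtype.val e'' :)
  set R' := (R : Subgroup H).map H.subtype with hR'
  have hBR' : B ≤ R' := fun b hb => ⟨⟨b, hBH hb⟩, hBR (Subgroup.mem_subgroupOf.mpr hb), rfl⟩
  have hR'card : Nat.card R' = Nat.card (R : Subgroup H) := Subgroup.card_map_of_injective H.subtype_injective
  have hR'p : IsPGroup 2 R' := R.2.map _
  haveI := hR'p.isNilpotent
  have hlt' : B.subgroupOf R' < ⊤ := lt_top_iff_ne_top.mpr fun e => by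
    have h := Nat.card_congr (Subgroup.subgroupOfEquivOfLe hBR').toEquiv
    rw [e, Subgroup.card_top] at h
    omega
  have hn := Group.normalizerCondition_of_isNilpotent _ hlt'
  set N := Subgroup.normalizer ((B.subgroupOf R' : Subgroup R') : Set R')
  refine ⟨N.map R'.subtype, (hR'p.to_subgroup N).map _, (Subgroup.map_subtype_le _).trans (Subgroup.map_subtype_le _),
    ?_, ?_, ?_⟩
  · exact fun b hb => ⟨⟨b, hBR' hb⟩, Subgroup.le_normalizer (Subgroup.mem_subgroupOf.mpr hb), rfl⟩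
  · rw [Subgroup.card_map_of_injective R'.subtype_injective,
      ← Nat.card_congr (Subgroup.subgroupOfEquivOfLe hBR').toEquiv]
    exact lt_of_le_of_ne (Subgroup.card_le_of_le hn.le) fun e =>
      hn.ne (Subgroup.eq_of_le_of_card_ge hn.le e.ge)
  · rintro _ ⟨y, hy, rfl⟩ b hb
    exact Subgroup.mem_subgroupOf.mp ((Subgroup.mem_normalizer_iff.mp hy ⟨b, hBR' hb⟩).mp
      (Subgroup.mem_subgroupOf.mpr hb))

/-- The centraliser of an element with a centraliser of index two in the Sylow subgroup. -/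
theorem cent_into (S : Sylow 2 X) {w : X} {T : Subgroup X} (hT : IsPGroup 2 T)
    (hTw : T ≤ Subgroup.centralizer {w}) (hidx : Nat.card (S : Subgroup X) = 2 * Nat.card T)
    (hnc : ∀ g : X, g * w * g⁻¹ ∈ (S : Subgroup X) → ¬ ∀ s ∈ (S : Subgroup X), Commute s (g * w * g⁻¹))
    (hw : w ∈ T) {Q : Subgroup X} (hQ : IsPGroup 2 Q) (hQw : Q ≤ Subgroup.centralizer {w}) :
    ∃ c : X, Commute c w ∧ ∀ q ∈ Q, c * q * c⁻¹ ∈ T := by
  haveI : Fact (Nat.Prime 2) := ⟨Nat.prime_two⟩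
  set H := Subgroup.centralizer ({w} : Set X)
  obtain ⟨R, hTR⟩ := (hT.of_equiv (Subgroup.subgroupOfEquivOfLe hTw).symm).exists_le_sylow
  have hcR : Nat.card (R : Subgroup H) = Nat.card T := by
    have hle : Nat.card T ≤ Nat.card (R : Subgroup H) := by
      rw [← Nat.card_congr (Subgroup.subgroupOfEquivOfLe hTw).toEquiv]
      exact Subgroup.card_le_of_le hTR
    obtain ⟨a, ha⟩ := IsPGroup.iff_card.mp hT
    obtain ⟨b, hb⟩ := IsPGroup.iff_card.mp R.2
    obtain ⟨g, hg⟩ := into S (R.2.map H.subtype)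
    set f : ↥(R : Subgroup H) → ↥(S : Subgroup X) := fun r => ⟨g * r * g⁻¹, hg _ ⟨r, r.2, rfl⟩⟩
    have hf : Function.Injective f := fun r r' e =>
      Subtype.ext (Subtype.ext (mul_left_cancel (mul_right_cancel (congrArg Subtype.val e))))
    have hleS := Nat.card_le_card_of_injective f hf
    rcases Nat.lt_or_ge (Nat.card T) (Nat.card (R : Subgroup H)) with hlt | hge
    · exfalso
      rw [ha, hb] at hlt
      have h2 : 2 ^ (a + 1) ≤ 2 ^ b := Nat.pow_le_pow_right two_pos ((Nat.pow_lt_pow_iff_right one_lt_two).mp hlt)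
      have hsur : Function.Surjective f := by
        refine (hf.bijective_of_nat_card_le ?_).2
        rw [hidx, ha, hb]
        calc 2 * 2 ^ a = 2 ^ (a + 1) := by ring
          _ ≤ 2 ^ b := h2
      have hwS : g * w * g⁻¹ ∈ (S : Subgroup X) :=
        hg _ ⟨⟨w, hTw hw⟩, hTR (Subgroup.mem_subgroupOf.mpr hw), rfl⟩
      refine hnc g hwS fun s hs => ?_
      obtain ⟨r, hr⟩ := hsur ⟨s, hs⟩
      have e : g * r * g⁻¹ = s := congrArg Subtype.val hr
      rw [← e]
      have hc : Commute ((r : H) : X) w := Subgroup.mem_centralizer_singleton_iff.mp (r : H).2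
      exact hc.map (MulAut.conj g).toMonoidHom
    · omega
  obtain ⟨c, hc⟩ := into R (hQ.of_equiv (Subgroup.subgroupOfEquivOfLe hQw).symm)
  refine ⟨c, Subgroup.mem_centralizer_singleton_iff.mp c.2, fun q hq => ?_⟩
  have he : T.subgroupOf H = (R : Subgroup H) := Subgroup.eq_of_le_of_card_ge hTR (by
    rw [hcR, Nat.card_congr (Subgroup.subgroupOfEquivOfLe hTw).toEquiv])
  have := hc ⟨q, hQw hq⟩ (Subgroup.mem_subgroupOf.mpr hq)
  rw [← he] at this
  exact Subgroup.mem_subgroupOf.mp this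

end CfsgLib.G2Cent
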