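/-
Commutators of automorphisms of `SL(2,F)` are inner.
-/
import Cfsg.Agent.Lib.PSL2.Out
import Cfsg.Agent.Lib.PSLn.FieldClass
import Cfsg.Agent.Lib.StSL.Presentation

set_option autoImplicit false
set_option linter.unusedSectionVars false

namespace CfsgLib.G2Cent

open Matrix CfsgLib.PSL2
open scoped MatrixGroups

variable {F : Type*} [Field F] [Fintype F]

local notation "SL" => Matrix.SpecialLinearGroup (Fin 2) F
local notation "PSL" => Matrix.ProjectiveSpecialLinearGroup (Fin 2) F

theorem isSquare_twist (e : F ≃+* F) (hodd : Odd (Fintype.card F)) {c : F} (hc : c ≠ 0) :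
    IsSquare (e c * c⁻¹) := by
  classical
  by_cases hs : IsSquare c
  · exact (hs.map e).mul hs.inv
  · have hs' : ¬ IsSquare (e c) := fun h => hs (by simpa using h.map e.symm)
    have hs'' : ¬ IsSquare c⁻¹ := fun h => hs (by simpa using h.inv)
    have hne : e c * c⁻¹ ≠ 0 := mul_ne_zero (by simpa using hc) (inv_ne_zero hc)
    rw [← quadraticChar_one_iff_isSquare hne, map_mul, quadraticChar_neg_one_iff_not_isSquare.mpr hs',
      quadraticChar_neg_one_iff_not_isSquare.mpr hs'']
    norm_num

/-- Commutators of automorphisms of `PSL(2,F)` are inner. -/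
theorem psl_commutator (hodd : Odd (Fintype.card F)) (a b : MulAut PSL) :
    ∃ A : SL, a * b * a⁻¹ * b⁻¹ = MulAut.conj (mk A) := by
  obtain ⟨p, hp⟩ := CharP.exists F
  haveI := hp
  haveI : Fact p.Prime := ⟨CharP.char_is_prime F p⟩
  obtain ⟨g₁, e₁, rfl⟩ := exists_diag_field p a
  obtain ⟨g₂, e₂, rfl⟩ := exists_diag_field p b
  have hee : e₂.trans e₁ = e₁.trans e₂ := CfsgLib.PSLn.ringAut_comm p (e₁ : RingAut F) e₂
  have hab : ∀ (g g' : GL (Fin 2) F) (e e' : F ≃+* F), diagAut g * fieldAut e * (diagAut g' * fieldAut e') =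
      diagAut (g * GeneralLinearGroup.map e.toRingHom g') * fieldAut (e'.trans e) := fun g g' e e' => by
    rw [map_mul, fieldAut_trans]
    calc diagAut g * fieldAut e * (diagAut g' * fieldAut e') = diagAut g * (fieldAut e * diagAut g') * fieldAut e' := by
          group
      _ = _ := by rw [fieldAut_mul_diagAut]; group
  set a := diagAut g₁ * fieldAut e₁
  set b := diagAut g₂ * fieldAut e₂
  set G : GL (Fin 2) F := g₁ * GeneralLinearGroup.map e₁.toRingHom g₂ *
    (g₂ * GeneralLinearGroup.map e₂.toRingHom g₁)⁻¹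
  have hG : a * b * a⁻¹ * b⁻¹ = diagAut G := by
    rw [show a * b * a⁻¹ * b⁻¹ = a * b * (b * a)⁻¹ by group, hab, hab, hee]
    simp only [G, map_mul, map_inv]
    group
  obtain ⟨c, A, hGA⟩ := exists_dil_mul G
  have hd : (c : F) = (g₁.1).det * e₁ (g₂.1).det * ((g₂.1).det * e₂ (g₁.1).det)⁻¹ := by
    have h1 : (G : Matrix (Fin 2) (Fin 2) F).det = (c : F) := by
      rw [hGA, Units.val_mul, Matrix.det_mul]
      simp [dil, Matrix.det_fin_two_of]
    rw [← h1]
    have hinv : ∀ u : GL (Fin 2) F, ((u⁻¹ : GL (Fin 2) F) : Matrix (Fin 2) (Fin 2) F).det = (u.1.det)⁻¹ := fun u => by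
      refine (inv_eq_of_mul_eq_one_right ?_).symm
      rw [← Matrix.det_mul, ← Units.val_mul, mul_inv_cancel, Units.val_one, Matrix.det_one]
    have hmap : ∀ (e : F ≃+* F) (u : GL (Fin 2) F),
        ((GeneralLinearGroup.map e.toRingHom u : GL (Fin 2) F) : Matrix (Fin 2) (Fin 2) F).det = e u.1.det := fun e u =>
      (RingHom.map_det e.toRingHom u.1).symm
    simp only [G, Units.val_mul, Matrix.det_mul, hinv, hmap]
  have hn : ∀ u : GL (Fin 2) F, (u.1).det ≠ 0 := fun u =>
    ((Matrix.isUnit_iff_isUnit_det _).mp u.isUnit).ne_zero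
  have hsq : IsSquare (c : F) := by
    have := (isSquare_twist e₁ hodd (hn g₂)).mul (isSquare_twist e₂ hodd (hn g₁)).inv
    have e : (c : F) = e₁ (g₂.1).det * (g₂.1).det⁻¹ * (e₂ (g₁.1).det * (g₁.1).det⁻¹)⁻¹ := by
      have := hn g₁; have := hn g₂
      rw [hd]
      field_simp
    rw [e]
    exact this
  obtain ⟨r, hr⟩ := hsq
  have hr0 : r ≠ 0 := fun e => c.ne_zero (by rw [hr, e, mul_zero])
  obtain ⟨x, hx⟩ := (dil_inner_iff c).mpr ⟨Units.mk0 r hr0, Units.ext (by simp [hr, pow_two])⟩
  obtain ⟨B, rfl⟩ := QuotientGroup.mk'_surjective _ x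
  refine ⟨B * A, ?_⟩
  rw [hG, hGA, map_mul, hx, diagAut_toGL, map_mul mk, map_mul]

/-- An automorphism of `SL(2,F)` trivial on `PSL(2,F)` is trivial. -/
theorem centreQuotAut_injective (hodd : Odd (Fintype.card F)) :
    Function.Injective (centreQuotAut SL : MulAut SL →* MulAut PSL) := by
  classical
  rw [injective_iff_map_eq_one]
  intro φ hφ
  have h2 : (2 : F) ≠ 0 := fun h => by
    have hch : ringChar F = 2 := ringChar.eq_iff.mpr (CharTwo.of_one_ne_zero_of_two_eq_zero one_ne_zero h)
    have := FiniteField.even_card_iff_char_two.mp hch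
    rw [Nat.odd_iff] at hodd
    omega
  let K : Subgroup SL :=
    { carrier := {s | φ s = s}
      one_mem' := map_one φ
      mul_mem' := fun {s t} (hs : φ s = s) (ht : φ t = t) => show φ (s * t) = s * t by rw [map_mul, hs, ht]
      inv_mem' := fun {s} (hs : φ s = s) => show φ s⁻¹ = s⁻¹ by rw [map_inv, hs] }
  have hK : K = ⊤ := by
    rw [eq_top_iff, ← CfsgLib.StSL.closure_transvection_eq_top (K := F) (n := 2) le_rfl, Subgroup.closure_le]
    rintro _ ⟨i, j, hij, t, rfl⟩
    set T := Matrix.SpecialLinearGroup.transvection hij t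
    have hpow : T ^ Fintype.card F = 1 := by
      have key : ∀ k : ℕ, T ^ k = Matrix.SpecialLinearGroup.transvection hij (k • t) := by
        intro k
        induction k with
        | zero =>
          rw [pow_zero, zero_smul]
          refine Subtype.ext ?_
          show (1 : Matrix (Fin 2) (Fin 2) F) = Matrix.transvection i j (0 : F)
          rw [Matrix.transvection_zero]
        | succ k ih =>
          rw [pow_succ, ih, succ_nsmul]
          refine Subtype.ext ?_
          show Matrix.transvection i j (k • t) * Matrix.transvection i j t = Matrix.transvection i j (k • t + t)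
          rw [Matrix.transvection_mul_transvection_same i j hij]
      refine Subtype.ext ?_
      rw [key, nsmul_eq_mul, FiniteField.cast_card_eq_zero, zero_mul]
      simp [Matrix.SpecialLinearGroup.transvection]
    have h1 : mk (φ T) = mk T := DFunLike.congr_fun hφ (mk T)
    rcases mk_eq_mk.mp h1.symm with h | h
    · exact Subtype.ext h
    · exfalso
      have h3 : ((φ T) ^ Fintype.card F).1 = -1 := by
        rw [Matrix.SpecialLinearGroup.coe_pow, h, hodd.neg_pow, ← Matrix.SpecialLinearGroup.coe_pow, hpow]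
        rfl
      rw [← map_pow, hpow, map_one] at h3
      have h00 := congrFun (congrFun h3 0) 0
      simp only [Matrix.SpecialLinearGroup.coe_one, Matrix.one_apply_eq, Matrix.neg_apply] at h00
      exact h2 (by linear_combination h00)
  ext s : 1
  exact (hK.ge (Subgroup.mem_top s) : φ s = s)

/-- Commutators of automorphisms of a group isomorphic to `SL(2,F)` are inner. -/
theorem inner_commutator {L : Type*} [Group L] (hodd : Odd (Fintype.card F)) (e : L ≃* SL) (φ ψ : MulAut L) :
    ∃ l : L, ∀ x, φ (ψ (φ.symm (ψ.symm x))) = l * x * l⁻¹ := by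
  set α : MulAut SL := MulAut.congr e φ
  set β : MulAut SL := MulAut.congr e ψ
  obtain ⟨A, hA⟩ := psl_commutator hodd (centreQuotAut SL α) (centreQuotAut SL β)
  have h1 : α * β * α⁻¹ * β⁻¹ = MulAut.conj A := by
    refine centreQuotAut_injective hodd ?_
    rw [map_mul, map_mul, map_mul, map_inv, map_inv, hA]
    exact MulEquiv.ext fun x => QuotientGroup.induction_on x fun a => rfl
  refine ⟨e.symm A, fun x => ?_⟩
  have h2 : MulAut.congr e (φ * ψ * φ⁻¹ * ψ⁻¹) = MulAut.conj A := by
    rw [map_mul, map_mul, map_mul, map_inv, map_inv]; exact h1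
  have h3 := DFunLike.congr_fun h2 (e x)
  simp [MulAut.congr, MulAut.conj_apply] at h3
  exact e.injective (by simpa using h3)

end CfsgLib.G2Cent
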