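/-
A group with a self-centralising normal quaternion Sylow subgroup.
-/
import Cfsg.Agent.Lib.GW.Conseq.QuatNormal

set_option autoImplicit false
set_option linter.unusedSectionVars false

namespace CfsgLib.G2Cent

universe u

/-- Such a group, not a 2-group, is `SL(2,3)`, with an element of order three turning the quaternion subgroup. -/
theorem sl23_general {K : Type u} [Group K] [Finite K] (Q : Subgroup K) [Q.Normal] (e : Q ≃* QuaternionGroup 2)
    (hodd : ¬ 2 ∣ Q.index) (hne : Q ≠ ⊤) (hC : Subgroup.centralizer (Q : Set K) ≤ Q) :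
    Nat.card K = 24 ∧ Nonempty (K ≃* Matrix.SpecialLinearGroup (Fin 2) (ZMod 3)) ∧
      ∃ y : K, ∀ a ∈ Q, a * a ≠ 1 → y * a * y⁻¹ ≠ a ∧ y * a * y⁻¹ ≠ a⁻¹ := by
  haveI : Fact (Nat.Prime 2) := ⟨Nat.prime_two⟩
  have hQ8 : Nat.card Q = 8 := by
    rw [Nat.card_congr e.toEquiv, Nat.card_eq_fintype_card, QuaternionGroup.card]
  have hcard := Q.card_mul_index
  rw [hQ8] at hcard
  obtain ⟨p, hp, hpd⟩ := Nat.exists_prime_and_dvd (n := Q.index) (fun h => hne (Subgroup.index_eq_one.mp h))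
  have hp2 : p ≠ 2 := fun h => hodd (h ▸ hpd)
  haveI : Fact p.Prime := ⟨hp⟩
  obtain ⟨y, hy⟩ := exists_prime_orderOf_dvd_card' (G := K) p (hcard ▸ dvd_mul_of_dvd_right hpd 8)
  have hyodd : Odd (orderOf y) := hy ▸ hp.odd_of_ne_two hp2
  have hQp : IsPGroup 2 Q := IsPGroup.of_card (n := 3) (by rw [hQ8]; norm_num)
  have odd_not_mem : ∀ w : K, Odd (orderOf w) → w ∈ Q → w = 1 := fun w hw hwQ => by
    obtain ⟨k, hk⟩ := hQp ⟨w, hwQ⟩
    exact orderOf_eq_one_iff.mp (Nat.eq_one_of_dvd_coprimes (hw.coprime_two_right.pow_right k) dvd_rfl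
      (orderOf_dvd_of_pow_eq_one (congrArg Subtype.val hk)))
  have hyC : y ∉ Subgroup.centralizer (Q : Set K) := fun h => hp.one_lt.ne' (by
    rw [← hy, odd_not_mem y hyodd (hC h), orderOf_one])
  obtain ⟨φ, hφi, hφr, hrot⟩ := CfsgLib.QuatSection.exists_param e (g := y)
    (by rw [Subgroup.normalizer_eq_top]; exact Subgroup.mem_top y) hyC hyodd
  have hy3 : y ^ 3 ∈ Subgroup.centralizer (Q : Set K) := by
    rw [← hφr]
    rintro _ ⟨q, rfl⟩
    refine (mul_inv_eq_iff_eq_mul.mp (?_ : y ^ 3 * φ q * (y ^ 3)⁻¹ = φ q)).symm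
    conv_rhs => rw [← CfsgLib.Quat.rotFun_cube q]
    rw [← hrot, ← hrot, ← hrot]
    simp [pow_succ, mul_assoc]
  have hy31 : y ^ 3 = 1 := odd_not_mem _ (Odd.of_dvd_nat hyodd (orderOf_pow_dvd 3)) (hC hy3)
  have hord3 : orderOf y = 3 := by
    rcases (Nat.dvd_prime Nat.prime_three).mp (orderOf_dvd_of_pow_eq_one hy31) with h | h
    · exact absurd (hy ▸ h) hp.one_lt.ne'
    · exact h
  obtain ⟨θ, hθ⟩ := CfsgLib.RegularLinear.exists_sl23 e hord3 hyC
  have h24 : Nat.card θ.range = 24 := by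
    rw [← Nat.card_congr (MonoidHom.ofInjective hθ).toEquiv, CfsgLib.RegularLinear.sl23_card]
  have hbound : Nat.card K ≤ 48 := by
    set c : K →* MulAut Q := MulAut.conjNormal with hc
    have hker : c.ker = Subgroup.centralizer (Q : Set K) := by
      ext k
      rw [MonoidHom.mem_ker, Subgroup.mem_centralizer_iff]
      constructor
      · intro h q hq
        have h' := congrArg Subtype.val (DFunLike.congr_fun h (⟨q, hq⟩ : Q))
        rw [hc, MulAut.conjNormal_apply, MulAut.one_apply] at h'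
        exact (mul_inv_eq_iff_eq_mul.mp h').symm
      · intro h
        ext q
        rw [hc, MulAut.conjNormal_apply, MulAut.one_apply, mul_inv_eq_iff_eq_mul]
        exact (h q q.2).symm
    rw [← c.ker.card_mul_index, Subgroup.index_ker, hker, Cfsg.FusionSystem.RankTwo.card_centralizer_q8 e hC]
    have h1 : Nat.card c.range ≤ Nat.card (MulAut Q) := Nat.card_le_card_of_injective _ Subtype.val_injective
    have h2 := Cfsg.FusionSystem.RankTwo.card_mulAut_q8_le e
    omega
  have htop : θ.range = ⊤ := by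
    have h := θ.range.card_mul_index
    rw [h24] at h
    refine Subgroup.index_eq_one.mp ?_
    have h0 : θ.range.index ≠ 0 := Subgroup.index_ne_zero_of_finite
    rw [Nat.two_dvd_ne_zero] at hodd
    omega
  refine ⟨?_, ⟨(MulEquiv.ofBijective θ ⟨hθ, MonoidHom.range_eq_top.mp htop⟩).symm⟩, y, ?_⟩
  · rw [htop, Subgroup.card_top] at h24
    exact h24
  · rintro a ha ha2
    obtain ⟨q, rfl⟩ : a ∈ φ.range := hφr.symm ▸ ha
    have key : ∀ q : QuaternionGroup 2, q * q ≠ 1 →
        CfsgLib.Quat.rotFun q ≠ q ∧ CfsgLib.Quat.rotFun q ≠ q⁻¹ := by decide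
    have hq2 : q * q ≠ 1 := fun h => ha2 (by rw [← map_mul, h, map_one])
    rw [hrot, ← map_inv]
    exact ⟨fun h => (key q hq2).1 (hφi h), fun h => (key q hq2).2 (hφi h)⟩

end CfsgLib.G2Cent
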