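/-
The two quaternion subgroups of the model, their product and their exchange.
-/
import Cfsg.Agent.Lib.G2Sylow.Model

set_option autoImplicit false
set_option linter.unusedSectionVars false

namespace CfsgLib.G2Cent

open CfsgLib.G2Sylow

variable {m : ℕ}

theorem sg_add (e : Bool) (x y : ZMod m) : sg e x + sg e y = sg e (x + y) := by
  cases e <;> simp [sg]; ring

theorem sg_even (e : Bool) {x : ZMod m} (h : ∃ a, x = a + a) : ∃ a, sg e x = a + a := by
  obtain ⟨a, rfl⟩ := h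
  cases e
  · exact ⟨a, rfl⟩
  · exact ⟨-a, by simp [sg]⟩

/-- The elements of even parity. -/
def Kp : Subgroup (W m) where
  carrier := {w | ∃ a, w.i + w.j = a + a}
  mul_mem' := by
    rintro ⟨i, j, e, s⟩ ⟨i', j', e', s'⟩ ⟨a, ha⟩ ⟨b, hb⟩
    obtain ⟨c, hc⟩ := sg_even e (⟨b, hb⟩ : ∃ b, i' + j' = b + b)
    refine ⟨a + c, ?_⟩
    cases s <;> simp only [mul_def, Bool.false_eq_true, ite_false, ite_true] at ha ⊢
    · rw [show a + c + (a + c) = (a + a) + (c + c) by ring, ← ha, ← hc, ← sg_add]; ring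
    · rw [show a + c + (a + c) = (a + a) + (c + c) by ring, ← ha, ← hc, ← sg_add]; ring
  one_mem' := ⟨0, by simp [one_def]⟩
  inv_mem' := by
    rintro ⟨i, j, e, s⟩ ⟨a, ha⟩
    obtain ⟨c, hc⟩ := sg_even e (⟨a, ha⟩ : ∃ a, i + j = a + a)
    refine ⟨-c, ?_⟩
    cases s <;> simp only [inv_def, Bool.false_eq_true, ite_false, ite_true]
    · rw [← neg_add, ← neg_add, sg_add, hc]
    · rw [← neg_add, ← neg_add, sg_add, add_comm j i, hc]

theorem mem_Kp {w : W m} : w ∈ (Kp : Subgroup (W m)) ↔ ∃ a, w.i + w.j = a + a := Iff.rfl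

/-- The rotations of even parity. -/
def rotK : Subgroup (W m) where
  carrier := {w | w.e = false ∧ w.s = false ∧ w ∈ (Kp : Subgroup (W m))}
  mul_mem' := by
    rintro a b ⟨h1, h2, h3⟩ ⟨g1, g2, g3⟩
    exact ⟨by simp [mul_def, h1, g1], by simp [mul_def, h2, g2], mul_mem h3 g3⟩
  one_mem' := ⟨rfl, rfl, one_mem _⟩
  inv_mem' := by
    rintro a ⟨h1, h2, h3⟩
    exact ⟨h1, h2, inv_mem h3⟩

theorem mem_rotK {w : W m} : w ∈ (rotK : Subgroup (W m)) ↔ w.e = false ∧ w.s = false ∧ ∃ a, w.i + w.j = a + a :=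
  Iff.rfl

theorem rot_mul (a b c d : ZMod m) : rot a b * rot c d = rot (a + c) (b + d) := by simp [rot, mul_def, sg]

theorem rot_inv (a b : ZMod m) : (rot a b)⁻¹ = rot (-a) (-b) := by simp [rot, inv_def, sg]

theorem conj_refl_rot (a b i j : ZMod m) : rot a b * refl i j * (rot a b)⁻¹ = refl (i + (a + a)) (j + (b + b)) := by
  simp [rot, CfsgLib.G2Sylow.refl, mul_def, inv_def, sg]; constructor <;> ring

theorem rotK_comm {a b : W m} (ha : a ∈ (rotK : Subgroup (W m))) (hb : b ∈ (rotK : Subgroup (W m))) :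
    a * b = b * a := by
  obtain ⟨i, j, e, s⟩ := a
  obtain ⟨i', j', e', s'⟩ := b
  obtain ⟨rfl, rfl, -⟩ := ha
  obtain ⟨rfl, rfl, -⟩ := hb
  simp [mul_def, sg, add_comm]

/-- The exchange of the two quaternion subgroups. -/
def flip : W m ≃* W m where
  toFun w := ⟨w.i, -w.j, Bool.xor w.e w.s, w.s⟩
  invFun w := ⟨w.i, -w.j, Bool.xor w.e w.s, w.s⟩
  left_inv := by rintro ⟨i, j, e, s⟩; cases e <;> cases s <;> simp
  right_inv := by rintro ⟨i, j, e, s⟩; cases e <;> cases s <;> simp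
  map_mul' := by
    rintro ⟨i, j, e, s⟩ ⟨i', j', e', s'⟩
    cases e <;> cases s <;> cases e' <;> cases s' <;> simp [mul_def, sg] <;> ring

theorem flip_flip (w : W m) : flip (flip w) = w := flip.left_inv w

theorem flip_Kp {w : W m} : flip w ∈ (Kp : Subgroup (W m)) ↔ w ∈ (Kp : Subgroup (W m)) := by
  constructor <;> rintro ⟨a, ha⟩
  · exact ⟨a + w.j, by simp only [flip, MulEquiv.coe_mk, Equiv.coe_fn_mk] at ha; linear_combination ha⟩
  · exact ⟨a - w.j, by simp only [flip, MulEquiv.coe_mk, Equiv.coe_fn_mk]; linear_combination ha⟩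

variable {h : ℕ} (hm : m = 2 * h)

include hm in
theorem neg_h : -(h : ZMod m) = h := neg_eq_of_add_eq_zero_left (two_h hm)

/-- The first quaternion subgroup. -/
def Q1 : Subgroup (W m) where
  carrier := {w | w.s = w.e ∧ w.i = w.j + if w.e then (h : ZMod m) else 0}
  mul_mem' := by
    have := two_h hm
    have hn := neg_h hm
    rintro ⟨i, j, e, s⟩ ⟨i', j', e', s'⟩ ⟨hs, hi⟩ ⟨hs', hi'⟩
    simp only at hs hi hs' hi'
    subst hs hs'
    cases s <;> cases s' <;> simp [mul_def, sg] at hi hi' ⊢ <;> grind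
  one_mem' := by simp [one_def]
  inv_mem' := by
    have := two_h hm
    have hn := neg_h hm
    rintro ⟨i, j, e, s⟩ ⟨hs, hi⟩
    simp only at hs hi
    subst hs
    cases s <;> simp [inv_def, sg] at hi ⊢ <;> grind

theorem mem_Q1 {w : W m} : w ∈ Q1 hm ↔ w.s = w.e ∧ w.i = w.j + if w.e then (h : ZMod m) else 0 := Iff.rfl

/-- The second quaternion subgroup. -/
def Q2 : Subgroup (W m) := (Q1 hm).comap (flip : W m ≃* W m).toMonoidHom

theorem mem_Q2 {w : W m} : w ∈ Q2 hm ↔ w.e = false ∧ w.i + w.j = if w.s then (h : ZMod m) else 0 := by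
  obtain ⟨i, j, e, s⟩ := w
  show (s = Bool.xor e s ∧ i = -j + if Bool.xor e s then (h : ZMod m) else 0) ↔ _
  cases e <;> cases s <;> simp <;> constructor <;> intro h' <;> linear_combination h'

theorem flip_mem_Q1 {w : W m} : flip w ∈ Q1 hm ↔ w ∈ Q2 hm := Iff.rfl

theorem flip_mem_Q2 {w : W m} : flip w ∈ Q2 hm ↔ w ∈ Q1 hm := by
  rw [← flip_mem_Q1, flip_flip]

theorem flip_rot (i j : ZMod m) : flip (rot i j) = rot i (-j) := rfl

include hm in
theorem flip_zc : flip (zc h : W m) = zc h := by simp [flip_rot, neg_h hm]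

theorem flip_uc : flip (uc h : W m) = uc h := by simp [flip_rot]

theorem zc_mem_Q1 : (zc h : W m) ∈ Q1 hm := by simp [mem_Q1, rot]

theorem zc_mem_Q2 : (zc h : W m) ∈ Q2 hm := by simp [mem_Q2, rot, two_h hm]

include hm in
theorem zc_sq : (zc h : W m) * zc h = 1 := by simp [mul_def, one_def, rot, sg, two_h hm]

theorem Q_comm {p q : W m} (hp : p ∈ Q1 hm) (hq : q ∈ Q2 hm) : p * q = q * p := by
  have := two_h hm
  have hn := neg_h hm
  obtain ⟨i, j, e, s⟩ := p
  obtain ⟨i', j', e', s'⟩ := q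
  obtain ⟨hs, hi⟩ := hp
  obtain ⟨he', hj'⟩ := (mem_Q2 hm).mp hq
  simp only at hs hi he' hj'
  subst hs he'
  cases s <;> cases s' <;> simp [mul_def, sg] at hi hj' ⊢ <;> grind

variable (he : Even h)

include hm he in
theorem exists_quarter : ∃ q : ZMod m, q + q = (h : ZMod m) := by
  obtain ⟨k, rfl⟩ := he
  exact ⟨k, by push_cast; rfl⟩

theorem even_h : ∀ b : Bool, Even h → ∃ a : ZMod m, (if b then (h : ZMod m) else 0) = a + a := by
  rintro b ⟨k, rfl⟩
  cases b
  · exact ⟨0, by simp⟩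
  · exact ⟨k, by push_cast; simp⟩

include he in
theorem Q1_le : Q1 hm ≤ (Kp : Subgroup (W m)) := by
  rintro ⟨i, j, e, s⟩ ⟨-, hi⟩
  obtain ⟨a, ha⟩ := even_h (m := m) e he
  exact ⟨j + a, by simp only at hi ha ⊢; rw [hi, ha]; ring⟩

include he in
theorem Q2_le : Q2 hm ≤ (Kp : Subgroup (W m)) := fun _ hw =>
  flip_Kp.mp (Q1_le hm he ((flip_mem_Q1 hm).mpr hw))

include he in
theorem exists_decomp [NeZero m] {w : W m} (hw : w ∈ (Kp : Subgroup (W m))) :
    ∃ p ∈ Q1 hm, ∃ q ∈ Q2 hm, w = p * q := by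
  have := two_h hm
  have hn := neg_h hm
  obtain ⟨k, hk⟩ := exists_quarter hm he
  obtain ⟨i, j, e, s⟩ := w
  obtain ⟨a, ha⟩ := hw
  simp only at ha
  cases e <;> cases s
  · exact ⟨rot a a, by simp [mem_Q1, rot], rot (i - a) (j - a), by
      simp [mem_Q2, rot]; linear_combination ha, by simp [rot, mul_def, sg]⟩
  · exact ⟨rot (a - k) (a - k), by simp [mem_Q1, rot], ⟨i - (a - k), j - (a - k), false, true⟩, by
      simp [mem_Q2]; linear_combination ha + hk, by simp [rot, mul_def, sg]⟩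
  · refine ⟨⟨a + h, a, true, true⟩, by simp [mem_Q1], ⟨i - a, a + h - i, false, true⟩, ?_, ?_⟩
    · simp [mem_Q2]
    · simp [mul_def, sg]
      linear_combination ha
  · refine ⟨⟨a + k, a + k - h, true, true⟩, by simp [mem_Q1], rot (i - (a + k)) (-(i - (a + k))), ?_, ?_⟩
    · simp [mem_Q2, rot]
    · simp [rot, mul_def, sg]
      linear_combination ha - hk

end CfsgLib.G2Cent
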