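/-
Elementwise facts about the quaternion subgroups of the model.
-/
import Cfsg.Agent.Lib.G2Cent.Model

set_option autoImplicit false
set_option linter.unusedSectionVars false

namespace CfsgLib.G2Cent

open CfsgLib.G2Sylow

variable {m h : ℕ} [NeZero m] (hm : m = 2 * h)

include hm in
theorem zc_ne : (zc h : W m) ≠ 1 := fun e => h_ne hm (congrArg W.i e)

include hm in
theorem uc_ne_zc : (uc h : W m) ≠ zc h := fun e => h_ne hm (congrArg W.j e).symm

/-- A square root of the central involution lies in one of the quaternion subgroups. -/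
theorem sq_cases {w : W m} (hw : w * w = zc h) : w ∈ Q1 hm ∨ w ∈ Q2 hm := by
  have hh := two_h hm
  have hn := h_ne hm
  obtain ⟨i, j, e, s⟩ := w
  cases e <;> cases s <;> simp [mul_def, rot, sg] at hw
  · rcases two_torsion hm (show (i - j) + (i - j) = 0 by linear_combination hw.1 - hw.2) with e1 | e1
    · exact Or.inl (by simp [mem_Q1]; linear_combination e1)
    · exact Or.inr (by simp [mem_Q2]; linear_combination hw.2 + e1 + hh)
  · exact Or.inr (by simp [mem_Q2]; linear_combination hw.1)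
  · exact absurd hw.symm hn
  · exact Or.inl (by simp [mem_Q1]; linear_combination hw.1)

theorem inf_cases {w : W m} (h1 : w ∈ Q1 hm) (h2 : w ∈ Q2 hm) : w = 1 ∨ w = zc h := by
  obtain ⟨i, j, e, s⟩ := w
  rw [mem_Q1] at h1
  rw [mem_Q2] at h2
  obtain ⟨hs, hi⟩ := h1
  obtain ⟨he, hij⟩ := h2
  simp only at hs hi he hij
  subst he hs
  simp at hi hij
  subst hi
  rcases two_torsion hm hij with rfl | rfl
  · exact Or.inl rfl
  · exact Or.inr rfl

theorem Q1_invol {w : W m} (h1 : w ∈ Q1 hm) (hw : w * w = 1) : w = 1 ∨ w = zc h := by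
  have hn := h_ne hm
  have hh := neg_h hm
  obtain ⟨i, j, e, s⟩ := w
  obtain ⟨hs, hi⟩ := h1
  simp only at hs hi
  subst hs
  cases s <;> simp [mul_def, one_def, sg] at hi hw
  · subst hi
    rcases two_torsion hm hw.1 with rfl | rfl
    · exact Or.inl rfl
    · exact Or.inr rfl
  · exact absurd (by linear_combination hw.1 - hi) hn

theorem Q2_invol {w : W m} (h1 : w ∈ Q2 hm) (hw : w * w = 1) : w = 1 ∨ w = zc h := by
  have := Q1_invol hm ((flip_mem_Q1 hm).mpr h1) (by rw [← map_mul, hw, map_one])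
  rcases this with e | e
  · exact Or.inl (flip.injective (e.trans (map_one _).symm))
  · exact Or.inr (flip.injective (e.trans (flip_zc hm).symm))

theorem comm_pair {p q : W m} (hp : p ∈ Q1 hm) (hq : q ∈ Q1 hm) (hp2 : p * p = zc h) (hq2 : q * q = zc h)
    (hc : Commute p q) : p * q = 1 ∨ p * q = zc h := by
  refine Q1_invol hm (mul_mem hp hq) ?_
  rw [mul_assoc, ← mul_assoc q, ← hc.eq, mul_assoc, hq2, ← mul_assoc, hp2, zc_sq hm]

/-- The elements outside the cyclic subgroup square to the central involution. -/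
theorem sq_of_refl {w : W m} (h1 : w ∈ Q1 hm) (he : w.e = true) : w * w = zc h := by
  have hh := neg_h hm
  have := two_h hm
  obtain ⟨i, j, e, s⟩ := w
  obtain ⟨hs, hi⟩ := h1
  simp only at hs hi he
  subst he hs
  simp at hi
  subst hi
  simp [mul_def, rot, sg]
  exact hh

theorem Q1_le_of {L : Subgroup (W m)} (hL : ∀ w ∈ Q1 hm, w * w = zc h → w ∈ L) : Q1 hm ≤ L := by
  have hh := neg_h hm
  have := two_h hm
  rintro ⟨i, j, e, s⟩ hw
  cases e
  · obtain ⟨hs, hi⟩ := hw
    simp at hs hi
    subst hs hi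
    have ha : (⟨i - h + h, i - h, true, true⟩ : W m) ∈ Q1 hm := by simp [mem_Q1]
    have hb : (⟨h, 0, true, true⟩ : W m) ∈ Q1 hm := by simp [mem_Q1]
    have := L.mul_mem (hL _ ha (sq_of_refl hm ha rfl)) (hL _ hb (sq_of_refl hm hb rfl))
    convert this using 1
    simp [mul_def, sg]
    grind
  · exact hL _ hw (sq_of_refl hm hw rfl)

/-- The centraliser of the first quaternion subgroup. -/
theorem cent_Q1 (h4 : 4 ≤ m) {w : W m} (hc : ∀ p ∈ Q1 hm, Commute w p) : w ∈ Q2 hm := by
  have hh := neg_h hm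
  have hh2 := two_h hm
  have hb : (⟨h, 0, true, true⟩ : W m) ∈ Q1 hm := by simp [mem_Q1]
  have h1 := (hc _ hb).eq
  have h2 := (hc (rot 1 1) (by simp [mem_Q1, rot])).eq
  obtain ⟨i, j, e, s⟩ := w
  cases e <;> cases s <;> simp [mul_def, rot, sg] at h1 h2
  · simp [mem_Q2]; linear_combination h1.1
  · simp [mem_Q2]; linear_combination h1.1
  all_goals
    exfalso
    have : ((2 : ℕ) : ZMod m) = 0 := by
      push_cast
      first
        | linear_combination h2.1
        | linear_combination -h2.1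
        | linear_combination h2
        | linear_combination -h2
    rw [ZMod.natCast_eq_zero_iff] at this
    exact absurd (Nat.le_of_dvd two_pos this) (by omega)

theorem cent_Q2 (h4 : 4 ≤ m) {w : W m} (hc : ∀ p ∈ Q2 hm, Commute w p) : w ∈ Q1 hm := by
  refine (flip_mem_Q2 hm).mp (cent_Q1 hm h4 fun p hp => ?_)
  have := (hc (flip p) ((flip_mem_Q2 hm).mpr hp)).map (flip : W m ≃* W m).toMonoidHom
  simpa [flip_flip] using this

/-- The centraliser of a non-central rotation of the first subgroup. -/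
theorem commute_rot_diag {i : ZMod m} (hi : i + i ≠ 0) (w : W m) : Commute w (rot i i) ↔ w.e = false := by
  obtain ⟨a, b, e, s⟩ := w
  have h1 : ¬ (-i = i) := fun e1 => hi (by linear_combination -e1)
  cases e <;> cases s <;> simp [Commute, SemiconjBy, mul_def, rot, sg, add_comm] <;> grind

theorem commutator_Ke {a b : W m} (ha : a.e = false) (hb : b.e = false) :
    (a * b * a⁻¹ * b⁻¹).i + (a * b * a⁻¹ * b⁻¹).j = 0 := by
  obtain ⟨i, j, e, s⟩ := a
  obtain ⟨i', j', e', s'⟩ := b
  simp only at ha hb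
  subst ha hb
  cases s <;> cases s' <;> simp [mul_def, inv_def, sg] <;> ring

theorem commutator_flip_Ke {a b : W m} (ha : a.e = a.s) (hb : b.e = b.s) :
    (a * b * a⁻¹ * b⁻¹).i = (a * b * a⁻¹ * b⁻¹).j := by
  obtain ⟨i, j, e, s⟩ := a
  obtain ⟨i', j', e', s'⟩ := b
  simp only at ha hb
  subst ha hb
  cases e <;> cases e' <;> simp [mul_def, inv_def, sg] <;> ring

theorem conj_rot (w : W m) (a b : ZMod m) :
    w * rot a b * w⁻¹ = rot (sg w.e (if w.s then b else a)) (sg w.e (if w.s then a else b)) := by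
  obtain ⟨i, j, e, s⟩ := w
  cases e <;> cases s <;> simp [mul_def, inv_def, rot, sg]

/-- The orbit of a rotation. -/
theorem rot_orbit {a b c d : ZMod m} {w : W m} (hw : w * rot a b * w⁻¹ = rot c d) :
    (c = a ∧ d = b) ∨ (c = -a ∧ d = -b) ∨ (c = b ∧ d = a) ∨ (c = -b ∧ d = -a) := by
  rw [conj_rot] at hw
  have h1 := congrArg W.i hw
  have h2 := congrArg W.j hw
  simp only [rot] at h1 h2
  subst h1 h2
  cases w.e <;> cases w.s <;> simp [sg]

theorem not_four (h4 : 8 ≤ m) : ((4 : ℕ) : ZMod m) ≠ 0 := fun e => by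
  rw [ZMod.natCast_eq_zero_iff] at e
  exact absurd (Nat.le_of_dvd (by norm_num) e) (by omega)

end CfsgLib.G2Cent
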