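/-
Centralisers in the model and the subgroup of even rotations.
-/
import Cfsg.Agent.Lib.G2Cent.Facts

set_option autoImplicit false
set_option linter.unusedSectionVars false

namespace CfsgLib.G2Cent

open CfsgLib.G2Sylow

variable {m h : ℕ} [NeZero m] (hm : m = 2 * h)

theorem card_le_of_inj {A : Subgroup (W m)} {α : Type*} [Finite α] (f : W m → α)
    (hf : ∀ a ∈ A, ∀ b ∈ A, f a = f b → a = b) : Nat.card A ≤ Nat.card α :=
  Nat.card_le_card_of_injective (fun a : A => f a) fun a b e => Subtype.ext (hf a a.2 b b.2 e)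

include hm in
theorem eq_of_double {x y : ZMod m} (e4 : x + x = y + y) (hiff : x.val < h ↔ y.val < h) : x = y := by
  rcases two_torsion hm (show (x - y) + (x - y) = 0 by linear_combination e4) with e5 | e5
  · exact sub_eq_zero.mp e5
  · exfalso
    have hx : x.val = (h + y.val) % m := by
      rw [show x = (h : ZMod m) + y by rw [← e5]; ring, ZMod.val_add, ZMod.val_natCast,
        Nat.mod_eq_of_lt (by have := NeZero.ne m; omega : h < m)]
    have := ZMod.val_lt y
    have := ZMod.val_lt x
    by_cases hlt : y.val < h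
    · rw [Nat.mod_eq_of_lt (by omega)] at hx
      omega
    · rw [Nat.mod_eq_sub_mod (by omega), Nat.mod_eq_of_lt (by omega)] at hx
      omega

include hm in
theorem cent_refl (i j : ZMod m) :
    Nat.card (Subgroup.centralizer ({CfsgLib.G2Sylow.refl i j} : Set (W m))) ≤ 16 := by
  classical
  refine (card_le_of_inj (α := Bool × Bool × Bool × Bool)
    (fun w => (w.e, w.s, decide (w.i.val < h), decide (w.j.val < h))) ?_).trans (le_of_eq (by simp))
  rintro ⟨a, b, e, s⟩ ha ⟨a', b', e', s'⟩ hb heq
  simp only [Prod.mk.injEq, decide_eq_decide] at heq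
  obtain ⟨rfl, rfl, hA, hB⟩ := heq
  have e2 := Subgroup.mem_centralizer_singleton_iff.mp ha
  have e3 := Subgroup.mem_centralizer_singleton_iff.mp hb
  have h1 : a + a = a' + a' ∧ b + b = b' + b' := by
    cases e <;> cases s <;> simp [mul_def, CfsgLib.G2Sylow.refl, sg] at e2 e3 <;>
      exact ⟨by linear_combination e2.1 - e3.1, by linear_combination e2.2 - e3.2⟩
  rw [eq_of_double hm h1.1 hA, eq_of_double hm h1.2 hB]

theorem cent_swp : Nat.card (Subgroup.centralizer ({swp} : Set (W m))) ≤ 4 * m := by
  refine (card_le_of_inj (α := Bool × Bool × ZMod m) (fun w => (w.e, w.s, w.i)) ?_).trans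
    (le_of_eq (by simp; ring))
  rintro ⟨a, b, e, s⟩ ha ⟨a', b', e', s'⟩ hb heq
  simp only [Prod.mk.injEq] at heq
  obtain ⟨rfl, rfl, rfl⟩ := heq
  have e2 := Subgroup.mem_centralizer_singleton_iff.mp ha
  have e3 := Subgroup.mem_centralizer_singleton_iff.mp hb
  cases e <;> cases s <;> simp [mul_def, swp, sg] at e2 e3 ⊢ <;> grind

theorem cent_swr : Nat.card (Subgroup.centralizer ({swr} : Set (W m))) ≤ 4 * m := by
  refine (card_le_of_inj (α := Bool × Bool × ZMod m) (fun w => (w.e, w.s, w.i)) ?_).trans
    (le_of_eq (by simp; ring))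
  rintro ⟨a, b, e, s⟩ ha ⟨a', b', e', s'⟩ hb heq
  simp only [Prod.mk.injEq] at heq
  obtain ⟨rfl, rfl, rfl⟩ := heq
  have e2 := Subgroup.mem_centralizer_singleton_iff.mp ha
  have e3 := Subgroup.mem_centralizer_singleton_iff.mp hb
  cases e <;> cases s <;> simp [mul_def, swr, sg] at e2 e3 ⊢ <;> grind

include hm in
/-- The even rotations. -/
theorem card_rotK (he : Even h) : 2 * Nat.card (rotK : Subgroup (W m)) = m * m := by
  have : m * m = Nat.card (ZMod m × ZMod m) := by simp
  rw [this]
  let g : ZMod m × ZMod m →+ ZMod 2 := AddMonoidHom.coprod (par hm).toAddMonoidHom (par hm).toAddMonoidHom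
  have hg : Function.Surjective g := fun x => by
    obtain ⟨y, hy⟩ := ZMod.castHom_surjective (hm ▸ Dvd.intro h rfl : 2 ∣ m) x
    exact ⟨(y, 0), by simp [g, par]; exact hy⟩
  have hk : Nat.card g.ker = Nat.card (rotK : Subgroup (W m)) := by
    refine Nat.card_congr
      { toFun := fun p => ⟨rot p.1.1 p.1.2, rfl, rfl,
          exists_half hm _ (by rw [map_add]; exact p.2)⟩
        invFun := fun w => ⟨(w.1.i, w.1.j), ?_⟩
        left_inv := fun p => rfl
        right_inv := ?_ }
    · obtain ⟨a, ha⟩ := w.2.2.2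
      show par hm w.1.i + par hm w.1.j = 0
      rw [← map_add, ha, par_add_self]
    · rintro ⟨⟨i, j, e, s⟩, he', hs', -⟩
      simp only at he' hs'
      subst he' hs'
      rfl
  have hidx : g.ker.index = 2 := by
    rw [AddSubgroup.index_ker, AddMonoidHom.range_eq_top.mpr hg, AddSubgroup.card_top, Nat.card_zmod]
  rw [← g.ker.card_mul_index, hidx, hk, mul_comm]

include hm in
/-- Abelian subgroups of even parity of the full order consist of rotations. -/
theorem rotK_unique (h8 : 8 ≤ m) (he : Even h) {A : Subgroup (W m)} (hA : A ≤ Kp)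
    (hc : ∀ a ∈ A, ∀ b ∈ A, a * b = b * a) (hcard : Nat.card A = Nat.card (rotK : Subgroup (W m))) : A = rotK := by
  classical
  have h2 := card_rotK hm he
  refine Subgroup.eq_of_le_of_card_ge (fun w hw => ?_) hcard.ge
  by_contra hnot
  have hsmall : Nat.card A ≤ 2 * m ∨ Nat.card A ≤ 16 := by
    by_cases hex : ∃ r ∈ A, r.e = true ∧ r.s = false
    · obtain ⟨⟨i, j, e, s⟩, hr, rfl, rfl⟩ := hex
      exact Or.inr ((Subgroup.card_le_of_le fun a ha =>
        Subgroup.mem_centralizer_singleton_iff.mpr (hc a ha _ hr)).trans (cent_refl hm i j))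
    · left
      push Not at hex
      obtain ⟨i, j, e, s⟩ := w
      cases s
      · cases e
        · exact absurd ⟨rfl, rfl, hA hw⟩ hnot
        · exact absurd rfl (hex _ hw rfl)
      refine (card_le_of_inj (α := Bool × ZMod m) (fun a => (a.s, a.i)) ?_).trans (le_of_eq (by simp))
      rintro ⟨a, b, e1, s1⟩ ha ⟨a', b', e1', s1'⟩ hb heq
      simp only [Prod.mk.injEq] at heq
      obtain ⟨rfl, rfl⟩ := heq
      have e2 := hc _ ha _ hw
      have e3 := hc _ hb _ hw
      have r1 := hex _ ha
      have r2 := hex _ hb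
      -- a flag with the exchange of the other kind would produce a reflection
      have r3 := hex _ (mul_mem ha hw)
      have r4 := hex _ (mul_mem hb hw)
      cases e <;> cases e1 <;> cases e1' <;> cases s1 <;> simp [mul_def, sg] at e2 e3 r1 r2 r3 r4 ⊢ <;> grind
  rcases hsmall with hs | hs <;> nlinarith

end CfsgLib.G2Cent
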