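/-
The elementary subgroup of order eight through a reflection of odd parity and its normaliser in the model.
-/
import Cfsg.Agent.Lib.G2Cent.Cent

set_option autoImplicit false
set_option linter.unusedSectionVars false

namespace CfsgLib.G2Cent

open CfsgLib.G2Sylow

variable {m h : ℕ} [NeZero m]

/-- The subgroup. -/
def Eo : Subgroup (W m) where
  carrier := {w | w.s = false ∧ w.j + w.j = 0 ∧ w.i + w.i = if w.e then 2 else 0}
  mul_mem' := by
    rintro ⟨i, j, e, s⟩ ⟨i', j', e', s'⟩ ⟨hs, hj, hi⟩ ⟨hs', hj', hi'⟩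
    simp only at hs hj hi hs' hj' hi'
    subst hs hs'
    cases e <;> cases e' <;> simp [mul_def, sg] at hi hi' ⊢ <;> grind
  one_mem' := by simp [one_def]
  inv_mem' := by
    rintro ⟨i, j, e, s⟩ ⟨hs, hj, hi⟩
    simp only at hs hj hi
    subst hs
    cases e <;> simp [inv_def, sg] at hi ⊢ <;> grind

theorem mem_Eo {w : W m} : w ∈ (Eo : Subgroup (W m)) ↔
    w.s = false ∧ w.j + w.j = 0 ∧ w.i + w.i = if w.e then 2 else 0 := Iff.rfl

/-- The rotations of order dividing four. -/
def A4 : Subgroup (W m) where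
  carrier := {w | w.e = false ∧ w.s = false ∧ w.i + w.i + (w.i + w.i) = 0 ∧ w.j + w.j + (w.j + w.j) = 0}
  mul_mem' := by
    rintro ⟨i, j, e, s⟩ ⟨i', j', e', s'⟩ ⟨he, hs, hi, hj⟩ ⟨he', hs', hi', hj'⟩
    simp only at he hs hi hj he' hs' hi' hj'
    subst he hs he' hs'
    simp [mul_def, sg]
    grind
  one_mem' := by simp [one_def]
  inv_mem' := by
    rintro ⟨i, j, e, s⟩ ⟨he, hs, hi, hj⟩
    simp only at he hs hi hj
    subst he hs
    simp [inv_def, sg]
    grind

theorem mem_A4 {w : W m} : w ∈ (A4 : Subgroup (W m)) ↔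
    w.e = false ∧ w.s = false ∧ w.i + w.i + (w.i + w.i) = 0 ∧ w.j + w.j + (w.j + w.j) = 0 := Iff.rfl

theorem A4_conj (w : W m) {a : W m} (ha : a ∈ (A4 : Subgroup (W m))) : w * a * w⁻¹ ∈ (A4 : Subgroup (W m)) := by
  obtain ⟨a, b, e, s⟩ := a
  obtain ⟨he, hs, hi, hj⟩ := ha
  simp only at he hs hi hj
  subst he hs
  rw [show (⟨a, b, false, false⟩ : W m) = rot a b from rfl, conj_rot]
  obtain ⟨i, j, e, s⟩ := w
  cases e <;> cases s <;> simp [mem_A4, rot, sg] <;> grind

variable (hm : m = 2 * h)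
include hm

theorem t_mem_Eo : CfsgLib.G2Sylow.refl (1 : ZMod m) 0 ∈ (Eo : Subgroup (W m)) := by
  refine ⟨rfl, by simp [CfsgLib.G2Sylow.refl], ?_⟩
  simp [CfsgLib.G2Sylow.refl]
  norm_num

theorem card_Eo (h2 : Even h) : Nat.card (Eo : Subgroup (W m)) ≤ 16 := by
  refine (Subgroup.card_le_of_le ?_).trans (cent_refl hm (1 : ZMod m) 0)
  rintro ⟨i, j, e, s⟩ ⟨hs, hj, hi⟩
  simp only at hs hj hi
  subst hs
  rw [Subgroup.mem_centralizer_singleton_iff]
  cases e <;> simp [mul_def, CfsgLib.G2Sylow.refl, sg] at hi ⊢ <;> grind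

/-- The centralisers of the reflections in the subgroup. -/
theorem cent_of_mem_Eo (h2 : Even h) {w : W m} (hw : w ∈ (Eo : Subgroup (W m))) (hwe : w.e = true) {v : W m}
    (hv : Commute v w) : v ∈ (Eo : Subgroup (W m)) := by
  obtain ⟨i, j, e, s⟩ := w
  obtain ⟨hs, hj, hi⟩ := hw
  simp only at hs hj hi hwe
  subst hs hwe
  simp at hi
  have hp : par hm (i + j) = 1 := by
    have pj : par hm j = 0 := by
      rcases two_torsion hm hj with rfl | rfl
      · exact map_zero _
      · exact par_h hm h2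
    have pi : par hm i = 1 := by
      rcases two_torsion hm (show (i - 1) + (i - 1) = 0 by linear_combination hi) with e | e
      · rw [sub_eq_zero.mp e, map_one]
      · rw [show i = (h : ZMod m) + 1 by linear_combination e, map_add, par_h hm h2, map_one, zero_add]
    rw [map_add, pi, pj, add_zero]
  obtain ⟨hs, -⟩ := comm_odd hm h2 hp hv
  obtain ⟨a, b, e, s⟩ := v
  simp only at hs
  subst hs
  have h1 := hv.eq
  cases e <;> simp [mul_def, CfsgLib.G2Sylow.refl, sg] at h1 <;> simp [mem_Eo] <;> grind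

theorem normal_Eo_s (h2 : Even h) {v : W m} (hv : v ∈ Subgroup.normalizer ((Eo : Subgroup (W m)) : Set (W m))) :
    v.s = false := by
  by_contra hs
  obtain ⟨a, b, e, s⟩ := v
  simp only [Bool.not_eq_false] at hs
  subst hs
  have h1 := (Subgroup.mem_normalizer_iff.mp hv _).mp (t_mem_Eo hm)
  have p0 : ∀ x : ZMod m, x + x = 2 → par hm x = 1 := fun x hx => by
    rcases two_torsion hm (show (x - 1) + (x - 1) = 0 by linear_combination hx) with e | e
    · rw [sub_eq_zero.mp e, map_one]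
    · rw [show x = (h : ZMod m) + 1 by linear_combination e, map_add, par_h hm h2, map_one, zero_add]
  cases e <;> simp [mem_Eo, mul_def, inv_def, CfsgLib.G2Sylow.refl, sg] at h1
  all_goals
    have hp := p0 _ h1.2
    simp only [map_add, map_sub, map_neg, map_one, map_zero, CharTwo.neg_eq, CharTwo.sub_eq_add, zero_add,
      add_zero] at hp
    exact absurd hp (by simp [CharTwo.add_self_eq_zero])

theorem normal_Eo_rot {v : W m} (hv : v ∈ Subgroup.normalizer ((Eo : Subgroup (W m)) : Set (W m)))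
    (h2 : Even h) (hne : v * v ≠ 1) : v ∈ (A4 : Subgroup (W m)) := by
  have hs := normal_Eo_s hm h2 hv
  have h1 := (Subgroup.mem_normalizer_iff.mp hv _).mp (t_mem_Eo hm)
  obtain ⟨a, b, e, s⟩ := v
  simp only at hs
  subst hs
  cases e
  · simp [mem_Eo, mul_def, inv_def, CfsgLib.G2Sylow.refl, sg] at h1
    simp [mem_A4]
    grind
  · exact absurd (by simp [mul_def, one_def, sg]) hne

theorem A4_le_normalizer : (A4 : Subgroup (W m)) ≤ Subgroup.normalizer ((Eo : Subgroup (W m)) : Set (W m)) := by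
  have key : ∀ a ∈ (A4 : Subgroup (W m)), ∀ w ∈ (Eo : Subgroup (W m)), a * w * a⁻¹ ∈ (Eo : Subgroup (W m)) := by
    rintro ⟨a, b, e, s⟩ ⟨he, hs, ha, hb⟩ ⟨i, j, e', s'⟩ ⟨hs', hj, hi⟩
    simp only at he hs ha hb hs' hj hi
    subst he hs hs'
    cases e' <;> simp [mem_Eo, mul_def, inv_def, sg] at hi ⊢ <;> grind
  intro a ha
  rw [Subgroup.mem_normalizer_iff]
  intro w
  refine ⟨key a ha w, fun hw => ?_⟩
  have := key a⁻¹ (inv_mem ha) _ hw
  simpa [mul_assoc] using this

theorem cent_A4 (h4 : 4 ≤ m) {q : ZMod m} (hq : q + q = (h : ZMod m)) {w : W m}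
    (h1 : Commute w (rot q 0)) (h2 : Commute w (rot 0 q)) : w.e = false ∧ w.s = false := by
  have hn := h_ne hm
  obtain ⟨a, b, e, s⟩ := w
  have e1 := h1.eq
  have e2 := h2.eq
  cases e <;> cases s <;> simp [mul_def, rot, sg] at e1 e2 ⊢ <;> grind

end CfsgLib.G2Cent
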