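/-
The centraliser of a central involution seen abstractly.
-/
import Cfsg.Agent.Lib.G2Cent.Cent
import Cfsg.Agent.Lib.G2Cent.Basic
import Cfsg.Agent.Lib.AfterFT.PairClosed.Cores

set_option autoImplicit false
set_option linter.unusedSectionVars false
set_option linter.style.haveILetI false

namespace CfsgLib.G2Cent

open CfsgLib.G2Sylow

universe u

/-- A group with the model as Sylow 2-subgroup, a central involution and trivial core, the involutions of even
parity being conjugate to one of them. -/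
structure Setup (X : Type u) [Group X] [Finite X] (m h k : ℕ) [NeZero m] where
  hm : m = 2 * h
  hk : h = 2 ^ (k + 1)
  κ : W m →* X
  inj : Function.Injective κ
  odd : ¬ 2 ∣ κ.range.index
  cz : ∀ x : X, Commute x (κ (zc h))
  core : Cfsg.oddCore X = ⊥
  fus : ∀ w ∈ (Kp : Subgroup (W m)), w * w = 1 → w ≠ 1 → w ≠ zc h →
    ∃ g : X, g * κ w * g⁻¹ = κ (uc h) ∧ ∀ v, Commute v w → g * κ v * g⁻¹ ∈ κ.range

namespace Setup

variable {X : Type u} [Group X] [Finite X] {m h k : ℕ} [NeZero m] (D : Setup X m h k)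

include D in
theorem he : Even h := ⟨2 ^ k, by rw [D.hk, pow_succ]; ring⟩

include D in
theorem h4 : 4 ≤ m := by
  have := D.hm; have := D.hk
  have : 1 ≤ 2 ^ k := Nat.one_le_two_pow
  have : h = 2 * 2 ^ k := by rw [D.hk, pow_succ]; ring
  omega

include D in
theorem m_eq : m = 2 ^ (k + 2) := by rw [D.hm, D.hk]; ring

include D in
theorem isPGroup_W : IsPGroup 2 (W m) :=
  IsPGroup.of_card (n := 2 + 2 * (k + 2)) (by rw [card_W, D.m_eq]; ring)

theorem isPGroup_map (A : Subgroup (W m)) : IsPGroup 2 (A.map D.κ) := (D.isPGroup_W.to_subgroup A).map _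

theorem isPGroup_range : IsPGroup 2 D.κ.range := by
  rw [MonoidHom.range_eq_map]
  exact D.isPGroup_map ⊤

/-- The Sylow subgroup. -/
noncomputable def S : Sylow 2 X :=
  haveI : Fact (Nat.Prime 2) := ⟨Nat.prime_two⟩
  D.isPGroup_range.toSylow D.odd

theorem coe_S : (D.S : Subgroup X) = D.κ.range := by
  rfl

theorem mem_S {x : X} : x ∈ (D.S : Subgroup X) ↔ ∃ w, D.κ w = x := by rw [D.coe_S]; rfl

theorem card_map (A : Subgroup (W m)) : Nat.card (A.map D.κ) = Nat.card A :=
  Subgroup.card_map_of_injective D.inj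

theorem card_S : Nat.card (D.S : Subgroup X) = Nat.card (W m) := by
  rw [D.coe_S, ← Nat.card_congr (MonoidHom.ofInjective D.inj).toEquiv]

/-- The exchanged setup. -/
def flip : Setup X m h k where
  hm := D.hm
  hk := D.hk
  κ := D.κ.comp (CfsgLib.G2Cent.flip : W m ≃* W m).toMonoidHom
  inj := D.inj.comp (CfsgLib.G2Cent.flip : W m ≃* W m).injective
  odd := by
    rw [MonoidHom.range_comp, MonoidHom.range_eq_top.mpr (CfsgLib.G2Cent.flip : W m ≃* W m).surjective,
      ← MonoidHom.range_eq_map]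
    exact D.odd
  cz x := by
    show Commute x (D.κ (CfsgLib.G2Cent.flip (zc h)))
    rw [flip_zc D.hm]
    exact D.cz x
  core := D.core
  fus w hw hw2 hw1 hwz := by
    obtain ⟨g, hg, hc⟩ := D.fus (CfsgLib.G2Cent.flip w) (flip_Kp.mpr hw) (by rw [← map_mul, hw2, map_one])
      (fun e => hw1 (CfsgLib.G2Cent.flip.injective (e.trans (map_one _).symm)))
      (fun e => hwz (CfsgLib.G2Cent.flip.injective (e.trans (flip_zc D.hm).symm)))
    refine ⟨g, ?_, fun v hv => ?_⟩
    · show g * D.κ (CfsgLib.G2Cent.flip w) * g⁻¹ = D.κ (CfsgLib.G2Cent.flip (uc h))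
      rw [flip_uc, hg]
    · obtain ⟨r, hr⟩ := hc (CfsgLib.G2Cent.flip v) (hv.map (CfsgLib.G2Cent.flip : W m ≃* W m).toMonoidHom)
      exact ⟨CfsgLib.G2Cent.flip r, by show D.κ (CfsgLib.G2Cent.flip (CfsgLib.G2Cent.flip r)) = _; rw [flip_flip, hr]; rfl⟩

theorem flip_κ (w : W m) : D.flip.κ w = D.κ (CfsgLib.G2Cent.flip w) := rfl

theorem z_ne : D.κ (zc h) ≠ 1 := fun e => zc_ne D.hm (D.inj (e.trans (map_one _).symm))

theorem z_sq : D.κ (zc h) * D.κ (zc h) = 1 := by rw [← map_mul, zc_sq D.hm, map_one]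

theorem conj_z (g : X) : g * D.κ (zc h) * g⁻¹ = D.κ (zc h) := by rw [(D.cz g).eq, mul_inv_cancel_right]

theorem eq_zc_of_conj {g : X} {v : W m} (e : g * D.κ (zc h) * g⁻¹ = D.κ v) : v = zc h :=
  D.inj (e.symm.trans (D.conj_z g))

/-- An image of an element keeps relations. -/
theorem sq_of_conj {g : X} {v w r : W m} (e : g * D.κ v * g⁻¹ = D.κ w) (hv : v * v = r) :
    g * D.κ r * g⁻¹ = D.κ (w * w) := by
  rw [map_mul, ← e, ← hv, map_mul]; group

theorem sq_zc_of_conj {g : X} {v w : W m} (e : g * D.κ v * g⁻¹ = D.κ w) (hv : v * v = zc h) : w * w = zc h :=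
  D.eq_zc_of_conj (D.sq_of_conj e hv)

theorem sq_one_of_conj {g : X} {v w : W m} (e : g * D.κ v * g⁻¹ = D.κ w) (hv : v * v = 1) : w * w = 1 :=
  D.inj (by rw [← D.sq_of_conj e hv]; simp)

theorem odd_eq_one {o : X} {H : Subgroup X} (hH : Odd (Nat.card H)) (ho : o ∈ H) {P : Subgroup X}
    (hP : IsPGroup 2 P) (hoP : o ∈ P) : o = 1 := by
  obtain ⟨j, hj⟩ := hP ⟨o, hoP⟩
  exact orderOf_eq_one_iff.mp (Nat.eq_one_of_dvd_coprimes ((Nat.coprime_two_left.mpr hH).pow_left j)
    (orderOf_dvd_of_pow_eq_one (congrArg Subtype.val hj)) (Subgroup.orderOf_dvd_natCard H ho))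

end Setup

end CfsgLib.G2Cent
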