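/-
The reflection of odd parity is conjugate to no element of even parity, and even parity is preserved.
-/
import Cfsg.Agent.Lib.G2Cent.Setup
import Cfsg.Agent.Lib.G2Cent.Elem
import Cfsg.Agent.S0111

set_option autoImplicit false
set_option linter.unusedSectionVars false
set_option linter.style.haveILetI false

namespace CfsgLib.G2Cent

open CfsgLib.G2Sylow CfsgLib.AfterFT.PairClosed

universe u

/-- The rotations. -/
def Rot {m : ℕ} : Subgroup (W m) where
  carrier := {w | w.e = false ∧ w.s = false}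
  mul_mem' := by rintro a b ⟨h1, h2⟩ ⟨g1, g2⟩; exact ⟨by simp [mul_def, h1, g1], by simp [mul_def, h2, g2]⟩
  one_mem' := ⟨rfl, rfl⟩
  inv_mem' := by rintro a ⟨h1, h2⟩; exact ⟨h1, h2⟩

theorem normalizer_le_normalizer_centralizer {G : Type u} [Group G] [Finite G] (H : Subgroup G) :
    Subgroup.normalizer (H : Set G) ≤ Subgroup.normalizer ((Subgroup.centralizer (H : Set G) : Subgroup G) : Set G) := by
  have key : ∀ g ∈ Subgroup.normalizer (H : Set G), ∀ c ∈ Subgroup.centralizer (H : Set G),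
      g * c * g⁻¹ ∈ Subgroup.centralizer (H : Set G) := by
    intro g hg c hc a ha
    have h1 := hc _ ((Subgroup.mem_normalizer_iff.mp (inv_mem hg) a).mp ha)
    rw [inv_inv] at h1
    calc a * (g * c * g⁻¹) = g * (g⁻¹ * a * g * c) * g⁻¹ := by group
      _ = _ := by rw [h1]; group
  intro g hg
  rw [Subgroup.mem_normalizer_iff]
  refine fun c => ⟨key g hg c, fun hc => ?_⟩
  simpa [mul_assoc] using key g⁻¹ (inv_mem hg) _ hc

theorem normalizer_le_normalizer_oddOf {G : Type u} [Group G] [Finite G] (H : Subgroup G) :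
    Subgroup.normalizer (H : Set G) ≤ Subgroup.normalizer ((oddOf H : Subgroup G) : Set G) := by
  have key : ∀ g ∈ Subgroup.normalizer (H : Set G), ∀ c ∈ oddOf H, g * c * g⁻¹ ∈ oddOf H := by
    intro g hg c hc
    have hN : (oddOf H).map (MulAut.conj g).toMonoidHom ≤ oddOf H := by
      refine le_oddOf ?_ ?_ ?_
      · rintro _ ⟨x, hx, rfl⟩
        exact (Subgroup.mem_normalizer_iff.mp hg x).mp (oddOf_le _ hx)
      · intro a ha
        have h1 : g⁻¹ * a * g ∈ H := by simpa using (Subgroup.mem_normalizer_iff.mp (inv_mem hg) a).mp ha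
        have h2 := le_normalizer_oddOf H h1
        rw [Subgroup.mem_normalizer_iff] at h2 ⊢
        intro x
        have hmem : ∀ y : G, y ∈ (oddOf H).map (MulAut.conj g).toMonoidHom ↔ g⁻¹ * y * g ∈ oddOf H := fun y =>
          ⟨by rintro ⟨c, hc, rfl⟩; simpa [mul_assoc] using hc, fun hy => ⟨_, hy, by simp [mul_assoc]⟩⟩
        rw [hmem, hmem]
        rw [show g⁻¹ * (a * x * a⁻¹) * g = g⁻¹ * a * g * (g⁻¹ * x * g) * (g⁻¹ * a * g)⁻¹ by group]
        exact h2 _
      · rw [Subgroup.card_map_of_injective (MulAut.conj g).injective]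
        exact odd_oddOf H
    exact hN ⟨c, hc, rfl⟩
  intro g hg
  rw [Subgroup.mem_normalizer_iff]
  refine fun c => ⟨key g hg c, fun hc => ?_⟩
  simpa [mul_assoc] using key g⁻¹ (inv_mem hg) _ hc

namespace Setup

variable {X : Type u} [Group X] [Finite X] {m h k : ℕ} [NeZero m] (D : Setup X m h k)

theorem Rot_comm {a b : W m} (ha : a ∈ (Rot : Subgroup (W m))) (hb : b ∈ (Rot : Subgroup (W m))) :
    a * b = b * a := by
  obtain ⟨i, j, e, s⟩ := a
  obtain ⟨i', j', e', s'⟩ := b
  obtain ⟨h1, h2⟩ := ha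
  obtain ⟨g1, g2⟩ := hb
  simp only at h1 h2 g1 g2
  subst h1 h2 g1 g2
  simp [mul_def, sg, add_comm]

theorem conj_mem_map_A4 {g : X} (hg : g ∈ Subgroup.normalizer (((A4 : Subgroup (W m)).map D.κ : Subgroup X) : Set X))
    {a : W m} (ha : a ∈ (A4 : Subgroup (W m))) : ∃ a' ∈ (A4 : Subgroup (W m)), g * D.κ a * g⁻¹ = D.κ a' := by
  obtain ⟨a', ha', e⟩ := (Subgroup.mem_normalizer_iff.mp hg (D.κ a)).mp ⟨a, ha, rfl⟩
  exact ⟨a', ha', e.symm⟩

theorem conj_mem_map {A : Subgroup (W m)} {g : X} (hg : g ∈ Subgroup.normalizer ((A.map D.κ : Subgroup X) : Set X))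
    {a : W m} (ha : a ∈ A) : ∃ a' ∈ A, g * D.κ a * g⁻¹ = D.κ a' := by
  obtain ⟨a', ha', e⟩ := (Subgroup.mem_normalizer_iff.mp hg (D.κ a)).mp ⟨a, ha, rfl⟩
  exact ⟨a', ha', e.symm⟩

/-- An element of odd order normalising a group of rotations with both involutions centralises it. -/
theorem odd_fix {A : Subgroup (W m)} (hAR : A ≤ Rot) (hu1 : (uc h : W m) ∈ A) (hu2 : rot 0 (h : ZMod m) ∈ A) {g : X}
    (hg : g ∈ Subgroup.normalizer ((A.map D.κ : Subgroup X) : Set X))
    (ho : Odd (orderOf g)) : g ∈ Subgroup.centralizer ((A.map D.κ : Subgroup X) : Set X) := by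
  have hfix : ∀ a ∈ A, a * a = 1 → g * D.κ a * g⁻¹ = D.κ a := by
    intro a ha ha2
    obtain ⟨i, j, e, s⟩ := a
    obtain ⟨he, hs⟩ := hAR ha
    simp only at he hs
    subst he hs
    simp [mul_def, one_def, sg] at ha2
    have inv : ∀ i j : ZMod m, i + i = 0 → j + j = 0 →
        (rot i j : W m) = 1 ∨ rot i j = zc h ∨ rot i j = uc h ∨ rot i j = rot 0 (h : ZMod m) := by
      intro i j hi hj
      rcases two_torsion D.hm hi with rfl | rfl <;> rcases two_torsion D.hm hj with rfl | rfl <;>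
        simp [rot, one_def]
    have hh := two_h D.hm
    have hu : ∀ v ∈ [(uc h : W m), rot 0 (h : ZMod m)], ∀ x : X,
        x ∈ Subgroup.normalizer ((A.map D.κ : Subgroup X) : Set X) →
          x * D.κ v * x⁻¹ = D.κ (uc h) ∨ x * D.κ v * x⁻¹ = D.κ (rot 0 (h : ZMod m)) := by
      intro v hv
      have hvA : v ∈ A ∧ v * v = 1 ∧ v ≠ 1 ∧ v ≠ zc h := by
        have := h_ne D.hm
        simp at hv
        rcases hv with rfl | rfl
        · exact ⟨hu1, by simp [rot, mul_def, one_def, sg, hh, this, Ne.symm this]⟩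
        · exact ⟨hu2, by simp [rot, mul_def, one_def, sg, hh, this, Ne.symm this]⟩
      have step : ∀ x : X, x ∈ Subgroup.normalizer ((A.map D.κ : Subgroup X) : Set X) →
          x * D.κ v * x⁻¹ = D.κ (uc h) ∨ x * D.κ v * x⁻¹ = D.κ (rot 0 (h : ZMod m)) := by
        intro x hx
        obtain ⟨a', ha', e⟩ := D.conj_mem_map hx hvA.1
        have h2 := D.sq_one_of_conj e hvA.2.1
        obtain ⟨i', j', e', s'⟩ := a'
        obtain ⟨he, hs⟩ := hAR ha'
        simp only at he hs
        subst he hs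
        simp [mul_def, one_def, sg] at h2
        rcases inv i' j' h2.1 h2.2 with e1 | e1 | e1 | e1 <;> rw [show (⟨i', j', false, false⟩ : W m) = rot i' j' from rfl, e1] at e
        · exact absurd (D.inj ((conj_eq_one_iff.mp (e.trans (map_one _))).trans (map_one _).symm)) hvA.2.2.1
        · refine absurd (D.inj ?_) hvA.2.2.2
          rw [← D.conj_z x] at e
          exact mul_left_cancel (mul_right_cancel e)
        · exact Or.inl e
        · exact Or.inr e
      exact step
    have hne : (uc h : W m) ≠ rot 0 (h : ZMod m) := fun e => h_ne D.hm (congrArg W.i e)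
    have hfx : ∀ v v' : W m, v ∈ [(uc h : W m), rot 0 (h : ZMod m)] → v' ∈ [(uc h : W m), rot 0 (h : ZMod m)] → v ≠ v' →
        g * D.κ v * g⁻¹ = D.κ v := by
      intro v v' hv hv' hvv
      have both : ∀ w ∈ [(uc h : W m), rot 0 (h : ZMod m)], g * D.κ w * g⁻¹ = D.κ v ∨ g * D.κ w * g⁻¹ = D.κ v' := by
        intro w hw
        have h1 := hu w hw g hg
        simp at hv hv'
        rcases hv with rfl | rfl <;> rcases hv' with rfl | rfl
        · exact absurd rfl hvv
        · exact h1
        · exact h1.symm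
        · exact absurd rfl hvv
      rcases both v hv with h1 | h1
      · exact h1
      have h2 : g * D.κ v' * g⁻¹ = D.κ v := (both v' hv').resolve_right fun h3 =>
        hvv (D.inj (mul_left_cancel (mul_right_cancel (h1.trans h3.symm))))
      have key : g * g * D.κ v * (g * g)⁻¹ = D.κ v := by
        rw [show g * g * D.κ v * (g * g)⁻¹ = g * (g * D.κ v * g⁻¹) * g⁻¹ by group, h1, h2]
      have hmem : g ∈ Subgroup.centralizer ({D.κ v} : Set X) := by
        refine CfsgLib.LocalFusion.mem_of_pow_two (K := Subgroup.centralizer {D.κ v}) ho (k := 1) ?_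
        rw [Subgroup.mem_centralizer_singleton_iff, pow_one, pow_two]
        calc g * g * D.κ v = g * g * D.κ v * (g * g)⁻¹ * (g * g) := by group
          _ = D.κ v * (g * g) := by rw [key]
      rw [Subgroup.mem_centralizer_singleton_iff.mp hmem, mul_inv_cancel_right]
    rcases inv i j ha2.1 ha2.2 with e1 | e1 | e1 | e1 <;>
      rw [show (⟨i, j, false, false⟩ : W m) = rot i j from rfl, e1]
    · simp
    · exact D.conj_z g
    · exact hfx _ _ (by simp) (by simp) hne
    · exact hfx _ _ (by simp) (by simp) hne.symm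
  intro a ha
  have := lift_fix (D.isPGroup_map A) (A := A.map D.κ) (by
    rintro _ ⟨a, ha, rfl⟩ _ ⟨b, hb, rfl⟩
    rw [← map_mul, ← map_mul, Rot_comm (m := m) (hAR ha) (hAR hb)]) ho
    (fun a ha => (Subgroup.mem_normalizer_iff.mp hg a).mp ha) (by
    rintro _ ⟨a, ha, rfl⟩ h2
    exact hfix a ha (D.inj (by rw [map_mul, h2, map_one]))) a ha
  calc a * g = g * a * g⁻¹ * g := by rw [this]
    _ = g * a := by group

theorem odd_fix_A4 {g : X} (hg : g ∈ Subgroup.normalizer (((A4 : Subgroup (W m)).map D.κ : Subgroup X) : Set X))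
    (ho : Odd (orderOf g)) : g ∈ Subgroup.centralizer (((A4 : Subgroup (W m)).map D.κ : Subgroup X) : Set X) :=
  D.odd_fix (A := A4) (fun _ ha => ⟨ha.1, ha.2.1⟩) (by simp [mem_A4, rot, two_h D.hm]) (by simp [mem_A4, rot, two_h D.hm]) hg ho

theorem S_le_N4 : (D.S : Subgroup X) ≤ Subgroup.normalizer (((A4 : Subgroup (W m)).map D.κ : Subgroup X) : Set X) := by
  intro x hx
  obtain ⟨w, rfl⟩ := D.mem_S.mp hx
  rw [Subgroup.mem_normalizer_iff]
  refine fun y => ⟨?_, ?_⟩
  · rintro ⟨a, ha, rfl⟩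
    exact ⟨_, A4_conj w ha, by simp⟩
  · rintro ⟨a, ha, e⟩
    refine ⟨w⁻¹ * a * w⁻¹⁻¹, A4_conj w⁻¹ ha, ?_⟩
    rw [map_mul, map_mul, e]
    simp [mul_assoc]

/-- The normaliser of the rotations of order dividing four. -/
theorem normalizer_A4 {g : X}
    (hg : g ∈ Subgroup.normalizer (((A4 : Subgroup (W m)).map D.κ : Subgroup X) : Set X)) :
    ∃ w : W m, ∃ o ∈ oddOf (Subgroup.centralizer (((A4 : Subgroup (W m)).map D.κ : Subgroup X) : Set X)),
      g = D.κ w * o := by
  classical
  haveI : Fact (Nat.Prime 2) := ⟨Nat.prime_two⟩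
  obtain ⟨q, hq⟩ := exists_quarter D.hm D.he
  set A : Subgroup X := (A4 : Subgroup (W m)).map D.κ
  set C := Subgroup.centralizer (A : Set X)
  obtain ⟨s, hs, c, hc, rfl⟩ := exists_mul_odd D.S D.S_le_N4 (C := C) (fun x hx => D.odd_fix_A4 hx) hg
  obtain ⟨w, rfl⟩ := D.mem_S.mp hs
  set R : Subgroup X := (Rot : Subgroup (W m)).map D.κ
  have hRC : R ≤ C := by
    rintro _ ⟨r, hr, rfl⟩ _ ⟨a, ha, rfl⟩
    rw [← map_mul, ← map_mul, Rot_comm (m := m) hr ⟨ha.1, ha.2.1⟩]
  -- the rotations form a Sylow subgroup of the centraliser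
  obtain ⟨T, hT⟩ := ((D.isPGroup_map Rot).of_equiv (Subgroup.subgroupOfEquivOfLe hRC).symm).exists_le_sylow
  have hTR : (T : Subgroup C) = R.subgroupOf C := by
    refine (Subgroup.eq_of_le_of_card_ge hT ?_).symm
    obtain ⟨n, hn⟩ := into (D.S.subtype D.S_le_N4)
      (Q := ((T : Subgroup C).map C.subtype).subgroupOf (Subgroup.normalizer (A : Set X)))
      ((T.2.map _).of_equiv (Subgroup.subgroupOfEquivOfLe ((Subgroup.map_subtype_le _).trans
        (Subgroup.centralizer_le_normalizer _))).symm)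
    have himg : ∀ t : (T : Subgroup C), ∃ r ∈ (Rot : Subgroup (W m)), D.κ r = (n : X) * t * (n : X)⁻¹ := by
      rintro ⟨⟨t, htC⟩, ht⟩
      have h1 := hn ⟨t, Subgroup.centralizer_le_normalizer _ htC⟩ ⟨⟨t, htC⟩, ht, rfl⟩
      obtain ⟨r, hr⟩ := D.mem_S.mp h1
      have hrC : ∀ a ∈ (A4 : Subgroup (W m)), Commute r a := fun a ha => by
        obtain ⟨a', ha', e⟩ := D.conj_mem_map_A4 (inv_mem n.2) ha
        refine D.inj ?_
        rw [map_mul, map_mul, hr]
        have h3 : D.κ a = (n : X) * D.κ a' * (n : X)⁻¹ := by rw [← e]; simp [mul_assoc]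
        rw [h3]
        exact ((show Commute t (D.κ a') from (htC _ ⟨a', ha', rfl⟩).symm).map
          (MulAut.conj (n : X)).toMonoidHom).eq
      have hh := two_h D.hm
      have := cent_A4 D.hm D.h4 hq (hrC (rot q 0) (by simp [mem_A4, rot, hq, hh]))
        (hrC (rot 0 q) (by simp [mem_A4, rot, hq, hh]))
      exact ⟨r, this, hr⟩
    choose f hf hfe using himg
    rw [Nat.card_congr (Subgroup.subgroupOfEquivOfLe hRC).toEquiv, D.card_map]
    refine Nat.card_le_card_of_injective (fun t => (⟨f t, hf t⟩ : (Rot : Subgroup (W m)))) fun t t' e => ?_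
    have e' := congrArg (fun r : (Rot : Subgroup (W m)) => D.κ r) e
    simp only [hfe] at e'
    exact Subtype.ext (Subtype.ext (mul_left_cancel (mul_right_cancel e')))
  have hab : ∀ a ∈ (T : Subgroup C), ∀ b ∈ (T : Subgroup C), a * b = b * a := by
    rw [hTR]
    intro a ha b hb
    obtain ⟨r, hr, er⟩ := Subgroup.mem_subgroupOf.mp ha
    obtain ⟨r', hr', er'⟩ := Subgroup.mem_subgroupOf.mp hb
    refine Subtype.ext ?_
    show (a : X) * b = b * a
    rw [← er, ← er', ← map_mul, ← map_mul, Rot_comm (m := m) hr hr']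
  have hN : Subgroup.normalizer ((T : Subgroup C) : Set C) ≤ Subgroup.centralizer ((T : Subgroup C) : Set C) := by
    intro x hx
    obtain ⟨s, hs, o, ho, rfl⟩ := exists_mul_odd (C := Subgroup.centralizer ((T : Subgroup C) : Set C)) T
      Subgroup.le_normalizer (fun y hy hyo => by
        intro a ha
        have := lift_fix T.2 hab hyo (fun a ha => (Subgroup.mem_normalizer_iff.mp hy a).mp ha) (fun a ha h2 => by
          rw [hTR] at ha
          obtain ⟨r, hr, er⟩ := Subgroup.mem_subgroupOf.mp ha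
          have hrA : r ∈ (A4 : Subgroup (W m)) := by
            have : r * r = 1 := D.inj (by rw [map_mul, er, map_one]; exact congrArg Subtype.val h2)
            obtain ⟨i, j, e, s⟩ := r
            obtain ⟨he, hs⟩ := hr
            simp only at he hs
            subst he hs
            simp [mul_def, one_def, sg] at this
            simp [mem_A4, this]
          refine Subtype.ext ?_
          show (y : X) * a * (y : X)⁻¹ = a
          rw [← er, ← y.2 _ ⟨r, hrA, rfl⟩, mul_inv_cancel_right]) a ha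
        calc a * y = y * a * y⁻¹ * y := by rw [this]
          _ = y * a := by group) hx
    refine mul_mem (fun a ha => hab a ha s hs) ho
  set O : Subgroup C := (MonoidHom.transferSylow T hN).ker
  have hO : O.map C.subtype ≤ oddOf C := Subgroup.map_mono (CfsgLib.le_oddCore (by
    rw [← Nat.not_even_iff_odd, even_iff_two_dvd]
    exact MonoidHom.not_dvd_card_ker_transferSylow T hN))
  obtain ⟨⟨⟨r, hr⟩, o⟩, hro⟩ := (MonoidHom.ker_transferSylow_isComplement' T hN).symm.2 ⟨c, hc⟩
  rw [SetLike.mem_coe, hTR] at hr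
  obtain ⟨r', hr', er⟩ := Subgroup.mem_subgroupOf.mp hr
  refine ⟨w * r', ((o : C) : X), hO ⟨o, o.2, rfl⟩, ?_⟩
  have e2 : (r : X) * ((o : C) : X) = c := congrArg Subtype.val hro
  rw [map_mul, er, ← e2, mul_assoc]

/-- The normaliser of the elementary subgroup has the expected Sylow subgroup. -/
theorem sylow_NE : ¬ 2 ∣ ((Subgroup.normalizer ((Eo : Subgroup (W m)) : Set (W m))).map D.κ).relIndex
    (Subgroup.normalizer (((Eo : Subgroup (W m)).map D.κ : Subgroup X) : Set X)) := by
  classical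
  haveI : Fact (Nat.Prime 2) := ⟨Nat.prime_two⟩
  set N0 := Subgroup.normalizer ((Eo : Subgroup (W m)) : Set (W m))
  set E := (Eo : Subgroup (W m)).map D.κ
  set NE := Subgroup.normalizer (E : Set X)
  have hle : N0.map D.κ ≤ NE := Subgroup.le_normalizer_map D.κ
  obtain ⟨T, hT⟩ := ((D.isPGroup_map N0).of_equiv (Subgroup.subgroupOfEquivOfLe hle).symm).exists_le_sylow
  by_cases hcard : Nat.card (T : Subgroup NE) ≤ Nat.card N0
  · have e : (N0.map D.κ).subgroupOf NE = (T : Subgroup NE) := Subgroup.eq_of_le_of_card_ge hT (by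
      rwa [Nat.card_congr (Subgroup.subgroupOfEquivOfLe hle).toEquiv, D.card_map])
    rw [Subgroup.relIndex, e]
    exact T.not_dvd_index
  exfalso
  obtain ⟨P, hP, hPN, hBP, hlt, hnorm⟩ := grow (D.isPGroup_map N0) hle (T.2.map NE.subtype)
    (Subgroup.map_subtype_le _) (by rw [D.card_map, Subgroup.card_map_of_injective NE.subtype_injective]; omega)
  obtain ⟨q, hq⟩ := exists_quarter D.hm D.he
  have hh := two_h D.hm
  have hn := h_ne D.hm
  have hA4 : ∀ y ∈ P, y ∈ Subgroup.normalizer (((A4 : Subgroup (W m)).map D.κ : Subgroup X) : Set X) := by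
    have key : ∀ y ∈ P, ∀ a ∈ (A4 : Subgroup (W m)), y * D.κ a * y⁻¹ ∈ (A4 : Subgroup (W m)).map D.κ := by
      intro y hy
      have big : ∀ a ∈ (A4 : Subgroup (W m)), a * a ≠ 1 → y * D.κ a * y⁻¹ ∈ (A4 : Subgroup (W m)).map D.κ := by
        intro a ha ha2
        obtain ⟨v, hv, e⟩ := hnorm y hy _ ⟨a, A4_le_normalizer D.hm ha, rfl⟩
        refine ⟨v, normal_Eo_rot D.hm hv D.he (fun h1 => ha2 ?_), e⟩
        have h3 : D.κ (a * a) = y⁻¹ * D.κ (v * v) * y := by rw [map_mul, map_mul, e]; group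
        rw [h1, map_one] at h3
        exact D.inj (h3.trans (by simp))
      intro a ha
      by_cases ha2 : a * a = 1
      · have hqA : (rot q q : W m) ∈ (A4 : Subgroup (W m)) := by simp [mem_A4, rot, hq, hh]
        have h1 : (rot q q : W m) * rot q q ≠ 1 := by simp [rot, mul_def, one_def, sg, hq, hn]
        have h2 : a * rot q q * (a * rot q q) ≠ 1 := by
          have hc := Rot_comm (m := m) (a := rot q q) (b := a) ⟨rfl, rfl⟩ ⟨ha.1, ha.2.1⟩
          rw [mul_assoc, ← mul_assoc (rot q q) a, hc, mul_assoc a (rot q q), ← mul_assoc a, ha2, one_mul]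
          exact h1
        have := mul_mem (big _ (mul_mem ha hqA) h2) (inv_mem (big _ hqA h1))
        convert this using 1
        simp [mul_assoc]
      · exact big a ha ha2
    intro y hy
    rw [Subgroup.mem_normalizer_iff]
    refine fun x => ⟨?_, fun hx => ?_⟩
    · rintro ⟨a, ha, rfl⟩
      exact key y hy a ha
    · obtain ⟨a, ha, e⟩ := hx
      have := key y⁻¹ (inv_mem hy) a ha
      rwa [e, show y⁻¹ * (y * x * y⁻¹) * y⁻¹⁻¹ = x by group] at this
  set C := Subgroup.centralizer (((A4 : Subgroup (W m)).map D.κ : Subgroup X) : Set X)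
  set O := oddOf C
  have hex : ∀ y : P, ∃ w ∈ N0, ∃ o ∈ O, (y : X) = D.κ w * o := by
    rintro ⟨y, hy⟩
    obtain ⟨w, o, ho, rfl⟩ := D.normalizer_A4 (hA4 y hy)
    refine ⟨w, ?_, o, ho, rfl⟩
    have key : ∀ a ∈ (Eo : Subgroup (W m)), w * a * w⁻¹ ∈ (Eo : Subgroup (W m)) := by
      intro a ha
      obtain ⟨a', ha', e⟩ := (Subgroup.mem_normalizer_iff.mp (hPN hy) (D.κ a)).mp ⟨a, ha, rfl⟩
      have haN : D.κ a ∈ Subgroup.normalizer (O : Set X) := by
        have h4 : D.κ a ∈ Subgroup.normalizer (((A4 : Subgroup (W m)).map D.κ : Subgroup X) : Set X) :=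
          D.S_le_N4 (D.mem_S.mpr ⟨a, rfl⟩)
        exact normalizer_le_normalizer_oddOf _ (normalizer_le_normalizer_centralizer _ h4)
      have hoO : o * D.κ a * o⁻¹ * (D.κ a)⁻¹ ∈ O := by
        have := mul_mem ho ((Subgroup.mem_normalizer_iff.mp haN _).mp (inv_mem ho))
        rw [show o * D.κ a * o⁻¹ * (D.κ a)⁻¹ = o * (D.κ a * o⁻¹ * (D.κ a)⁻¹) by group]
        exact this
      have e2 : D.κ (w⁻¹ * a' * w * a⁻¹) = o * D.κ a * o⁻¹ * (D.κ a)⁻¹ := by
        simp only [map_mul, map_inv, e]; group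
      have h1 := Setup.odd_eq_one (odd_oddOf C) hoO D.isPGroup_range ⟨_, e2⟩
      rw [← e2, ← map_one D.κ] at h1
      have h2 := D.inj h1
      have : w * a * w⁻¹ = a' := by
        rw [show a = w⁻¹ * a' * w by rw [← mul_one a, ← inv_mul_cancel a, ← mul_assoc]; rw [mul_inv_eq_one.mp h2]; group]
        group
      rw [this]
      exact ha'
    rw [Subgroup.mem_normalizer_iff]
    intro a
    refine ⟨key a, fun ha => ?_⟩
    have hf : Function.Surjective (fun a : (Eo : Subgroup (W m)) => (⟨w * a * w⁻¹, key a a.2⟩ : (Eo : Subgroup (W m)))) :=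
      Finite.surjective_of_injective fun x x' e => Subtype.ext (mul_left_cancel (mul_right_cancel (congrArg Subtype.val e)))
    obtain ⟨b, hb⟩ := hf ⟨_, ha⟩
    have := mul_left_cancel (mul_right_cancel (congrArg Subtype.val hb))
    exact this ▸ b.2
  choose f hf o ho hfo using hex
  have : Nat.card P ≤ Nat.card N0 := by
    refine Nat.card_le_card_of_injective (fun y => (⟨f y, hf y⟩ : N0)) fun y y' e => ?_
    have e' : f y = f y' := congrArg Subtype.val e
    have hOP : (o y)⁻¹ * o y' ∈ P := by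
      have := mul_mem (inv_mem y.2) y'.2
      rw [hfo y, hfo y', e'] at this
      convert this using 1
      group
    have h1 := Setup.odd_eq_one (odd_oddOf C) (mul_mem (inv_mem (ho y)) (ho y')) hP hOP
    exact Subtype.ext (by rw [hfo y, hfo y', e', inv_mul_eq_one.mp h1])
  rw [D.card_map] at hlt
  omega

end Setup

end CfsgLib.G2Cent
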