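/-
Even parity is preserved by conjugation.
-/
import Cfsg.Agent.Lib.G2Cent.Split

set_option autoImplicit false
set_option linter.unusedSectionVars false
set_option linter.style.haveILetI false

namespace CfsgLib.G2Cent

open CfsgLib.G2Sylow

universe u

namespace Setup

variable {X : Type u} [Group X] [Finite X] {m h k : ℕ} [NeZero m] (D : Setup X m h k)

/-- The largest 2-subgroups centralising the reflection of odd parity. -/
theorem cent_t {Q : Subgroup X} (hQ : IsPGroup 2 Q)
    (hQt : Q ≤ Subgroup.centralizer {D.κ (CfsgLib.G2Sylow.refl 1 0)}) :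
    Nat.card Q ≤ Nat.card (Eo : Subgroup (W m)) := by
  classical
  haveI : Fact (Nat.Prime 2) := ⟨Nat.prime_two⟩
  have hm := D.hm
  have he := D.he
  set t : W m := CfsgLib.G2Sylow.refl 1 0 with htdef
  set E := (Eo : Subgroup (W m)).map D.κ with hE
  have hte : t ∈ (Eo : Subgroup (W m)) := t_mem_Eo hm
  by_contra hgt
  have hEc : E ≤ Subgroup.centralizer {D.κ t} := by
    rintro _ ⟨a, ha, rfl⟩
    rw [Subgroup.mem_centralizer_singleton_iff, ← map_mul, ← map_mul]
    obtain ⟨i, j, e, s⟩ := a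
    obtain ⟨hs, hj, hi⟩ := ha
    simp only at hs hj hi
    subst hs
    congr 1
    cases e <;> simp [htdef, mul_def, CfsgLib.G2Sylow.refl, sg] at hi ⊢ <;> grind
  obtain ⟨P, hP, hPc, hEP, hlt, hnorm⟩ := grow (D.isPGroup_map Eo) hEc hQ hQt (by rw [D.card_map]; omega)
  rw [D.card_map] at hlt
  set NE := Subgroup.normalizer (E : Set X) with hNE
  have hPN : P ≤ NE := by
    intro y hy
    rw [hNE, Subgroup.mem_normalizer_iff]
    refine fun a => ⟨hnorm y hy a, fun ha => ?_⟩
    have := hnorm y⁻¹ (inv_mem hy) _ ha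
    rwa [show y⁻¹ * (y * a * y⁻¹) * y⁻¹⁻¹ = a by group] at this
  set N0 := Subgroup.normalizer ((Eo : Subgroup (W m)) : Set (W m)) with hN0
  have hle : N0.map D.κ ≤ NE := Subgroup.le_normalizer_map D.κ
  have hsyl := D.sylow_NE
  let R : Sylow 2 NE := ((D.isPGroup_map N0).of_equiv (Subgroup.subgroupOfEquivOfLe hle).symm).toSylow hsyl
  obtain ⟨n, hn⟩ := into R (hP.of_equiv (Subgroup.subgroupOfEquivOfLe hPN).symm)
  have himg : ∀ y ∈ P, ∃ v ∈ N0, D.κ v = (n : X) * y * (n : X)⁻¹ := fun y hy =>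
    Subgroup.mem_subgroupOf.mp (hn ⟨y, hPN hy⟩ (Subgroup.mem_subgroupOf.mpr hy))
  choose! f hf hfe using himg
  have hEt : D.κ t ∈ P := hEP ⟨t, hte, rfl⟩
  set w := f (D.κ t) with hwdef
  have hwE : w ∈ (Eo : Subgroup (W m)) := by
    obtain ⟨a, ha, e⟩ := (Subgroup.mem_normalizer_iff.mp n.2 _).mp ⟨t, hte, rfl⟩
    have : a = w := D.inj (e.trans (hfe _ hEt).symm)
    exact this ▸ ha
  have hw2 : w * w = 1 := by
    refine D.sq_one_of_conj (hfe _ hEt).symm ?_
    simp [htdef, mul_def, one_def, CfsgLib.G2Sylow.refl, sg]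
  cases hwe : w.e
  · -- a rotation
    obtain ⟨i, j, e, s⟩ := w
    obtain ⟨hs, hj, hi⟩ := hwE
    simp only at hwe hs hj hi
    subst hwe hs
    simp at hi
    have heq : D.κ ⟨i, j, false, false⟩ = (n : X) * D.κ t * (n : X)⁻¹ := by rw [hwdef]; exact hfe _ hEt
    have ht1 : D.κ t ≠ 1 := fun e => by
      have := congrArg W.e (D.inj (e.trans (map_one _).symm))
      simp [htdef, CfsgLib.G2Sylow.refl, one_def] at this
    have htz : D.κ t ≠ D.κ (zc h) := fun e => by
      have := congrArg W.e (D.inj e)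
      simp [htdef, CfsgLib.G2Sylow.refl, rot] at this
    obtain ⟨q, hq⟩ := exists_quarter hm he
    have hqN : (rot q q : W m) ∈ N0 := A4_le_normalizer hm (by simp [mem_A4, rot, hq, two_h hm])
    have hconj : (rot q q : W m) * t * (rot q q)⁻¹ = t * zc h := by
      rw [htdef, conj_refl_rot, hq]
      simp [CfsgLib.G2Sylow.refl, rot, mul_def, sg, neg_h hm]
    have hn' : (n : X) * D.κ (rot q q) * (n : X)⁻¹ ∈ NE :=
      mul_mem (mul_mem n.2 (hle ⟨_, hqN, rfl⟩)) (inv_mem n.2)
    have hmove : (n : X) * D.κ (rot q q) * (n : X)⁻¹ * D.κ ⟨i, j, false, false⟩ *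
        ((n : X) * D.κ (rot q q) * (n : X)⁻¹)⁻¹ = D.κ ⟨i, j, false, false⟩ * D.κ (zc h) := by
      rw [heq, show (n : X) * D.κ (rot q q) * (n : X)⁻¹ * ((n : X) * D.κ t * (n : X)⁻¹) *
        ((n : X) * D.κ (rot q q) * (n : X)⁻¹)⁻¹ = (n : X) * (D.κ (rot q q) * D.κ t * (D.κ (rot q q))⁻¹) * (n : X)⁻¹ by
        group, ← map_inv, ← map_mul, ← map_mul, hconj, map_mul]
      calc (n : X) * (D.κ t * D.κ (zc h)) * (n : X)⁻¹ = (n : X) * D.κ t * (D.κ (zc h) * (n : X)⁻¹) := by group
        _ = _ := by rw [← (D.cz (n : X)⁻¹).eq, mul_assoc, mul_assoc, mul_assoc]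
    have hcent : ∀ v ∈ N0.map D.κ, Commute v (D.κ ⟨i, j, false, false⟩) := by
      rintro _ ⟨v, hv, rfl⟩
      refine (show Commute v ⟨i, j, false, false⟩ from ?_).map D.κ
      have hs := normal_Eo_s hm he hv
      obtain ⟨a, b, e, s⟩ := v
      simp only at hs
      subst hs
      cases e <;> simp [Commute, SemiconjBy, mul_def, sg, add_comm] <;> grind
    exact odd_orbit hle D.sylow_NE (fun x _ => D.cz x) D.z_sq D.z_ne hcent hn' hmove
  · -- a reflection
    have hinj : Function.Injective (fun y : P =>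
        (⟨f y, cent_of_mem_Eo hm he hwE hwe (v := f y) (D.inj (by
          rw [map_mul, map_mul, hwdef, hfe _ y.2, hfe _ hEt]
          have hc : Commute (y : X) (D.κ t) := Subgroup.mem_centralizer_singleton_iff.mp (hPc y.2)
          exact (hc.map (MulAut.conj (n : X)).toMonoidHom).eq))⟩ : (Eo : Subgroup (W m)))) := by
      intro y y' e
      have e' := congrArg (fun a : (Eo : Subgroup (W m)) => D.κ a) e
      simp only [hfe _ y.2, hfe _ y'.2] at e'
      exact Subtype.ext (mul_left_cancel (mul_right_cancel e'))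
    have := Nat.card_le_card_of_injective _ hinj
    omega

/-- The reflection of odd parity has no conjugate of even parity. -/
theorem no_conj (g : X) {w : W m} (hw : w ∈ (Kp : Subgroup (W m))) :
    g * D.κ (CfsgLib.G2Sylow.refl 1 0) * g⁻¹ ≠ D.κ w := by
  classical
  intro e
  have hm := D.hm
  set t : W m := CfsgLib.G2Sylow.refl 1 0 with htdef
  have ht2 : t * t = 1 := by simp [htdef, mul_def, one_def, CfsgLib.G2Sylow.refl, sg]
  have hw2 := D.sq_one_of_conj e ht2
  have hw1 : w ≠ 1 := fun h1 => by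
    rw [h1, map_one, conj_eq_one_iff] at e
    have := congrArg W.e (D.inj (e.trans (map_one _).symm))
    simp [htdef, CfsgLib.G2Sylow.refl, one_def] at this
  have hwz : w ≠ zc h := fun h1 => by
    rw [h1, ← D.conj_z g] at e
    have := congrArg W.e (D.inj (mul_left_cancel (mul_right_cancel e)))
    simp [htdef, CfsgLib.G2Sylow.refl, rot] at this
  obtain ⟨g', hg', -⟩ := D.fus w hw hw2 hw1 hwz
  set c := g' * g
  have hc : c * D.κ t * c⁻¹ = D.κ (uc h) := by rw [← hg', ← e]; simp [c, mul_assoc]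
  set Q : Subgroup X := ((Ks : Subgroup (W m)).map D.κ).map (MulAut.conj c⁻¹).toMonoidHom
  have hQt : Q ≤ Subgroup.centralizer {D.κ t} := by
    rintro _ ⟨_, ⟨v, hv, rfl⟩, rfl⟩
    rw [Subgroup.mem_centralizer_singleton_iff]
    have hcv : Commute v (uc h : W m) := by
      obtain ⟨a, b, e, s⟩ := v
      have hn := neg_h hm
      replace hv : s = false := hv
      subst hv
      cases e <;> simp [Commute, SemiconjBy, mul_def, rot, sg, hn, add_comm]
    have h2 := (hcv.map D.κ).map (MulAut.conj c⁻¹).toMonoidHom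
    have h3 : (MulAut.conj c⁻¹).toMonoidHom (D.κ (uc h)) = D.κ t := by rw [← hc]; simp [mul_assoc]
    rw [h3] at h2
    exact h2.eq
  have hb := D.cent_t (Q := Q) ((D.isPGroup_map _).map _) hQt
  rw [Subgroup.card_map_of_injective (MulAut.conj c⁻¹).injective, D.card_map] at hb
  have h1 := (Ks : Subgroup (W m)).card_mul_index
  rw [index_Ks, card_W] at h1
  have h2 := card_Eo hm D.he
  have := D.h4
  nlinarith

/-- The elements of even parity lie in a normal subgroup not containing the reflection. -/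
theorem exists_M : ∃ M : Subgroup X, M.Normal ∧ ∀ w : W m, D.κ w ∈ M ↔ w ∈ (Kp : Subgroup (W m)) := by
  classical
  have hm := D.hm
  have he := D.he
  set t : W m := CfsgLib.G2Sylow.refl 1 0 with htdef
  have htK : t ∉ (Kp : Subgroup (W m)) := by
    rintro ⟨a, ha⟩
    simp [htdef, CfsgLib.G2Sylow.refl] at ha
    have := congrArg (par hm) ha
    rw [par_add_self, map_one] at this
    exact one_ne_zero this
  have hmul : ∀ b : W m, b * t ∈ (Kp : Subgroup (W m)) ↔ b ∉ (Kp : Subgroup (W m)) := by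
    rintro ⟨i, j, e, s⟩
    have key : ∀ x : ZMod m, (∃ a, x = a + a) ↔ par hm x = 0 := fun x =>
      ⟨fun ⟨a, ha⟩ => by rw [ha, par_add_self], exists_half hm x⟩
    simp only [mem_Kp, key]
    cases e <;> cases s <;> simp [mul_def, htdef, CfsgLib.G2Sylow.refl, sg, map_add, CharTwo.neg_eq] <;>
      generalize par hm i = a <;> generalize par hm j = b <;> revert a b <;> decide
  have hidx : (Kp : Subgroup (W m)).index = 2 := by
    refine Subgroup.index_eq_two_iff.mpr ⟨t, fun b => ?_⟩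
    by_cases hb : b ∈ (Kp : Subgroup (W m))
    · exact Or.inr ⟨hb, fun h => (hmul b).mp h hb⟩
    · exact Or.inl ⟨(hmul b).mpr hb, hb⟩
  have hle : (Kp : Subgroup (W m)).map D.κ ≤ (D.S : Subgroup X) := by
    rw [D.coe_S]; exact Subgroup.map_le_range _ _
  have hrel : ((Kp : Subgroup (W m)).map D.κ).relIndex (D.S : Subgroup X) = 2 := by
    rw [D.coe_S, MonoidHom.range_eq_map, Subgroup.relIndex_map_map_of_injective _ _ D.inj,
      Subgroup.relIndex_top_right, hidx]
  have hto : orderOf (D.κ t) = 2 := by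
    rw [orderOf_injective D.κ D.inj]
    exact orderOf_eq_prime (by simp [htdef, sq, mul_def, one_def, CfsgLib.G2Sylow.refl, sg])
      (fun e => by simp [htdef, CfsgLib.G2Sylow.refl, one_def] at e)
  rcases Cfsg.Agent.S0111.result D.S _ hle hrel (D.κ t) hto (D.mem_S.mpr ⟨t, rfl⟩)
    (fun ⟨v, hv, e⟩ => htK (D.inj e ▸ hv)) with ⟨M, hM, hM2, htM⟩ | ⟨g, v, hv, e⟩
  · have two : ∀ a b : X, a * b ∈ M ↔ (a ∈ M ↔ b ∈ M) := fun a b => Subgroup.mul_mem_iff_of_index_two hM2
    -- non-central involutions agree with the basic one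
    have agree : ∀ w ∈ (Kp : Subgroup (W m)), w * w = 1 → w ≠ 1 → w ≠ zc h → (D.κ w ∈ M ↔ D.κ (uc h) ∈ M) := by
      intro w hw h2 h1 hz
      obtain ⟨g, hg, -⟩ := D.fus w hw h2 h1 hz
      rw [← hg]
      exact ⟨fun h => hM.conj_mem _ h g, fun h => by simpa [mul_assoc] using hM.conj_mem _ h g⁻¹⟩
    have hh := two_h hm
    have hn := h_ne hm
    -- the rotations are products of two reflections
    have hrot : ∀ i j : ZMod m, (∃ a, i + j = a + a) → D.κ (rot i j) ∈ M := by
      intro i j hij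
      have e : (rot i j : W m) = CfsgLib.G2Sylow.refl i j * CfsgLib.G2Sylow.refl 0 0 := by
        simp [rot, CfsgLib.G2Sylow.refl, mul_def, sg]
      have side : ∀ a b : ZMod m, (∃ c, a + b = c + c) →
          (D.κ (CfsgLib.G2Sylow.refl a b) ∈ M ↔ D.κ (uc h) ∈ M) := fun a b hab =>
        agree _ hab (by simp [mul_def, one_def, CfsgLib.G2Sylow.refl, sg])
          (fun e => by simp [CfsgLib.G2Sylow.refl, one_def] at e) (fun e => by simp [CfsgLib.G2Sylow.refl, rot] at e)
      rw [e, map_mul, two, side i j hij, side 0 0 ⟨0, by simp⟩]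
    have huc : D.κ (uc h) ∈ M := hrot _ _ (by
      obtain ⟨q, hq⟩ := exists_quarter hm he
      exact ⟨q, by simp [hq]⟩)
    have hswp : D.κ swp ∈ M := (agree swp ⟨0, by simp [swp]⟩ (by simp [mul_def, one_def, swp, sg])
      (fun e => by simp [swp, one_def] at e) (fun e => by simp [swp, rot] at e)).mpr huc
    have hr0 : D.κ (CfsgLib.G2Sylow.refl 0 0) ∈ M := (agree _ ⟨0, by simp [CfsgLib.G2Sylow.refl]⟩
      (by simp [mul_def, one_def, CfsgLib.G2Sylow.refl, sg]) (fun e => by simp [CfsgLib.G2Sylow.refl, one_def] at e)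
      (fun e => by simp [CfsgLib.G2Sylow.refl, rot] at e)).mpr huc
    have hK : ∀ w ∈ (Kp : Subgroup (W m)), D.κ w ∈ M := by
      rintro ⟨i, j, e, s⟩ hw
      have e1 : (⟨i, j, e, s⟩ : W m) = rot i j * (if e then CfsgLib.G2Sylow.refl 0 0 else 1) * (if s then swp else 1) := by
        cases e <;> cases s <;> simp [rot, swp, CfsgLib.G2Sylow.refl, mul_def, one_def, sg]
      rw [e1, map_mul, map_mul]
      refine mul_mem (mul_mem (hrot i j hw) ?_) ?_
      · split
        · exact hr0
        · simp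
      · split
        · exact hswp
        · simp
    refine ⟨M, hM, fun w => ⟨fun hwM => ?_, hK w⟩⟩
    by_contra hw
    have h1 := hK _ ((hmul w).mpr hw)
    rw [map_mul] at h1
    exact htM ((two _ _).mp h1 |>.mp hwM)
  · exact absurd e.symm (D.no_conj g hv)

/-- Even parity is preserved. -/
theorem closed {v w : W m} (hv : v ∈ (Kp : Subgroup (W m))) {g : X} (e : g * D.κ v * g⁻¹ = D.κ w) :
    w ∈ (Kp : Subgroup (W m)) := by
  obtain ⟨M, hM, hiff⟩ := D.exists_M
  rw [← hiff, ← e]
  exact hM.conj_mem _ ((hiff v).mpr hv) g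

end Setup

end CfsgLib.G2Cent
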