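/-
The quaternion subgroups do not fuse with each other.
-/
import Cfsg.Agent.Lib.G2Cent.Parity

set_option autoImplicit false
set_option linter.unusedSectionVars false
set_option linter.style.haveILetI false

namespace CfsgLib.G2Cent

open CfsgLib.G2Sylow

universe u

/-- The centraliser of an element modulo a central involution. -/
def modC {X : Type u} [Group X] {z : X} (hz : ∀ x : X, Commute x z) (hz2 : z * z = 1) (y : X) : Subgroup X where
  carrier := {a | a * y * a⁻¹ = y ∨ a * y * a⁻¹ = y * z}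
  one_mem' := Or.inl (by group)
  mul_mem' := by
    rintro a b ha hb
    simp only [Set.mem_setOf_eq] at ha hb ⊢
    have e : a * b * y * (a * b)⁻¹ = a * (b * y * b⁻¹) * a⁻¹ := by group
    have e2 : a * (y * z) * a⁻¹ = (a * y * a⁻¹) * z := by
      rw [show a * (y * z) * a⁻¹ = (a * y * a⁻¹) * (a * z * a⁻¹) by group, (hz a).eq, mul_inv_cancel_right]
    rcases ha with ha | ha <;> rcases hb with hb | hb <;> rw [e, hb] <;>
      simp only [e2, ha, true_or, or_true, mul_assoc, hz2, mul_one]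
  inv_mem' := by
    rintro a ha
    simp only [Set.mem_setOf_eq] at ha ⊢
    rcases ha with ha | ha
    · left
      conv_lhs => rw [← ha]
      group
    · right
      have e : a * (y * z) * a⁻¹ = y := by
        rw [show a * (y * z) * a⁻¹ = (a * y * a⁻¹) * (a * z * a⁻¹) by group, ha, (hz a).eq, mul_inv_cancel_right,
          mul_assoc, hz2, mul_one]
      conv_lhs => rw [← e]
      group

theorem four_commutator : ∀ a b : W 4, a.i + a.j = 0 ∨ a.i + a.j = 2 → b.i + b.j = 0 ∨ b.i + b.j = 2 →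
    a * b * a⁻¹ = b ∨ a * b * a⁻¹ = b * ⟨2, 2, false, false⟩ := by
  decide +kernel

namespace Setup

variable {X : Type u} [Group X] [Finite X] {m h k : ℕ} [NeZero m] (D : Setup X m h k)

theorem conj_map_le (w : W m) {A : Subgroup (W m)} (hA : ∀ a ∈ A, ∀ v : W m, v * a * v⁻¹ ∈ A) :
    D.κ w ∈ Subgroup.normalizer ((A.map D.κ : Subgroup X) : Set X) := by
  rw [Subgroup.mem_normalizer_iff]
  refine fun x => ⟨?_, ?_⟩
  · rintro ⟨a, ha, rfl⟩
    exact ⟨w * a * w⁻¹, hA a ha w, by simp⟩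
  · rintro ⟨a, ha, e⟩
    refine ⟨w⁻¹ * a * w⁻¹⁻¹, hA a ha _, ?_⟩
    rw [map_mul, map_mul, e]
    simp [mul_assoc]

/-- A weakly closed subgroup of even parity controls fusion in a group containing it and a conjugate. -/
theorem weak {A : Subgroup (W m)} (hA : A ≤ Kp)
    (huniq : ∀ A' : Subgroup (W m), A' ≤ Kp →
      (∃ g : X, A'.map D.κ = (A.map D.κ).map (MulAut.conj g).toMonoidHom) → A' = A)
    {H : Subgroup X} (hAH : A.map D.κ ≤ H) {g : X}
    (hgH : (A.map D.κ).map (MulAut.conj g).toMonoidHom ≤ H) :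
    ∃ c ∈ H, c * g ∈ Subgroup.normalizer ((A.map D.κ : Subgroup X) : Set X) := by
  obtain ⟨c, hc, f, hf1, hf2⟩ := common D.S (D.isPGroup_map A) ((D.isPGroup_map A).map _) hAH hgH
  refine ⟨c, hc, ?_⟩
  have key : ∀ x : X, (∀ a ∈ A, x * D.κ a * x⁻¹ ∈ (D.S : Subgroup X)) →
      x ∈ Subgroup.normalizer ((A.map D.κ : Subgroup X) : Set X) := by
    intro x hx
    set A' := ((A.map D.κ).map (MulAut.conj x).toMonoidHom).comap D.κ
    have hmap : A'.map D.κ = (A.map D.κ).map (MulAut.conj x).toMonoidHom := by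
      refine Subgroup.map_comap_eq_self ?_
      rintro _ ⟨_, ⟨a, ha, rfl⟩, rfl⟩
      exact D.mem_S.mp (hx a ha)
    have hA' : A' ≤ Kp := by
      intro w hw
      obtain ⟨_, ⟨a, ha, rfl⟩, e⟩ := Subgroup.mem_comap.mp hw
      exact D.closed (hA ha) (show x * D.κ a * x⁻¹ = D.κ w from e)
    have := huniq A' hA' ⟨x, hmap⟩
    rw [this] at hmap
    rw [Subgroup.mem_normalizer_iff]
    intro y
    constructor
    · intro hy
      rw [hmap]
      exact ⟨y, hy, rfl⟩
    · intro hy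
      rw [hmap] at hy
      obtain ⟨y', hy', e⟩ := hy
      have : y' = y := (MulAut.conj x).injective e
      exact this ▸ hy'
  have h1 := key f (fun a ha => hf1 _ ⟨a, ha, rfl⟩)
  have h2 := key (f * (c * g)) (fun a ha => by
    have := hf2 _ ⟨_, ⟨a, ha, rfl⟩, rfl⟩
    convert this using 1
    simp [mul_assoc])
  simpa [mul_assoc] using mul_mem (inv_mem h1) h2

theorem rotK_le_Kp : (rotK : Subgroup (W m)) ≤ Kp := fun _ h => h.2.2

theorem rotK_normal : ∀ a ∈ (rotK : Subgroup (W m)), ∀ v : W m, v * a * v⁻¹ ∈ (rotK : Subgroup (W m)) := by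
  rintro ⟨i, j, e, s⟩ ⟨he, hs, a, ha⟩ v
  simp only at he hs ha
  subst he hs
  rw [show (⟨i, j, false, false⟩ : W m) = rot i j from rfl, conj_rot]
  obtain ⟨c, hc⟩ := sg_even v.e (⟨a, ha⟩ : ∃ a, i + j = a + a)
  refine ⟨rfl, rfl, c, ?_⟩
  simp only [rot]
  cases v.s <;> simp [sg_add] <;> first | exact hc | (rw [add_comm j i]; exact hc)

include D in
theorem uc_mem_rotK : (uc h : W m) ∈ (rotK : Subgroup (W m)) ∧ rot 0 (h : ZMod m) ∈ (rotK : Subgroup (W m)) := by
  obtain ⟨q, hq⟩ := exists_quarter D.hm D.he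
  exact ⟨⟨rfl, rfl, q, by simp [rot, hq]⟩, ⟨rfl, rfl, q, by simp [rot, hq]⟩⟩

/-- Fusion of even rotations takes place in the Sylow subgroup. -/
theorem rot_fusion (h8 : 8 ≤ m) {a b : W m} (ha : a ∈ (rotK : Subgroup (W m))) (hb : b ∈ (rotK : Subgroup (W m)))
    {g : X} (e : g * D.κ a * g⁻¹ = D.κ b) : ∃ w : W m, w * a * w⁻¹ = b := by
  set A : Subgroup X := (rotK : Subgroup (W m)).map D.κ
  have hAH : A ≤ Subgroup.centralizer {D.κ b} := by
    rintro _ ⟨v, hv, rfl⟩
    rw [Subgroup.mem_centralizer_singleton_iff, ← map_mul, ← map_mul, rotK_comm hv hb]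
  have hgH : A.map (MulAut.conj g).toMonoidHom ≤ Subgroup.centralizer {D.κ b} := by
    rintro _ ⟨_, ⟨v, hv, rfl⟩, rfl⟩
    rw [Subgroup.mem_centralizer_singleton_iff, ← e]
    have hc : Commute (D.κ v) (D.κ a) := (show Commute v a from rotK_comm hv ha).map D.κ
    exact (hc.map (MulAut.conj g).toMonoidHom).eq
  obtain ⟨c, hc, hn⟩ := D.weak rotK_le_Kp (fun A' hA' hex => by
    obtain ⟨x, hx⟩ := hex
    refine rotK_unique D.hm h8 D.he hA' (fun p hp q hq => D.inj ?_) ?_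
    · obtain ⟨_, ⟨p', hp', rfl⟩, ep⟩ : D.κ p ∈ ((rotK : Subgroup (W m)).map D.κ).map (MulAut.conj x).toMonoidHom :=
        hx ▸ ⟨p, hp, rfl⟩
      obtain ⟨_, ⟨q', hq', rfl⟩, eq⟩ : D.κ q ∈ ((rotK : Subgroup (W m)).map D.κ).map (MulAut.conj x).toMonoidHom :=
        hx ▸ ⟨q, hq, rfl⟩
      rw [map_mul, map_mul, ← ep, ← eq, ← map_mul, ← map_mul, ← map_mul, ← map_mul, rotK_comm hp' hq']
    · rw [← D.card_map A', hx, Subgroup.card_map_of_injective (MulAut.conj x).injective, D.card_map])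
    hAH hgH
  have hS : (D.S : Subgroup X) ≤ Subgroup.normalizer (A : Set X) := fun x hx => by
    obtain ⟨w, rfl⟩ := D.mem_S.mp hx
    exact D.conj_map_le w rotK_normal
  obtain ⟨s, hs, o, ho, hso⟩ := exists_mul_odd D.S hS (C := Subgroup.centralizer (A : Set X))
    (fun x hx => D.odd_fix (A := rotK) (fun _ h => ⟨h.1, h.2.1⟩) D.uc_mem_rotK.1 D.uc_mem_rotK.2 hx) hn
  obtain ⟨w, rfl⟩ := D.mem_S.mp hs
  refine ⟨w, D.inj ?_⟩
  have h1 : c * g * D.κ a * (c * g)⁻¹ = D.κ b := by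
    rw [show c * g * D.κ a * (c * g)⁻¹ = c * (g * D.κ a * g⁻¹) * c⁻¹ by group, e,
      Subgroup.mem_centralizer_singleton_iff.mp hc, mul_inv_cancel_right]
  rw [← h1, hso, map_mul, map_mul, map_inv]
  have h2 : D.κ a * o = o * D.κ a := ho _ ⟨a, ha, rfl⟩
  rw [show D.κ w * o * D.κ a * (D.κ w * o)⁻¹ = D.κ w * (o * D.κ a) * o⁻¹ * (D.κ w)⁻¹ by group, ← h2]
  group

theorem Q1_normal : ∀ a ∈ Q1 D.hm, ∀ v : W m, v * a * v⁻¹ ∈ Q1 D.hm := by
  have := two_h D.hm
  have hn := neg_h D.hm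
  rintro ⟨i, j, e, s⟩ ⟨hs, hi⟩ ⟨a, b, e', s'⟩
  simp only at hs hi
  subst hs
  cases s <;> cases e' <;> cases s' <;> simp [mem_Q1, mul_def, inv_def, sg] at hi ⊢ <;> grind

theorem card_Q2 : Nat.card (Q2 D.hm) = Nat.card (Q1 D.hm) :=
  Nat.card_congr
    { toFun := fun q => ⟨CfsgLib.G2Cent.flip q.1, (flip_mem_Q1 D.hm).mpr q.2⟩
      invFun := fun p => ⟨CfsgLib.G2Cent.flip p.1, (flip_mem_Q2 D.hm).mpr p.2⟩
      left_inv := fun q => Subtype.ext (flip_flip _)
      right_inv := fun q => Subtype.ext (flip_flip _) }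

/-- No fusion between the quaternion subgroups of order eight. -/
theorem no_fusion_four (hm4 : m = 4) {p q : W m} (hp : p ∈ Q1 D.hm) (hp2 : p * p = zc h) (hq : q ∈ Q2 D.hm)
    (g : X) : g * D.κ p * g⁻¹ ≠ D.κ q := by
  classical
  intro e
  subst hm4
  obtain rfl : h = 2 := by have := D.hm; omega
  have hm := D.hm
  have hKmem : ∀ a ∈ (Kp : Subgroup (W 4)), a.i + a.j = 0 ∨ a.i + a.j = 2 := by
    rintro a ⟨c, hc⟩
    rw [hc]
    clear hc
    clear * -
    revert c; decide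
  have hH : ∀ v ∈ (Kp : Subgroup (W 4)), ∀ r ∈ (Kp : Subgroup (W 4)), D.κ v ∈ modC D.cz D.z_sq (D.κ r) := by
    intro v hv r hr
    have := four_commutator v r (hKmem v hv) (hKmem r hr)
    rcases this with h1 | h1
    · exact Or.inl (by rw [← map_inv, ← map_mul, ← map_mul, h1])
    · refine Or.inr ?_
      rw [← map_inv, ← map_mul, ← map_mul, h1, map_mul]
      rfl
  obtain ⟨c, hc, hn⟩ := D.weak (A := Kp) le_rfl (fun A' hA' hex => by
    obtain ⟨x, hx⟩ := hex
    refine Subgroup.eq_of_le_of_card_ge hA' ?_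
    rw [← D.card_map A', hx, Subgroup.card_map_of_injective (MulAut.conj x).injective, D.card_map])
    (H := modC D.cz D.z_sq (D.κ q))
    (by rintro _ ⟨v, hv, rfl⟩; exact hH v hv q (Q2_le hm D.he hq))
    (g := g) (by
      rintro _ ⟨_, ⟨v, hv, rfl⟩, rfl⟩
      show g * D.κ v * g⁻¹ ∈ _
      rcases hH v hv p (Q1_le hm D.he hp) with h1 | h1
      · left
        rw [← e, show g * D.κ v * g⁻¹ * (g * D.κ p * g⁻¹) * (g * D.κ v * g⁻¹)⁻¹ =
          g * (D.κ v * D.κ p * (D.κ v)⁻¹) * g⁻¹ by group, h1]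
      · right
        rw [← e, show g * D.κ v * g⁻¹ * (g * D.κ p * g⁻¹) * (g * D.κ v * g⁻¹)⁻¹ =
          g * (D.κ v * D.κ p * (D.κ v)⁻¹) * g⁻¹ by group, h1]
        conv_rhs => rw [← D.conj_z g]
        group)
  set n := c * g with hndef
  set N := Subgroup.normalizer (((Kp : Subgroup (W 4)).map D.κ : Subgroup X) : Set X)
  -- the image of the first element
  obtain ⟨q', hq', hnq⟩ : ∃ q' ∈ Q2 hm, n * D.κ p * n⁻¹ = D.κ q' := by
    have h1 : n * D.κ p * n⁻¹ = c * D.κ q * c⁻¹ := by rw [hndef, ← e]; group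
    rcases hc with h2 | h2
    · exact ⟨q, hq, h1.trans h2⟩
    · exact ⟨q * zc 2, mul_mem hq (zc_mem_Q2 hm), by rw [h1, h2, map_mul]⟩
  have himg : ∀ x ∈ N, ∀ a ∈ Q1 hm, a * a = zc 2 →
      ∃ r, D.κ r = x * D.κ a * x⁻¹ ∧ r * r = zc 2 ∧ (r ∈ Q1 hm ∨ r ∈ Q2 hm) := by
    intro x hx a ha ha2
    obtain ⟨r, -, hr⟩ := (Subgroup.mem_normalizer_iff.mp hx _).mp ⟨a, Q1_le hm D.he ha, rfl⟩
    have h2 := D.sq_zc_of_conj hr.symm ha2
    exact ⟨r, hr, h2, sq_cases hm h2⟩
  have hside : ∀ x ∈ N, (∀ a ∈ Q1 hm, a * a = zc 2 → x * D.κ a * x⁻¹ ∈ (Q1 hm).map D.κ) ∨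
      (∀ a ∈ Q1 hm, a * a = zc 2 → x * D.κ a * x⁻¹ ∈ (Q2 hm).map D.κ) := by
    intro x hx
    by_contra hboth
    push Not at hboth
    obtain ⟨⟨a, ha, ha2, hna⟩, b, hb, hb2, hnb⟩ := hboth
    obtain ⟨r, hr, hr2, hr'⟩ := himg x hx a ha ha2
    obtain ⟨s, hs, hs2, hs'⟩ := himg x hx b hb hb2
    have hrQ : r ∈ Q2 hm := hr'.resolve_left fun h => hna ⟨r, h, hr⟩
    have hsQ : s ∈ Q1 hm := hs'.resolve_right fun h => hnb ⟨s, h, hs⟩
    have hab : Commute a b := by
      refine D.inj ?_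
      have h1 : D.κ (s * r) = D.κ (r * s) := by rw [Q_comm hm hsQ hrQ]
      rw [map_mul, map_mul, hr, hs] at h1
      rw [map_mul, map_mul]
      have h2 : x * (D.κ b * D.κ a) * x⁻¹ = x * (D.κ a * D.κ b) * x⁻¹ := by
        calc x * (D.κ b * D.κ a) * x⁻¹ = (x * D.κ b * x⁻¹) * (x * D.κ a * x⁻¹) := by group
          _ = (x * D.κ a * x⁻¹) * (x * D.κ b * x⁻¹) := h1
          _ = _ := by group
      exact (mul_left_cancel (mul_right_cancel h2)).symm
    have hba : b = a⁻¹ ∨ b = a := by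
      rcases comm_pair hm ha hb ha2 hb2 hab with h | h
      · exact Or.inl (eq_inv_of_mul_eq_one_right h)
      · exact Or.inr (mul_left_cancel (h.trans ha2.symm))
    apply hnb
    rcases hba with rfl | rfl
    · exact ⟨r⁻¹, inv_mem hrQ, by rw [map_inv, hr, map_inv]; group⟩
    · exact ⟨r, hrQ, hr⟩
  have whole : ∀ x : X, ∀ L : Subgroup (W 4), Nat.card L = Nat.card (Q1 hm) →
      (∀ a ∈ Q1 hm, a * a = zc 2 → x * D.κ a * x⁻¹ ∈ L.map D.κ) →
      ((Q1 hm).map D.κ).map (MulAut.conj x).toMonoidHom = L.map D.κ := by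
    intro x L hcard hx
    refine Subgroup.eq_of_le_of_card_ge ?_ ?_
    · rw [Subgroup.map_le_iff_le_comap, Subgroup.map_le_iff_le_comap]
      exact Q1_le_of hm fun a ha ha2 => hx a ha ha2
    · rw [Subgroup.card_map_of_injective (f := (MulAut.conj x).toMonoidHom) (MulAut.conj x).injective, D.card_map,
        D.card_map, hcard]
  set T := N ⊓ Subgroup.normalizer (((Q1 hm).map D.κ : Subgroup X) : Set X)
  have hT : ∀ x ∈ N, x ∉ T → ((Q1 hm).map D.κ).map (MulAut.conj x).toMonoidHom = (Q2 hm).map D.κ := by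
    intro x hx hxT
    refine whole x _ D.card_Q2 ((hside x hx).resolve_left fun h1 => hxT (Subgroup.mem_inf.mpr ⟨hx, ?_⟩))
    have h2 := whole x _ rfl h1
    rw [Subgroup.mem_normalizer_iff]
    intro y
    constructor
    · intro hy
      rw [← h2]
      exact ⟨y, hy, rfl⟩
    · intro hy
      rw [← h2] at hy
      obtain ⟨y', hy', e'⟩ := hy
      exact (MulAut.conj x).injective e' ▸ hy'
  have hprod : ∀ x y, x ∈ N → y ∈ N → x ∉ T → y ∉ T → x⁻¹ * y ∈ T := by
    intro x y hx hy hxT hyT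
    refine Subgroup.mem_inf.mpr ⟨mul_mem (inv_mem hx) hy, ?_⟩
    have hxy := (hT x hx hxT).trans (hT y hy hyT).symm
    have key : ∀ a ∈ (Q1 hm).map D.κ, x⁻¹ * y * a * (x⁻¹ * y)⁻¹ ∈ (Q1 hm).map D.κ := by
      intro a ha
      obtain ⟨a', ha', e'⟩ : y * a * y⁻¹ ∈ ((Q1 hm).map D.κ).map (MulAut.conj x).toMonoidHom := hxy ▸ ⟨a, ha, rfl⟩
      have : a' = x⁻¹ * y * a * (x⁻¹ * y)⁻¹ := by
        have e'' : x * a' * x⁻¹ = y * a * y⁻¹ := e'
        calc a' = x⁻¹ * (x * a' * x⁻¹) * x := by group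
          _ = _ := by rw [e'']; group
      exact this ▸ ha'
    rw [Subgroup.mem_normalizer_iff]
    intro a
    refine ⟨key a, fun ha => ?_⟩
    have hf : Function.Surjective (fun a : (Q1 hm).map D.κ =>
        (⟨x⁻¹ * y * a * (x⁻¹ * y)⁻¹, key a a.2⟩ : (Q1 hm).map D.κ)) :=
      Finite.surjective_of_injective fun u v e' =>
        Subtype.ext (mul_left_cancel (mul_right_cancel (congrArg Subtype.val e')))
    obtain ⟨b, hb⟩ := hf ⟨_, ha⟩
    exact mul_left_cancel (mul_right_cancel (congrArg Subtype.val hb)) ▸ b.2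
  have hnT : n ∉ T := by
    rintro ⟨-, hnQ⟩
    obtain ⟨r, hr, er⟩ := (Subgroup.mem_normalizer_iff.mp hnQ (D.κ p)).mp ⟨p, hp, rfl⟩
    have : r = q' := D.inj (er.trans hnq)
    subst this
    rcases inf_cases hm hr hq' with h1 | h1
    · rw [h1, map_one, conj_eq_one_iff] at hnq
      rw [D.inj (hnq.trans (map_one _).symm), mul_one] at hp2
      exact zc_ne hm hp2.symm
    · rw [h1, ← D.conj_z n] at hnq
      rw [D.inj (mul_left_cancel (mul_right_cancel hnq)), zc_sq hm] at hp2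
      exact zc_ne hm hp2.symm
  have hidx : T.relIndex N = 2 := by
    refine Subgroup.index_eq_two_iff.mpr ⟨⟨n, hn⟩⁻¹, fun b => ?_⟩
    by_cases hb : b ∈ T.subgroupOf N
    · refine Or.inr ⟨hb, fun h1 => hnT ?_⟩
      have h2 := mul_mem (inv_mem h1) hb
      simpa [mul_assoc, Subgroup.mem_subgroupOf] using h2
    · refine Or.inl ⟨?_, hb⟩
      have hb' : (b : X)⁻¹ ∉ T := fun h => hb (Subgroup.mem_subgroupOf.mpr (by simpa using inv_mem h))
      have hn' : n⁻¹ ∉ T := fun h => hnT (by simpa using inv_mem h)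
      have := hprod _ _ (inv_mem b.2) (inv_mem hn) hb' hn'
      simpa [Subgroup.mem_subgroupOf] using this
  have hST : (D.S : Subgroup X) ≤ T := fun x hx => by
    obtain ⟨w, rfl⟩ := D.mem_S.mp hx
    refine Subgroup.mem_inf.mpr ⟨D.conj_map_le w ?_, D.conj_map_le w (D.Q1_normal)⟩
    rintro a ha v
    exact D.closed ha (g := D.κ v) (w := v * a * v⁻¹) (by simp)
  refine D.S.not_dvd_index ?_
  rw [← Subgroup.relIndex_mul_index (hST.trans inf_le_left), ← Subgroup.relIndex_mul_relIndex (D.S : Subgroup X) T N hST inf_le_left,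
    hidx]
  exact dvd_mul_of_dvd_left (dvd_mul_left 2 _) _

/-- A rotation of order four of the second subgroup is no conjugate of an element outside the rotations. -/
theorem crossing {b a : W m} (hb : b ∈ Q1 D.hm) (hbe : b.e = true) (ha : a ∈ Q2 D.hm) (hae : a.s = false)
    (ha2 : a * a = zc h) (g : X) : g * D.κ b * g⁻¹ ≠ D.κ a := by
  classical
  have hm := D.hm
  rcases Nat.eq_zero_or_pos k with hk | hk
  · exact D.no_fusion_four (by rw [D.m_eq, hk]; norm_num) hb (sq_of_refl hm hb hbe) ha g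
  have h8 : 8 ≤ m := by
    rw [D.m_eq]
    calc 8 = 2 ^ 3 := by norm_num
      _ ≤ _ := Nat.pow_le_pow_right two_pos (by omega)
  intro e
  obtain ⟨hae', hij⟩ := (mem_Q2 hm).mp ha
  obtain ⟨i, j, ae, as⟩ := a
  simp only at hae hae' hij
  subst hae hae'
  simp at hij
  obtain rfl : j = -i := eq_neg_of_add_eq_zero_right hij
  have hi : i + i = (h : ZMod m) := by
    simp [mul_def, rot, sg] at ha2
    exact ha2.1
  set F : Subgroup (W m) := (Ke : Subgroup (W m)).comap (CfsgLib.G2Cent.flip : W m ≃* W m).toMonoidHom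
  have hF : ∀ w : W m, w ∈ F ↔ w.e = w.s := fun w => by
    show Bool.xor w.e w.s = false ↔ _
    cases w.e <;> cases w.s <;> simp
  have hFc : ∀ w : W m, Commute w (rot i (-i)) ↔ w ∈ F := fun w => by
    have hii : i + i ≠ 0 := by rw [hi]; exact h_ne hm
    refine ⟨fun hc => ?_, fun hw => ?_⟩
    · have := (commute_rot_diag hii (CfsgLib.G2Cent.flip w)).mp (by
        have h2 := hc.map (CfsgLib.G2Cent.flip : W m ≃* W m).toMonoidHom
        simpa [flip_rot] using h2)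
      exact this
    · have := ((commute_rot_diag hii (CfsgLib.G2Cent.flip w)).mpr hw).map
        (CfsgLib.G2Cent.flip : W m ≃* W m).toMonoidHom
      simpa [flip_rot, flip_flip] using this
  have hidx : F.index = 2 := by
    rw [Subgroup.index_comap_of_surjective _ (CfsgLib.G2Cent.flip : W m ≃* W m).surjective]
    exact index_Ke
  have hcard : Nat.card (D.S : Subgroup X) = 2 * Nat.card (F.map D.κ) := by
    rw [D.card_S, D.card_map, ← hidx, mul_comm, Subgroup.card_mul_index]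
  obtain ⟨c, hc, hcT⟩ := cent_into D.S (w := D.κ (rot i (-i))) (D.isPGroup_map F) (by
      rintro _ ⟨v, hv, rfl⟩
      exact Subgroup.mem_centralizer_singleton_iff.mpr (((hFc v).mpr hv).map D.κ).eq)
    hcard (fun x hxS hcen => by
      obtain ⟨r, hr⟩ := D.mem_S.mp hxS
      have h2 := D.sq_zc_of_conj hr.symm ha2
      have hrc : ∀ v, v * r = r * v := fun v => D.inj (by
        rw [map_mul, map_mul, hr]; exact (hcen _ (D.mem_S.mpr ⟨v, rfl⟩)).eq)
      have h1 := hrc (rot 1 0)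
      have h3 := hrc swp
      have h5 := hrc (CfsgLib.G2Sylow.refl 0 0)
      have hne := h_ne hm
      have h2ne : (2 : ZMod m) ≠ 0 := fun e2 => by
        have : ((2 : ℕ) : ZMod m) = 0 := by exact_mod_cast e2
        rw [ZMod.natCast_eq_zero_iff] at this
        exact absurd (Nat.le_of_dvd two_pos this) (by omega)
      have h1ne : (1 : ZMod m) ≠ 0 := fun e1 => h2ne (by linear_combination (2 : ZMod m) * e1)
      obtain ⟨a', b', e', s'⟩ := r
      cases e' <;> cases s' <;> simp [mul_def, rot, swp, CfsgLib.G2Sylow.refl, sg] at h1 h2 h3 h5 <;> grind)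
    ⟨rot i (-i), (hFc _).mp (Commute.refl _), rfl⟩
    (Q := ((Q2 hm).map D.κ).map (MulAut.conj g).toMonoidHom) ((D.isPGroup_map _).map _) (by
      rintro _ ⟨_, ⟨q, hq, rfl⟩, rfl⟩
      rw [Subgroup.mem_centralizer_singleton_iff]
      have h2 : (MulAut.conj g).toMonoidHom (D.κ b) = D.κ (rot i (-i)) := e
      rw [← h2]
      exact (((show Commute q b from (Q_comm hm hb hq).symm).map D.κ).map (MulAut.conj g).toMonoidHom).eq)
  obtain ⟨v₁, hv₁, e₁⟩ := hcT _ ⟨_, ⟨rot 1 (-1), by simp [mem_Q2, rot], rfl⟩, rfl⟩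
  obtain ⟨v₂, hv₂, e₂⟩ := hcT _ ⟨_, ⟨⟨h, 0, false, true⟩, by simp [mem_Q2], rfl⟩, rfl⟩
  set a2 : W m := rot 1 (-1)
  set b2 : W m := ⟨h, 0, false, true⟩
  have hcomm : a2 * b2 * a2⁻¹ * b2⁻¹ = rot 2 (-2) := by
    simp [a2, b2, mul_def, inv_def, rot, sg]
    ring_nf
    trivial
  set v := v₁ * v₂ * v₁⁻¹ * v₂⁻¹ with hv
  have ev : c * g * D.κ (rot 2 (-2)) * (c * g)⁻¹ = D.κ v := by
    have q1 : D.κ v₁ = c * g * D.κ a2 * (c * g)⁻¹ := by rw [e₁]; simp [mul_assoc]
    have q2 : D.κ v₂ = c * g * D.κ b2 * (c * g)⁻¹ := by rw [e₂]; simp [mul_assoc]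
    rw [hv, ← hcomm]
    simp only [map_mul, map_inv, q1, q2]
    group
  have hvij : v.i = v.j := commutator_flip_Ke ((hF _).mp hv₁) ((hF _).mp hv₂)
  obtain ⟨hve, hvs⟩ := commutator_flags v₁ v₂
  obtain ⟨w, hw⟩ := D.rot_fusion h8 (a := rot 2 (-2)) (b := v) ⟨rfl, rfl, 0, by simp [rot]⟩
    ⟨hve, hvs, v.i, by rw [← hvij]⟩ ev
  have hvr : v = rot v.i v.i := W.ext rfl hvij.symm hve hvs
  rw [hvr] at hw
  have h4 : ((4 : ℕ) : ZMod m) ≠ 0 := not_four h8
  push_cast at h4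
  rcases rot_orbit hw with ⟨h1, h2⟩ | ⟨h1, h2⟩ | ⟨h1, h2⟩ | ⟨h1, h2⟩ <;> apply h4 <;>
    first | linear_combination h1 - h2 | linear_combination h2 - h1

/-- Every square root of the central involution in the first subgroup is conjugate to a rotation there. -/
theorem classify {p : W m} (hp : p ∈ Q1 D.hm) (hp2 : p * p = zc h) :
    ∃ r ∈ Q1 D.hm, r.e = false ∧ r * r = zc h ∧ ∃ g : X, g * D.κ p * g⁻¹ = D.κ r := by
  classical
  have hm := D.hm
  cases hpe : p.e
  · exact ⟨p, hp, hpe, hp2, 1, by simp⟩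
  set q : W m := ⟨h, 0, false, true⟩
  have hq : q ∈ Q2 hm := by simp [q, mem_Q2]
  have hq2 : q * q = zc h := by simp [q, mul_def, rot, sg]
  have hpq : Commute p q := Q_comm hm hp hq
  have hx2 : p * q * (p * q) = 1 := by
    rw [mul_assoc, ← mul_assoc q, ← hpq.eq, mul_assoc, hq2, ← mul_assoc, hp2, zc_sq hm]
  have hxe : (p * q).e = true := by simp [q, mul_def, hpe]
  obtain ⟨c, hc, hcW⟩ := D.fus (p * q) (mul_mem (Q1_le hm D.he hp) (Q2_le hm D.he hq)) hx2
    (fun e => by rw [e] at hxe; simp [one_def] at hxe) (fun e => by rw [e] at hxe; simp [rot] at hxe)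
  obtain ⟨p', hp'⟩ := hcW p ((Commute.refl p).mul_right hpq)
  obtain ⟨q', hq'⟩ := hcW q (hpq.symm.mul_right (Commute.refl q))
  have p2 := D.sq_zc_of_conj hp'.symm hp2
  have q2 := D.sq_zc_of_conj hq'.symm hq2
  have hprod : p' * q' = uc h := D.inj (by rw [map_mul, hp', hq', ← hc, map_mul]; group)
  have hcom : Commute p' q' := D.inj (by
    rw [map_mul, map_mul, hp', hq']
    exact ((hpq.map D.κ).map (MulAut.conj c).toMonoidHom).eq)
  have hne1 : (uc h : W m) ≠ 1 := fun e => h_ne hm (congrArg W.i e)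
  have hnez : (uc h : W m) ≠ zc h := uc_ne_zc hm
  have hflag : (p' * q').e = false ∧ (p' * q').s = false := by rw [hprod]; exact ⟨rfl, rfl⟩
  rcases sq_cases hm p2 with h1 | h1 <;> rcases sq_cases hm q2 with h2 | h2
  · rcases comm_pair hm h1 h2 p2 q2 hcom with h3 | h3
    · exact absurd (hprod.symm.trans h3) hne1
    · exact absurd (hprod.symm.trans h3) hnez
  · refine ⟨p', h1, ?_, p2, c, hp'.symm⟩
    have := ((mem_Q2 hm).mp h2).1
    simpa [mul_def, this] using hflag.1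
  · exfalso
    have he1 := ((mem_Q2 hm).mp h1).1
    have he2 : q'.e = false := by simpa [mul_def, he1] using hflag.1
    have hs2 : q'.s = false := ((mem_Q1 hm).mp h2).1.trans he2
    have hs1 : p'.s = false := by simpa [mul_def, hs2] using hflag.2
    exact D.crossing hp hpe h1 hs1 p2 c hp'.symm
  · have h3 := comm_pair hm ((flip_mem_Q1 hm).mpr h1) ((flip_mem_Q1 hm).mpr h2)
      (by rw [← map_mul, p2, flip_zc hm]) (by rw [← map_mul, q2, flip_zc hm])
      (hcom.map (CfsgLib.G2Cent.flip : W m ≃* W m).toMonoidHom)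
    rw [← map_mul, hprod, flip_uc] at h3
    rcases h3 with h3 | h3
    · exact absurd h3 hne1
    · exact absurd h3 hnez

/-- No fusion between the quaternion subgroups. -/
theorem no_fusion {p q : W m} (hp : p ∈ Q1 D.hm) (hp2 : p * p = zc h) (hq : q ∈ Q2 D.hm) (g : X) :
    g * D.κ p * g⁻¹ ≠ D.κ q := by
  classical
  intro e
  have hm := D.hm
  rcases Nat.eq_zero_or_pos k with hk | hk
  · exact D.no_fusion_four (by rw [D.m_eq, hk]; norm_num) hp hp2 hq g e
  have h8 : 8 ≤ m := by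
    rw [D.m_eq]
    calc 8 = 2 ^ 3 := by norm_num
      _ ≤ _ := Nat.pow_le_pow_right two_pos (by omega)
  have hq2 := D.sq_zc_of_conj e hp2
  obtain ⟨r, hr, hre, hr2, c, hc⟩ := D.classify hp hp2
  obtain ⟨r', hr', hre', hr2', c', hc'⟩ := D.flip.classify (p := CfsgLib.G2Cent.flip q)
    ((flip_mem_Q1 hm).mpr hq) (by rw [← map_mul, hq2, flip_zc hm])
  rw [flip_κ, flip_κ, flip_flip] at hc'
  have e2 : c' * g * c⁻¹ * D.κ r * (c' * g * c⁻¹)⁻¹ = D.κ (CfsgLib.G2Cent.flip r') := by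
    rw [← hc, ← hc', ← e]; group
  obtain ⟨a, b, e', s'⟩ := r
  obtain ⟨a', b', e'', s''⟩ := r'
  obtain ⟨hs, hi⟩ := hr
  obtain ⟨hs', hi'⟩ := hr'
  simp only at hre hre' hs hi hs' hi'
  subst hre hre' hs hs'
  simp at hi hi'
  subst hi hi'
  have hfl : CfsgLib.G2Cent.flip (⟨a', a', false, false⟩ : W m) = rot a' (-a') := rfl
  rw [hfl] at e2
  obtain ⟨w, hw⟩ := D.rot_fusion h8 (a := rot a a) (b := rot a' (-a')) ⟨rfl, rfl, a, rfl⟩
    ⟨rfl, rfl, 0, by simp [rot]⟩ e2
  simp [mul_def, rot, sg] at hr2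
  have := h_ne hm
  rcases rot_orbit hw with ⟨h1, h2⟩ | ⟨h1, h2⟩ | ⟨h1, h2⟩ | ⟨h1, h2⟩ <;> apply this <;> grind

/-- All square roots of the central involution in the first subgroup are conjugate. -/
theorem order_four {p p' : W m} (hp : p ∈ Q1 D.hm) (hp2 : p * p = zc h) (hp' : p' ∈ Q1 D.hm)
    (hp2' : p' * p' = zc h) : IsConj (D.κ p) (D.κ p') := by
  have hm := D.hm
  obtain ⟨q, hq⟩ := exists_quarter hm D.he
  have hb : ∀ c : ZMod m, IsConj (D.κ (rot c c)) (D.κ (rot (-c) (-c))) := fun c =>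
    isConj_iff.mpr ⟨D.κ (CfsgLib.G2Sylow.refl 0 0), by
      rw [← map_inv, ← map_mul, ← map_mul]
      congr 1
      simp [rot, mul_def, inv_def, CfsgLib.G2Sylow.refl, sg]⟩
  have key : ∀ {p : W m}, p ∈ Q1 D.hm → p * p = zc h → IsConj (D.κ p) (D.κ (rot q q)) := by
    intro p hp hp2
    obtain ⟨r, hr, hre, hr2, c, hc⟩ := D.classify hp hp2
    obtain ⟨a, b, e', s'⟩ := r
    obtain ⟨hs, hi⟩ := hr
    simp only at hre hs hi
    subst hre hs
    simp at hi
    subst hi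
    simp [mul_def, rot, sg] at hr2
    refine (isConj_iff.mpr ⟨c, hc⟩).trans ?_
    rcases two_torsion hm (show (a - q) + (a - q) = 0 by linear_combination hr2 - hq) with e | e
    · rw [sub_eq_zero.mp e]; rfl
    · have : a = -q := by linear_combination e + hq + two_h hm
      rw [this]
      exact (hb q).symm
  exact (key hp hp2).trans (key hp' hp2').symm

end Setup

end CfsgLib.G2Cent
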