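/-
The first quaternion subgroup is strongly closed.
-/
import Cfsg.Agent.Lib.G2Cent.Fusion

set_option autoImplicit false
set_option linter.unusedSectionVars false
set_option linter.style.haveILetI false

namespace CfsgLib.G2Cent

open CfsgLib.G2Sylow

universe u

variable {m h : ℕ} [NeZero m]

theorem central_sq (hm : m = 2 * h) (h4 : 4 ≤ m) {r : W m} (hr : ∀ v, v * r = r * v) : r * r = 1 := by
  have h1 := hr (rot 1 0)
  have h3 := hr swp
  have h5 := hr (CfsgLib.G2Sylow.refl 0 0)
  have h2ne : (2 : ZMod m) ≠ 0 := fun e2 => by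
    have : ((2 : ℕ) : ZMod m) = 0 := by exact_mod_cast e2
    rw [ZMod.natCast_eq_zero_iff] at this
    exact absurd (Nat.le_of_dvd two_pos this) (by omega)
  have h1ne : (1 : ZMod m) ≠ 0 := fun e1 => h2ne (by linear_combination (2 : ZMod m) * e1)
  obtain ⟨a, b, e, s⟩ := r
  cases e <;> cases s <;> simp [mul_def, one_def, rot, swp, CfsgLib.G2Sylow.refl, sg] at h1 h3 h5 ⊢ <;> grind

theorem rot_pow (a b : ZMod m) (n : ℕ) : (rot a b) ^ n = rot ((n : ZMod m) * a) ((n : ZMod m) * b) := by
  induction n with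
  | zero => simp [rot, one_def]
  | succ n ih => rw [pow_succ, ih, rot_mul]; push_cast; congr 1 <;> ring

namespace Setup

variable {X : Type u} [Group X] [Finite X] {m h k : ℕ} [NeZero m] (D : Setup X m h k)

theorem Ke_into {i : ZMod m} (hi : i + i ≠ 0) (hi2 : i + i + (i + i) ≠ 0 ∨ i + i = (h : ZMod m)) {Q : Subgroup X}
    (hQ : IsPGroup 2 Q) (hQw : Q ≤ Subgroup.centralizer {D.κ (rot i i)}) :
    ∃ c : X, Commute c (D.κ (rot i i)) ∧ ∀ q ∈ Q, c * q * c⁻¹ ∈ (Ke : Subgroup (W m)).map D.κ := by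
  refine cent_into D.S (D.isPGroup_map Ke) ?_ ?_ ?_ ⟨rot i i, rfl, rfl⟩ hQ hQw
  · rintro _ ⟨v, hv, rfl⟩
    exact Subgroup.mem_centralizer_singleton_iff.mpr (((commute_rot_diag hi v).mpr hv).map D.κ).eq
  · rw [D.card_S, D.card_map, ← index_Ke (m := m), mul_comm, Subgroup.card_mul_index]
  · intro x hxS hcen
    obtain ⟨r, hr⟩ := D.mem_S.mp hxS
    have hrc : ∀ v, v * r = r * v := fun v => D.inj (by
      rw [map_mul, map_mul, hr]; exact (hcen _ (D.mem_S.mpr ⟨v, rfl⟩)).eq)
    have h1 := central_sq D.hm D.h4 hrc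
    have h2 : x⁻¹ * D.κ r * x⁻¹⁻¹ = D.κ (rot i i) := by rw [hr]; group
    have h3 := D.sq_one_of_conj h2 h1
    simp [rot, mul_def, one_def, sg] at h3
    exact hi h3

/-- A generator of the cyclic subgroup has no conjugate exchanging the coordinates. -/
theorem gen_conj (h8 : 8 ≤ m) {w : W m} (hw : w ∈ (Kp : Subgroup (W m))) (hwe : w.e = false) (hws : w.s = true)
    (g : X) : g * D.κ (rot 1 1) * g⁻¹ ≠ D.κ w := by
  classical
  intro e
  have hm := D.hm
  have hh := two_h hm
  have hhne := h_ne hm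
  obtain ⟨q0, hq0⟩ := exists_quarter hm D.he
  have h4 := not_four h8
  push_cast at h4
  obtain ⟨x, y, we, ws⟩ := w
  simp only at hwe hws
  subst hwe hws
  obtain ⟨a, ha⟩ := hw
  simp only at ha
  -- the square
  have hd : x + y = 2 ∨ x + y = -2 := by
    have e2 : g * D.κ (rot 2 2) * g⁻¹ = D.κ (rot (x + y) (x + y)) := by
      have h1 := D.sq_of_conj e (rfl : (rot 1 1 : W m) * rot 1 1 = _)
      rw [rot_mul, show (1 : ZMod m) + 1 = 2 by norm_num] at h1
      rw [h1]
      simp [mul_def, rot, sg, add_comm]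
    obtain ⟨v, hv⟩ := D.rot_fusion h8 (a := rot 2 2) (b := rot (x + y) (x + y))
      ⟨rfl, rfl, 2, rfl⟩ ⟨rfl, rfl, x + y, rfl⟩ e2
    rcases rot_orbit hv with ⟨h1, -⟩ | ⟨h1, -⟩ | ⟨h1, -⟩ | ⟨h1, -⟩
    · exact Or.inl h1
    · exact Or.inr h1
    · exact Or.inl h1
    · exact Or.inr h1
  obtain ⟨c, hc⟩ : ∃ c, c + c = x + y - (h : ZMod m) := ⟨a - q0, by linear_combination -ha - hq0⟩
  set w : W m := ⟨x, y, false, true⟩ with hwdef
  set q : W m := ⟨x - c, y - c, false, true⟩ with hqdef
  have hqQ : q ∈ Q2 hm := by simp [hqdef, mem_Q2]; linear_combination -hc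
  have hq2 : q * q = zc h := by
    simp [hqdef, mul_def, rot, sg]
    exact ⟨by linear_combination -hc, by linear_combination -hc⟩
  have hwq : w = rot c c * q := by simp [hwdef, hqdef, mul_def, rot, sg]
  have hcne : c + c ≠ 0 := fun e0 => by
    apply h4
    rcases hd with h1 | h1
    · linear_combination -2 * h1 + 2 * e0 + hh - 2 * hc
    · linear_combination 2 * h1 - 2 * e0 - hh + 2 * hc
  have hch : c + c + (h : ZMod m) ≠ 0 := fun e0 => by
    apply h4
    rcases hd with h1 | h1
    · linear_combination 2 * e0 - 2 * hc - 2 * h1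
    · linear_combination -2 * e0 + 2 * hc + 2 * h1
  -- the centraliser in the model
  set Cw : Subgroup (W m) := Subgroup.centralizer {w}
  have hCw : ∀ v ∈ Cw, v.e = false ∧ v.i - v.j = if v.s then x - y else 0 := by
    intro v hv
    have h1 := Subgroup.mem_centralizer_singleton_iff.mp hv
    have hbad : (x + y) + (x + y) ≠ 0 := fun e0 => by
      apply h4
      rcases hd with h2 | h2
      · linear_combination e0 - 2 * h2
      · linear_combination -e0 + 2 * h2
    obtain ⟨a', b', e', s'⟩ := v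
    cases e' <;> cases s' <;> simp [hwdef, mul_def, sg] at h1 ⊢
    · linear_combination h1.1
    · linear_combination h1.1
    all_goals exact hbad (by linear_combination -h1.1 - h1.2)
  have hBlow : 2 * m ≤ Nat.card Cw := by
    let f : Bool × ZMod m → Cw := fun p => ⟨(if p.1 then w else 1) * rot p.2 p.2, by
      rw [Subgroup.mem_centralizer_singleton_iff]
      obtain ⟨b, r⟩ := p
      cases b <;> simp [hwdef, mul_def, one_def, rot, sg, add_comm, add_assoc, add_left_comm]⟩
    refine le_of_eq_of_le (by simp) (Nat.card_le_card_of_injective f ?_)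
    rintro ⟨b, r⟩ ⟨b', r'⟩ hf
    have hf' := congrArg Subtype.val hf
    cases b <;> cases b' <;> simp [f, hwdef, mul_def, one_def, rot, sg] at hf' ⊢ <;> exact hf'
  have hBup : Nat.card Cw ≤ 2 * m := by
    refine (card_le_of_inj (α := Bool × ZMod m) (fun v => (v.s, v.i)) ?_).trans (le_of_eq (by simp))
    intro v hv v' hv' heq
    obtain ⟨he, hij⟩ := hCw v hv
    obtain ⟨he', hij'⟩ := hCw v' hv'
    simp only [Prod.mk.injEq] at heq
    refine W.ext heq.2 ?_ (he.trans he'.symm) heq.1
    rw [heq.1] at hij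
    linear_combination -hij + hij' + heq.2
  set R₀ := ((Ke : Subgroup (W m)).map D.κ).map (MulAut.conj g).toMonoidHom
  have hlt : Nat.card (Cw.map D.κ) < Nat.card R₀ := by
    rw [Subgroup.card_map_of_injective (f := (MulAut.conj g).toMonoidHom) (MulAut.conj g).injective, D.card_map,
      D.card_map]
    have h1 := (Ke : Subgroup (W m)).card_mul_index
    rw [index_Ke, card_W] at h1
    nlinarith
  obtain ⟨P, hP, hPw, hBP, hcardP, hnorm⟩ := grow (D.isPGroup_map Cw)
    (H := Subgroup.centralizer {D.κ w})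
    (by rintro _ ⟨v, hv, rfl⟩
        exact Subgroup.mem_centralizer_singleton_iff.mpr
          ((show Commute v w from Subgroup.mem_centralizer_singleton_iff.mp hv).map D.κ).eq)
    ((D.isPGroup_map Ke).map _)
    (R₀ := R₀) (by
      rintro _ ⟨_, ⟨v, hv, rfl⟩, rfl⟩
      rw [Subgroup.mem_centralizer_singleton_iff, ← e]
      have h11 : (1 : ZMod m) + 1 ≠ 0 := fun e0 => h4 (by linear_combination 2 * e0)
      exact ((((commute_rot_diag h11 v).mpr hv).map D.κ).map (MulAut.conj g).toMonoidHom).eq) hlt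
  rw [D.card_map] at hcardP
  have hqw : Commute q w := by
    rw [hwq]
    refine Commute.mul_right ?_ (Commute.refl q)
    exact (Q_comm hm (show rot c c ∈ Q1 hm by simp [mem_Q1, rot]) hqQ).symm
  have hPfix : ∀ z ∈ P, Commute z (D.κ (rot c c)) ∧ Commute z (D.κ q) := by
    intro z hz
    obtain ⟨b, hb, eb⟩ := hnorm z hz _ ⟨q, Subgroup.mem_centralizer_singleton_iff.mpr hqw.eq, rfl⟩
    have hb2 := D.sq_zc_of_conj eb.symm hq2
    have hbQ : b ∈ Q2 hm := by
      refine (sq_cases hm hb2).resolve_left fun h1 => D.no_fusion h1 hb2 hqQ z⁻¹ ?_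
      rw [eb]; group
    have hbq : b = q ∨ b = q * zc h := by
      obtain ⟨he, hij⟩ := hCw b hb
      have hs := ((mem_Q2 hm).mp hbQ).2
      obtain ⟨a', b', e', s'⟩ := b
      simp only at he hij hs
      subst he
      cases s'
      · exfalso
        simp at hij hs
        simp [mul_def, rot, sg] at hb2
        exact hhne (by linear_combination -hb2.1 + hij + hs)
      · simp at hij hs
        rcases two_torsion hm (show (a' - (x - c)) + (a' - (x - c)) = 0 by linear_combination hij + hs + hc) with e1 | e1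
        · left
          ext <;> simp [hqdef]
          · linear_combination e1
          · linear_combination e1 - hij
        · right
          ext <;> simp [hqdef, mul_def, rot, sg]
          · linear_combination e1
          · linear_combination e1 - hij
    have hzw : z * D.κ w * z⁻¹ = D.κ w := by
      rw [Subgroup.mem_centralizer_singleton_iff.mp (hPw hz), mul_inv_cancel_right]
    have hrc : z * D.κ (rot c c) * z⁻¹ = D.κ w * (D.κ b)⁻¹ := by
      conv_rhs => rw [← hzw, hwq, eb, map_mul]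
      group
    rcases hbq with rfl | rfl
    · rw [hwq, map_mul, mul_inv_cancel_right] at hrc
      constructor
      · show z * _ = _ * z
        conv_rhs => rw [← hrc]
        group
      · show z * _ = _ * z
        conv_rhs => rw [eb]
        group
    · exfalso
      have hrc' : z * D.κ (rot c c) * z⁻¹ = D.κ (rot (c + h) (c + h)) := by
        rw [hrc, ← map_inv, ← map_mul, hwq]
        congr 1
        rw [mul_inv_rev, inv_eq_of_mul_eq_one_right (zc_sq hm), mul_assoc, ← mul_assoc q,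
          zc_central hm q, mul_assoc, mul_inv_cancel, mul_one, rot_mul]
      obtain ⟨v, hv⟩ := D.rot_fusion h8 (a := rot c c) (b := rot (c + h) (c + h)) ⟨rfl, rfl, c, rfl⟩
        ⟨rfl, rfl, c + h, rfl⟩ hrc'
      rcases rot_orbit hv with ⟨h1, -⟩ | ⟨h1, -⟩ | ⟨h1, -⟩ | ⟨h1, -⟩
      · exact hhne (by linear_combination h1)
      · exact hch (by linear_combination h1)
      · exact hhne (by linear_combination h1)
      · exact hch (by linear_combination h1)
  obtain ⟨c', hc', hcT⟩ := D.Ke_into hcne (Or.inl (fun e0 => by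
    apply h4
    rcases hd with h1 | h1
    · linear_combination e0 - 2 * hc + hh - 2 * h1
    · linear_combination -e0 + 2 * hc - hh + 2 * h1)) hP
    (fun z hz => Subgroup.mem_centralizer_singleton_iff.mpr (hPfix z hz).1.eq)
  have hqP : D.κ q ∈ P := hBP ⟨q, Subgroup.mem_centralizer_singleton_iff.mpr hqw.eq, rfl⟩
  obtain ⟨q', hq', eq'⟩ := hcT _ hqP
  have hq'2 := D.sq_zc_of_conj eq'.symm hq2
  have hq'Q : q' ∈ Q2 hm := by
    refine (sq_cases hm hq'2).resolve_left fun h1 => D.no_fusion h1 hq'2 hqQ c'⁻¹ ?_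
    rw [eq']; group
  obtain ⟨r, s, e', s'⟩ := q'
  replace hq' : e' = false := hq'
  subst hq'
  cases s'
  · -- a rotation
    simp [mem_Q2] at hq'Q
    simp [mul_def, rot, sg] at hq'2
    have e3 : c' * g * D.κ (rot 1 1) * (c' * g)⁻¹ = D.κ (rot (c + r) (c + s)) := by
      rw [show c' * g * D.κ (rot 1 1) * (c' * g)⁻¹ = c' * (g * D.κ (rot 1 1) * g⁻¹) * c'⁻¹ by group, e, hwq, map_mul,
        show c' * (D.κ (rot c c) * D.κ q) * c'⁻¹ = (c' * D.κ (rot c c) * c'⁻¹) * (c' * D.κ q * c'⁻¹) by group, hc'.eq,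
        mul_inv_cancel_right, ← eq', ← map_mul]
      simp [rot, mul_def, sg]
    obtain ⟨v, hv⟩ := D.rot_fusion h8 (a := rot 1 1) (b := rot (c + r) (c + s)) ⟨rfl, rfl, 1, rfl⟩
      ⟨rfl, rfl, c, by simp [rot]; linear_combination hq'Q⟩ e3
    apply hhne
    rcases rot_orbit hv with ⟨h1, h2⟩ | ⟨h1, h2⟩ | ⟨h1, h2⟩ | ⟨h1, h2⟩ <;>
      linear_combination h1 - h2 - hq'2.1 + hq'Q
  · -- too small a centraliser
    have himg : ∀ z : P, ∃ v ∈ (Ke : Subgroup (W m)), D.κ v = c' * z * c'⁻¹ := fun z => hcT z z.2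
    choose f hf hfe using himg
    have hcomm : ∀ z : P, Commute (f z) (⟨r, s, false, true⟩ : W m) := fun z => D.inj (by
      rw [map_mul, map_mul, hfe, eq']
      exact (((hPfix z z.2).2).map (MulAut.conj c').toMonoidHom).eq)
    have hup : Nat.card P ≤ 2 * m := by
      refine (Nat.card_le_card_of_injective (fun z : P => ((f z).s, (f z).i)) ?_).trans (le_of_eq (by simp))
      intro z z' heq
      simp only [Prod.mk.injEq] at heq
      have hz := (hcomm z).eq
      have hz' := (hcomm z').eq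
      have hfeq : f z = f z' := by
        have e1 : (f z).e = false := hf z
        have e2 : (f z').e = false := hf z'
        generalize f z = A at e1 hz heq ⊢
        generalize f z' = B at e2 hz' heq ⊢
        obtain ⟨a1, b1, e1', s1⟩ := A
        obtain ⟨a2, b2, e2', s2⟩ := B
        replace e1 : e1' = false := e1
        replace e2 : e2' = false := e2
        obtain ⟨rfl, rfl⟩ : s1 = s2 ∧ a1 = a2 := heq
        subst e1 e2
        cases s1 <;> simp [mul_def, sg] at hz hz' ⊢ <;> grind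
      have h1 := hfe z
      rw [hfeq, hfe z'] at h1
      exact Subtype.ext (mul_left_cancel (mul_right_cancel h1.symm))
    omega

/-- The first quaternion subgroup is strongly closed. -/
theorem strong {x w : W m} (hx : x ∈ Q1 D.hm) {g : X} (e : g * D.κ x * g⁻¹ = D.κ w) : w ∈ Q1 D.hm := by
  classical
  have hm := D.hm
  have hh := two_h hm
  have hhne := h_ne hm
  by_cases hx1 : x * x = 1
  · rcases Q1_invol hm hx hx1 with rfl | rfl
    · rw [map_one, mul_one, mul_inv_cancel] at e
      rw [← D.inj ((map_one D.κ).trans e)]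
      exact one_mem _
    · rw [D.eq_zc_of_conj e]
      exact zc_mem_Q1 hm
  by_cases hx2 : x * x = zc h
  · exact (sq_cases hm (D.sq_zc_of_conj e hx2)).resolve_right fun h1 => D.no_fusion hx hx2 h1 g e
  obtain ⟨i, j, xe, xs⟩ := x
  cases xe
  swap
  · exact absurd (sq_of_refl hm hx rfl) hx2
  obtain ⟨hs, hi⟩ := hx
  simp only at hs hi
  subst hs
  simp at hi
  subst hi
  simp [mul_def, one_def, rot, sg] at hx1 hx2
  have h4i : i + i + (i + i) ≠ 0 := fun e0 => (two_torsion hm e0).elim hx1 hx2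
  have h8 : 8 ≤ m := by
    rcases Nat.eq_zero_or_pos k with hk | hk
    · exfalso
      apply h4i
      have h0 : ((4 : ℕ) : ZMod m) = 0 := by
        rw [ZMod.natCast_eq_zero_iff, D.m_eq, hk]; norm_num
      push_cast at h0
      linear_combination i * h0
    · rw [D.m_eq]
      calc 8 = 2 ^ 3 := by norm_num
        _ ≤ _ := Nat.pow_le_pow_right two_pos (by omega)
  have hwK := D.closed (Q1_le hm D.he (show rot i i ∈ Q1 hm by simp [mem_Q1, rot])) e
  obtain ⟨q0, hq0⟩ := exists_quarter hm D.he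
  obtain ⟨x, y, we, ws⟩ := w
  cases we <;> cases ws
  · obtain ⟨v, hv⟩ := D.rot_fusion h8 (a := rot i i) (b := rot x y) ⟨rfl, rfl, i, rfl⟩ ⟨rfl, rfl, hwK⟩ e
    rcases rot_orbit hv with ⟨h1, h2⟩ | ⟨h1, h2⟩ | ⟨h1, h2⟩ | ⟨h1, h2⟩ <;> simp [mem_Q1, h1, h2]
  · exfalso
    obtain ⟨a, ha⟩ := hwK
    simp only at ha
    obtain ⟨c, hc⟩ : ∃ c, c + c = x + y - (h : ZMod m) := ⟨a - q0, by linear_combination -ha - hq0⟩
    set w : W m := ⟨x, y, false, true⟩ with hwdef
    set q : W m := ⟨x - c, y - c, false, true⟩ with hqdef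
    have hqQ : q ∈ Q2 hm := by simp [hqdef, mem_Q2]; linear_combination -hc
    have hq2 : q * q = zc h := by
      simp [hqdef, mul_def, rot, sg]
      exact ⟨by linear_combination -hc, by linear_combination -hc⟩
    have hwq : w = rot c c * q := by simp [hwdef, hqdef, mul_def, rot, sg]
    have hB : ((Subgroup.centralizer {w}).map D.κ).map (MulAut.conj g⁻¹).toMonoidHom ≤
        Subgroup.centralizer {D.κ (rot i i)} := by
      rintro _ ⟨_, ⟨v, hv, rfl⟩, rfl⟩
      rw [Subgroup.mem_centralizer_singleton_iff]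
      have h1 : (MulAut.conj g⁻¹).toMonoidHom (D.κ w) = D.κ (rot i i) := by
        rw [← e]; simp [mul_assoc, rot]
      rw [← h1]
      exact (((show Commute v w from Subgroup.mem_centralizer_singleton_iff.mp hv).map D.κ).map
        (MulAut.conj g⁻¹).toMonoidHom).eq
    obtain ⟨c', hc', hcT⟩ := D.Ke_into hx1 (Or.inl h4i) ((D.isPGroup_map _).map _) hB
    set u := c' * g⁻¹ with hu
    have hmv : ∀ v, Commute v w → ∃ v' ∈ (Ke : Subgroup (W m)), u * D.κ v * u⁻¹ = D.κ v' := fun v hv => by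
      obtain ⟨v', hv', ev⟩ := hcT _ ⟨_, ⟨v, Subgroup.mem_centralizer_singleton_iff.mpr hv.eq, rfl⟩, rfl⟩
      exact ⟨v', hv', by rw [ev, hu]; simp [mul_assoc]⟩
    have h11 : Commute (rot 1 1) w := by
      simp [Commute, SemiconjBy, hwdef, mul_def, rot, sg, add_comm]
    have hqw : Commute q w := by
      rw [hwq]
      exact (show Commute q (rot c c) from
        (Q_comm hm (show rot c c ∈ Q1 hm by simp [mem_Q1, rot]) hqQ).symm).mul_right (Commute.refl q)
    obtain ⟨a', ha', ea⟩ := hmv _ h11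
    obtain ⟨q', hq', eq'⟩ := hmv _ hqw
    have haK := D.closed (show rot 1 1 ∈ (Kp : Subgroup (W m)) from ⟨1, rfl⟩) ea
    obtain ⟨p, r, ae, as⟩ := a'
    replace ha' : ae = false := ha'
    subst ha'
    cases as
    swap
    · exact D.gen_conj h8 haK rfl rfl u ea
    obtain ⟨v, hv⟩ := D.rot_fusion h8 (a := rot 1 1) (b := rot p r) ⟨rfl, rfl, 1, rfl⟩ ⟨rfl, rfl, haK⟩ ea
    have hpr : p = r := by
      rcases rot_orbit hv with ⟨h1, h2⟩ | ⟨h1, h2⟩ | ⟨h1, h2⟩ | ⟨h1, h2⟩ <;> rw [h1, h2]
    subst hpr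
    have ec : u * D.κ (rot c c) * u⁻¹ = D.κ (rot ((c.val : ZMod m) * p) ((c.val : ZMod m) * p)) := by
      rw [← rot_pow, map_pow, show D.κ (rot p p) = u * D.κ (rot 1 1) * u⁻¹ from ea.symm, conj_pow, ← map_pow,
        rot_pow]
      simp
    have hx : u * D.κ w * u⁻¹ = D.κ (rot i i) := by
      rw [hu, ← e, show c' * g⁻¹ * (g * D.κ ⟨i, i, false, false⟩ * g⁻¹) * (c' * g⁻¹)⁻¹ =
        c' * D.κ (rot i i) * c'⁻¹ by rw [rot]; group, hc'.eq, mul_inv_cancel_right]
    have hq'Q : q' ∈ Q1 hm := by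
      have h1 : D.κ q' = D.κ ((rot ((c.val : ZMod m) * p) ((c.val : ZMod m) * p))⁻¹ * rot i i) := by
        rw [map_mul, map_inv, ← ec, ← eq', ← hx, hwq, map_mul]
        group
      rw [D.inj h1]
      exact mul_mem (inv_mem (by simp [mem_Q1, rot])) (by simp [mem_Q1, rot])
    exact D.no_fusion hq'Q (D.sq_zc_of_conj eq' hq2) hqQ u⁻¹ (by rw [← eq']; group)
  · exfalso
    refine hx1 ?_
    have h1 : (⟨x, y, true, false⟩ : W m) * ⟨x, y, true, false⟩ = 1 := by simp [mul_def, one_def, sg]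
    have h2 := D.sq_one_of_conj (g := g⁻¹) (v := ⟨x, y, true, false⟩) (w := ⟨i, i, false, false⟩) (by rw [← e]; group) h1
    simpa [mul_def, one_def, sg] using h2
  · exfalso
    have e2 : g * D.κ (rot (i + i) (i + i)) * g⁻¹ = D.κ (rot (x - y) (y - x)) := by
      rw [D.sq_of_conj e (show (⟨i, i, false, false⟩ : W m) * ⟨i, i, false, false⟩ = rot (i + i) (i + i) by
        simp [mul_def, rot, sg])]
      simp [mul_def, rot, sg, sub_eq_add_neg]
    obtain ⟨v, hv⟩ := D.rot_fusion h8 (a := rot (i + i) (i + i)) (b := rot (x - y) (y - x)) ⟨rfl, rfl, i + i, rfl⟩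
      ⟨rfl, rfl, 0, by simp [rot]⟩ e2
    apply h4i
    rcases rot_orbit hv with ⟨h1, h2⟩ | ⟨h1, h2⟩ | ⟨h1, h2⟩ | ⟨h1, h2⟩ <;>
      first
        | linear_combination -h1 - h2
        | linear_combination h1 + h2

end Setup

end CfsgLib.G2Cent
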