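/-
The normal closures of the two quaternion subgroups.
-/
import Cfsg.Agent.Lib.G2Cent.Strong
import Cfsg.Agent.Lib.GW.Conseq.Basic
import Cfsg.Agent.Lib.AfterFT.PairClosed.Main
import Cfsg.Agent.Lib.AfterFT.PairClosed.Transfer
import Cfsg.Agent.S0205

set_option autoImplicit false
set_option linter.unusedSectionVars false
set_option linter.style.haveILetI false

namespace CfsgLib.G2Cent

open CfsgLib.G2Sylow

universe u

namespace Setup

variable {X : Type u} [Group X] [Finite X] {m h k : ℕ} [NeZero m] (D : Setup X m h k)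

/-- The normal closure of the first quaternion subgroup. -/
def N1 : Subgroup X := Subgroup.normalClosure (((Q1 D.hm).map D.κ : Subgroup X) : Set X)

theorem N1_normal : D.N1.Normal := Subgroup.normalClosure_normal

theorem map_flip : (Q1 D.hm).map D.flip.κ = (Q2 D.hm).map D.κ := by
  ext x
  constructor
  · rintro ⟨w, hw, rfl⟩
    exact ⟨_, (flip_mem_Q2 D.hm).mpr hw, rfl⟩
  · rintro ⟨w, hw, rfl⟩
    exact ⟨CfsgLib.G2Cent.flip w, (flip_mem_Q1 D.hm).mpr hw, by rw [flip_κ, flip_flip]⟩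

theorem Q1_le_N1 {w : W m} (hw : w ∈ Q1 D.hm) : D.κ w ∈ D.N1 := Subgroup.subset_normalClosure ⟨w, hw, rfl⟩

theorem Q2_le_N1 {w : W m} (hw : w ∈ Q2 D.hm) : D.κ w ∈ D.flip.N1 := by
  refine Subgroup.subset_normalClosure ?_
  show D.κ w ∈ ((Q1 D.hm).map D.flip.κ : Subgroup X)
  rw [D.map_flip]
  exact ⟨w, hw, rfl⟩

theorem strong2 {x w : W m} (hx : x ∈ Q2 D.hm) {g : X} (e : g * D.κ x * g⁻¹ = D.κ w) : w ∈ Q2 D.hm := by
  have := D.flip.strong (x := CfsgLib.G2Cent.flip x) (w := CfsgLib.G2Cent.flip w) ((flip_mem_Q1 D.hm).mpr hx)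
    (g := g) (by rw [flip_κ, flip_κ, flip_flip, flip_flip]; exact e)
  exact (flip_mem_Q1 D.hm).mp this

/-- The closures meet the Sylow subgroup in the quaternion subgroups and commute modulo the centre. -/
theorem closures : (∀ w, D.κ w ∈ D.N1 → w ∈ Q1 D.hm) ∧ ⁅D.N1, D.flip.N1⁆ ≤ Subgroup.zpowers (D.κ (zc h)) := by
  classical
  haveI : Fact (Nat.Prime 2) := ⟨Nat.prime_two⟩
  have hm := D.hm
  set z := D.κ (zc h) with hz
  set Z := Subgroup.zpowers z with hZ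
  haveI hZn : Z.Normal := ⟨fun x hx g => by
    obtain ⟨n, rfl⟩ := Subgroup.mem_zpowers_iff.mp hx
    rw [((D.cz g).zpow_right n).eq, mul_inv_cancel_right]
    exact hx⟩
  have hZc : Z ≤ Subgroup.center X :=
    Subgroup.zpowers_le.mpr (Subgroup.mem_center_iff.mpr fun g => (D.cz g).eq)
  have hZcard : Nat.card Z = 2 := by
    rw [hZ, Nat.card_zpowers, hz, orderOf_injective D.κ D.inj]
    exact orderOf_eq_prime (by rw [sq, zc_sq hm]) (zc_ne hm)
  have hOY : Cfsg.oddCore (X ⧸ Z) = ⊥ := CfsgLib.GWConseq.core_quotient_central D.core Z hZcard hZc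
  set π := QuotientGroup.mk' Z with hπ
  have πeq : ∀ v w : W m, π (D.κ v) = π (D.κ w) ↔ v = w ∨ v = w * zc h := by
    intro v w
    rw [hπ, QuotientGroup.mk'_eq_mk']
    constructor
    · rintro ⟨y, hy, e⟩
      obtain ⟨n, rfl⟩ := Subgroup.mem_zpowers_iff.mp hy
      rcases Int.even_or_odd n with ⟨j, rfl⟩ | ⟨j, rfl⟩
      · rw [← two_mul, zpow_mul, zpow_two, D.z_sq, one_zpow, mul_one] at e
        exact Or.inl (D.inj e)
      · rw [zpow_add, zpow_mul, zpow_two, D.z_sq, one_zpow, one_mul, zpow_one, hz, ← map_mul] at e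
        refine Or.inr ?_
        rw [← D.inj e, mul_assoc, zc_sq hm, mul_one]
    · rintro (rfl | rfl)
      · exact ⟨1, one_mem _, mul_one _⟩
      · exact ⟨z, Subgroup.mem_zpowers z, by rw [hz, ← map_mul, mul_assoc, zc_sq hm, mul_one]⟩
  let P : Sylow 2 (X ⧸ Z) := D.S.mapSurjective (QuotientGroup.mk'_surjective Z)
  have hP : ∀ y, y ∈ (P : Subgroup (X ⧸ Z)) ↔ ∃ w, π (D.κ w) = y := fun y => by
    show y ∈ (D.S : Subgroup X).map π ↔ _
    rw [D.coe_S]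
    exact ⟨fun ⟨_, ⟨w, rfl⟩, e⟩ => ⟨w, e⟩, fun ⟨w, e⟩ => ⟨_, ⟨w, rfl⟩, e⟩⟩
  set D1 := ((Q1 hm).map D.κ).map π with hD1
  set D2 := ((Q2 hm).map D.κ).map π with hD2
  have mem1 : ∀ v, π (D.κ v) ∈ D1 → v ∈ Q1 hm := by
    rintro v ⟨_, ⟨p, hp, rfl⟩, e⟩
    rcases (πeq v p).mp e.symm with rfl | rfl
    · exact hp
    · exact mul_mem hp (zc_mem_Q1 hm)
  have mem2 : ∀ v, π (D.κ v) ∈ D2 → v ∈ Q2 hm := by
    rintro v ⟨_, ⟨p, hp, rfl⟩, e⟩
    rcases (πeq v p).mp e.symm with rfl | rfl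
    · exact hp
    · exact mul_mem hp (zc_mem_Q2 hm)
  have mk1 : ∀ v ∈ Q1 hm, π (D.κ v) ∈ D1 := fun v hv => ⟨_, ⟨v, hv, rfl⟩, rfl⟩
  have mk2 : ∀ v ∈ Q2 hm, π (D.κ v) ∈ D2 := fun v hv => ⟨_, ⟨v, hv, rfl⟩, rfl⟩
  have h1 : Cfsg.IsStronglyClosed D1 (P : Subgroup (X ⧸ Z)) := by
    refine ⟨fun y hy => ?_, fun y hy g hg => ?_⟩
    · obtain ⟨_, ⟨p, -, rfl⟩, rfl⟩ := hy
      exact (hP _).mpr ⟨p, rfl⟩
    · obtain ⟨_, ⟨p, hp, rfl⟩, rfl⟩ := hy
      obtain ⟨w, hw⟩ := (hP _).mp hg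
      obtain ⟨g, rfl⟩ := QuotientGroup.mk'_surjective Z g
      rw [← map_inv, ← map_mul, ← map_mul, hπ, QuotientGroup.mk'_eq_mk'] at hw
      obtain ⟨y, hy, e⟩ := hw
      obtain ⟨v, hv⟩ : ∃ v, D.κ v = g * D.κ p * g⁻¹ := by
        obtain ⟨n, rfl⟩ := Subgroup.mem_zpowers_iff.mp hy
        exact ⟨w * zc h ^ n, by rw [map_mul, map_zpow]; exact e⟩
      have := D.strong hp hv.symm
      have h := mk1 v this
      rw [hv, map_mul, map_mul, map_inv] at h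
      exact h
  have h2 : Cfsg.IsStronglyClosed D2 (P : Subgroup (X ⧸ Z)) := by
    refine ⟨fun y hy => ?_, fun y hy g hg => ?_⟩
    · obtain ⟨_, ⟨p, -, rfl⟩, rfl⟩ := hy
      exact (hP _).mpr ⟨p, rfl⟩
    · obtain ⟨_, ⟨p, hp, rfl⟩, rfl⟩ := hy
      obtain ⟨w, hw⟩ := (hP _).mp hg
      obtain ⟨g, rfl⟩ := QuotientGroup.mk'_surjective Z g
      rw [← map_inv, ← map_mul, ← map_mul, hπ, QuotientGroup.mk'_eq_mk'] at hw
      obtain ⟨y, hy, e⟩ := hw
      obtain ⟨v, hv⟩ : ∃ v, D.κ v = g * D.κ p * g⁻¹ := by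
        obtain ⟨n, rfl⟩ := Subgroup.mem_zpowers_iff.mp hy
        exact ⟨w * zc h ^ n, by rw [map_mul, map_zpow]; exact e⟩
      have := D.strong2 hp hv.symm
      have h := mk2 v this
      rw [hv, map_mul, map_mul, map_inv] at h
      exact h
  have hc : ∀ a ∈ D1, ∀ b ∈ D2, a * b = b * a := by
    rintro _ ⟨_, ⟨p, hp, rfl⟩, rfl⟩ _ ⟨_, ⟨q, hq, rfl⟩, rfl⟩
    simp only [← map_mul, Q_comm hm hp hq]
  have hd : D1 ⊓ D2 = ⊥ := by
    rw [eq_bot_iff]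
    rintro y ⟨hy1, hy2⟩
    obtain ⟨_, ⟨p, hp, rfl⟩, rfl⟩ := hy1
    rw [Subgroup.mem_bot]
    rcases inf_cases hm hp (mem2 p hy2) with rfl | rfl
    · rw [map_one, map_one]
    · have := (πeq (zc h) 1).mpr (Or.inr (one_mul _).symm)
      rw [this, map_one, map_one]
  have hcomm := CfsgLib.AfterFT.PairClosed.commutator_normalClosure_le
    (fun H _ _ hH => Cfsg.Agent.S0205.result hH) P D1 D2 h1 h2 hc hd
  rw [hOY] at hcomm
  set M1 := Subgroup.normalClosure (D1 : Set (X ⧸ Z)) with hM1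
  set M2 := Subgroup.normalClosure (D2 : Set (X ⧸ Z)) with hM2
  have hN1 : D.N1.map π = M1 := by
    rw [N1, Subgroup.map_normalClosure _ π (QuotientGroup.mk'_surjective Z)]
    rfl
  have hN2 : D.flip.N1.map π = M2 := by
    rw [N1, Subgroup.map_normalClosure _ π (QuotientGroup.mk'_surjective Z)]
    show Subgroup.normalClosure (π '' ((Q1 hm).map D.flip.κ : Subgroup X)) = _
    rw [D.map_flip]
    rfl
  have hMc : ∀ a ∈ M1, ∀ b ∈ M2, a * b = b * a := fun a ha b hb =>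
    commutatorElement_eq_one_iff_mul_comm.mp (Subgroup.mem_bot.mp (hcomm (Subgroup.commutator_mem_commutator ha hb)))
  -- elements of the first closure in the Sylow subgroup
  obtain ⟨M, hM, hMiff⟩ := D.exists_M
  have hM1le : M1 ≤ M.map π := by
    rw [← hN1]
    refine Subgroup.map_mono (Subgroup.normalClosure_le_normal ?_)
    rintro _ ⟨p, hp, rfl⟩
    exact (hMiff p).mpr (Q1_le hm D.he hp)
  have hdec : ∀ y : ↥((P : Subgroup (X ⧸ Z)) ⊓ M1), ∃ a ∈ D1, ∃ b ∈ D2 ⊓ M1, (y : X ⧸ Z) = a * b := by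
    rintro ⟨y, hyP, hyM⟩
    obtain ⟨w, rfl⟩ := (hP y).mp hyP
    obtain ⟨x, hx, e⟩ := hM1le hyM
    have hwM : D.κ w ∈ M := by
      rw [hπ, QuotientGroup.mk'_eq_mk'] at e
      obtain ⟨c, hc', e⟩ := e
      rw [← e]
      refine mul_mem hx ?_
      obtain ⟨n, rfl⟩ := Subgroup.mem_zpowers_iff.mp hc'
      exact zpow_mem ((hMiff _).mpr (Q1_le hm D.he (zc_mem_Q1 hm))) n
    obtain ⟨p, hp, q, hq, rfl⟩ := exists_decomp hm D.he ((hMiff w).mp hwM)
    refine ⟨_, mk1 p hp, _, Subgroup.mem_inf.mpr ⟨mk2 q hq, ?_⟩,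
      show π (D.κ (p * q)) = _ by rw [map_mul, map_mul]⟩
    show π (D.κ q) ∈ M1
    have hpM : π (D.κ p) ∈ M1 := Subgroup.subset_normalClosure (mk1 p hp)
    have := mul_mem (inv_mem hpM) hyM
    simpa using this
  choose fa hfa fb hfb hfe using hdec
  have huniq : ∀ {a a' b b' : X ⧸ Z}, a ∈ D1 → a' ∈ D1 → b ∈ D2 → b' ∈ D2 → a * b = a' * b' → b = b' := by
    intro a a' b b' ha ha' hb hb' e
    have h3 : b' * b⁻¹ ∈ D1 ⊓ D2 := Subgroup.mem_inf.mpr ⟨by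
      have : b' * b⁻¹ = a'⁻¹ * a := by
        calc b' * b⁻¹ = a'⁻¹ * (a' * b') * b⁻¹ := by group
          _ = a'⁻¹ * a := by rw [← e]; group
      rw [this]; exact mul_mem (inv_mem ha') ha, mul_mem hb' (inv_mem hb)⟩
    rw [hd, Subgroup.mem_bot, mul_inv_eq_one] at h3
    exact h3.symm
  letI : CommGroup ↥(D2 ⊓ M1) :=
    { (inferInstance : Group ↥(D2 ⊓ M1)) with
      mul_comm := fun a b => Subtype.ext (hMc _ a.2.2 _ (Subgroup.subset_normalClosure b.2.1)) }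
  let φ : ↥((P : Subgroup (X ⧸ Z)) ⊓ M1) →* ↥(D2 ⊓ M1) :=
    MonoidHom.mk' (fun y => ⟨fb y, hfb y⟩) fun y y' => Subtype.ext <| by
      show fb (y * y') = fb y * fb y'
      refine huniq (hfa (y * y')) (mul_mem (hfa y) (hfa y')) (hfb (y * y')).1 (mul_mem (hfb y).1 (hfb y').1) ?_
      rw [← hfe, Subgroup.coe_mul, hfe, hfe]
      calc fa y * fb y * (fa y' * fb y') = fa y * (fb y * fa y') * fb y' := by group
        _ = fa y * (fa y' * fb y) * fb y' := by rw [hc _ (hfa y') _ (hfb y).1]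
        _ = _ := by group
  have hbot : ∀ x ∈ D2, x ∈ M1 → x = 1 := by
    intro x hx2 hx1
    have hxP : x ∈ (P : Subgroup (X ⧸ Z)) ⊓ M1 := ⟨h2.1 hx2, hx1⟩
    have h3 := CfsgLib.AfterFT.PairClosed.hom_eq_one_of_central (C := ↥(D2 ⊓ M1)) P h1 M1 hM1 φ (fun y hy =>
      Subtype.ext (show fb y = 1 from huniq (hfa y) hy (hfb y).1 (one_mem _) (by rw [← hfe, mul_one]))) (x := x) hxP
      (fun y hy => (hMc y hy x (Subgroup.subset_normalClosure hx2)).symm)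
    have h4 : fb ⟨x, hxP⟩ = x := huniq (hfa _) (one_mem _) (hfb _).1 hx2 (by rw [← hfe, one_mul])
    rw [← h4]
    exact congrArg Subtype.val h3
  refine ⟨fun w hw => ?_, ?_⟩
  · have hyM : π (D.κ w) ∈ M1 := by rw [← hN1]; exact ⟨_, hw, rfl⟩
    have hyP : π (D.κ w) ∈ (P : Subgroup (X ⧸ Z)) := (hP _).mpr ⟨w, rfl⟩
    have := hfe ⟨_, hyP, hyM⟩
    rw [hbot _ (hfb _).1 (hfb _).2, mul_one] at this
    have h5 : π (D.κ w) = fa ⟨_, hyP, hyM⟩ := this
    exact mem1 w (by rw [h5]; exact hfa _)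
  · have h3 : (⁅D.N1, D.flip.N1⁆ : Subgroup X).map π = ⊥ := by
      rw [Subgroup.map_commutator, hN1, hN2]
      exact le_bot_iff.mp hcomm
    rwa [Subgroup.map_eq_bot_iff, hπ, QuotientGroup.ker_mk'] at h3

end Setup

end CfsgLib.G2Cent
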