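/-
The first quaternion subgroup as a generalised quaternion group.
-/
import Cfsg.Agent.Lib.G2Cent.Facts

set_option autoImplicit false
set_option linter.unusedSectionVars false

namespace CfsgLib.G2Cent

open CfsgLib.G2Sylow

/-- The parametrisation. -/
def qFun (h : ℕ) : QuaternionGroup h → W (2 * h)
  | .a i => ⟨i, i, false, false⟩
  | .xa i => ⟨(h : ZMod (2 * h)) - i, -i, true, true⟩

theorem qFun_mul (h : ℕ) [NeZero h] (x y : QuaternionGroup h) : qFun h (x * y) = qFun h x * qFun h y := by
  have := two_h (m := 2 * h) (h := h) rfl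
  rcases x with i | i <;> rcases y with j | j
  · simp [qFun, mul_def, sg, QuaternionGroup.a_mul_a]
  · simp [qFun, mul_def, sg, QuaternionGroup.a_mul_xa] <;> grind
  · simp [qFun, mul_def, sg, QuaternionGroup.xa_mul_a] <;> grind
  · simp [qFun, mul_def, sg, QuaternionGroup.xa_mul_xa] <;> grind

theorem exists_quat {m h : ℕ} [NeZero h] (hm : m = 2 * h) :
    ∃ φ : QuaternionGroup h →* W m, Function.Injective φ ∧ φ.range = Q1 hm ∧
      φ (.a 1) = ⟨1, 1, false, false⟩ ∧ φ (.xa 0) = ⟨(h : ZMod m), 0, true, true⟩ ∧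
      φ (.xa 1) = ⟨(h : ZMod m) - 1, -1, true, true⟩ := by
  subst hm
  refine ⟨MonoidHom.mk' (qFun h) (qFun_mul h), ?_, ?_, rfl, by simp [qFun], by simp [qFun]⟩
  · intro x y e
    rcases x with i | i <;> rcases y with j | j <;> simp [qFun] at e ⊢ <;> first | exact e | exact e.2
  · ext w
    constructor
    · rintro ⟨x, rfl⟩
      rcases x with i | i <;> simp [qFun, mem_Q1]
      ring
    · rintro ⟨hs, hi⟩
      obtain ⟨i, j, e, s⟩ := w
      simp only at hs hi
      subst hs
      cases s <;> simp at hi <;> subst hi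
      · exact ⟨.a i, rfl⟩
      · exact ⟨.xa (-j), by simp [qFun]; ring⟩

end CfsgLib.G2Cent
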