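/-
The normal closure of one quaternion subgroup.
-/
import Cfsg.Agent.Lib.G2Cent.Closure
import Cfsg.Agent.Lib.G2Cent.Quat
import Cfsg.Agent.Lib.G2Cent.AltSeven
import Cfsg.Agent.Lib.GW.Final

set_option autoImplicit false
set_option linter.unusedSectionVars false
set_option linter.style.haveILetI false

namespace CfsgLib.G2Cent

open CfsgLib.G2Sylow CfsgLib.GWConseq

universe u

namespace Setup

variable {X : Type u} [Group X] [Finite X] {m h k : ℕ} [NeZero m] (D : Setup X m h k)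

include D in
theorem h_pos : NeZero h := ⟨by have := D.hm; have := D.h4; omega⟩

/-- A normal subgroup meeting the Sylow subgroup centrally is central. -/
theorem small_normal (H : Subgroup X) [H.Normal] (hH : ∀ w, D.κ w ∈ H → w = 1 ∨ w = zc h) :
    H ≤ Subgroup.zpowers (D.κ (zc h)) := by
  classical
  haveI : Fact (Nat.Prime 2) := ⟨Nat.prime_two⟩
  set z := D.κ (zc h) with hz
  set Z := Subgroup.zpowers z with hZ
  haveI hZn : Z.Normal := ⟨fun x hx g => by
    obtain ⟨n, rfl⟩ := Subgroup.mem_zpowers_iff.mp hx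
    rw [((D.cz g).zpow_right n).eq, mul_inv_cancel_right]
    exact hx⟩
  have hZc : Z ≤ Subgroup.center X :=
    Subgroup.zpowers_le.mpr (Subgroup.mem_center_iff.mpr fun g => (D.cz g).eq)
  have hZcard : Nat.card Z = 2 := by
    rw [hZ, Nat.card_zpowers, hz, orderOf_injective D.κ D.inj]
    exact orderOf_eq_prime (by rw [sq, zc_sq D.hm]) (zc_ne D.hm)
  have hOY : Cfsg.oddCore (X ⧸ Z) = ⊥ := CfsgLib.GWConseq.core_quotient_central D.core Z hZcard hZc
  set π := QuotientGroup.mk' Z with hπ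
  let P : Sylow 2 (X ⧸ Z) := D.S.mapSurjective (QuotientGroup.mk'_surjective Z)
  haveI : (H.map π).Normal := Subgroup.Normal.map inferInstance _ (QuotientGroup.mk'_surjective Z)
  have hbot : (P : Subgroup (X ⧸ Z)) ⊓ H.map π = ⊥ := by
    rw [eq_bot_iff]
    rintro y ⟨hyP, hyH⟩
    obtain ⟨s, hs, rfl⟩ : y ∈ (D.S : Subgroup X).map π := hyP
    obtain ⟨w, rfl⟩ := D.mem_S.mp hs
    obtain ⟨x, hx, e⟩ := hyH
    rw [Subgroup.mem_bot, hπ, QuotientGroup.mk'_apply, QuotientGroup.eq_one_iff]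
    rw [hπ, QuotientGroup.mk'_eq_mk'] at e
    obtain ⟨c, hc, e⟩ := e
    obtain ⟨n, rfl⟩ := Subgroup.mem_zpowers_iff.mp hc
    have : D.κ (w * (zc h ^ n)⁻¹) ∈ H := by
      rw [map_mul, map_inv, map_zpow, ← e, ← hz, mul_inv_cancel_right]; exact hx
    have hw : D.κ w = D.κ (w * (zc h ^ n)⁻¹) * z ^ n := by
      rw [map_mul, map_inv, map_zpow, ← hz, inv_mul_cancel_right]
    rw [hw]
    refine Z.mul_mem ?_ (zpow_mem (Subgroup.mem_zpowers z) n)
    rcases hH _ this with h1 | h1 <;> rw [h1]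
    · rw [map_one]; exact one_mem _
    · exact Subgroup.mem_zpowers z
  have hodd := CfsgLib.AfterFT.PairClosed.odd_index_inf_normal P (H.map π)
  rw [hbot, Subgroup.relIndex_bot_left] at hodd
  have := CfsgLib.le_oddCore hodd
  rw [hOY, le_bot_iff, Subgroup.map_eq_bot_iff, hπ, QuotientGroup.ker_mk'] at this
  exact this

theorem zpow_cases {x : X} (hx : x ∈ Subgroup.zpowers (D.κ (zc h))) : x = 1 ∨ x = D.κ (zc h) := by
  obtain ⟨n, rfl⟩ := Subgroup.mem_zpowers_iff.mp hx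
  rcases Int.even_or_odd n with ⟨j, rfl⟩ | ⟨j, rfl⟩
  · left; rw [← two_mul, zpow_mul, zpow_two, D.z_sq, one_zpow]
  · right; rw [zpow_add, zpow_mul, zpow_two, D.z_sq, one_zpow, one_mul, zpow_one]

theorem pow_four {x : W m} (hx : x ∈ Q1 D.hm) (h1 : x ≠ 1) (hz : x ≠ zc h) : ∃ r : ℕ, x ^ r * x ^ r = zc h := by
  classical
  have hex : ∃ j, x ^ 2 ^ j = 1 := D.isPGroup_W x
  have hj := Nat.find_spec hex
  obtain ⟨i, hi⟩ : ∃ i, Nat.find hex = i + 1 := Nat.exists_eq_succ_of_ne_zero fun e => by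
    rw [e, pow_zero, pow_one] at hj; exact h1 hj
  rw [hi, pow_succ, pow_mul, pow_two] at hj
  have hne : x ^ 2 ^ i ≠ 1 := fun e => Nat.find_min hex (show i < Nat.find hex by omega) e
  have hzc := (Q1_invol D.hm (pow_mem hx _) hj).resolve_left hne
  obtain ⟨l, rfl⟩ : ∃ l, i = l + 1 := Nat.exists_eq_succ_of_ne_zero fun e => by
    rw [e, pow_zero, pow_one] at hzc; exact hz hzc
  exact ⟨2 ^ l, by rw [← pow_add, ← two_mul, ← pow_succ']; exact hzc⟩

theorem N1_inter {w : W m} (hw : D.κ w ∈ D.N1) : w ∈ Q1 D.hm := D.closures.1 w hw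

theorem N2_inter {w : W m} (hw : D.κ w ∈ D.flip.N1) : w ∈ Q2 D.hm := by
  have := D.flip.N1_inter (w := CfsgLib.G2Cent.flip w) (by rw [flip_κ, flip_flip]; exact hw)
  exact (flip_mem_Q1 D.hm).mp this

/-- A normal subgroup inside the closure either contains the quaternion subgroup or is central. -/
theorem dichotomy (H : Subgroup X) [H.Normal] (hH : H ≤ D.N1) :
    D.N1 ≤ H ∨ H ≤ Subgroup.zpowers (D.κ (zc h)) := by
  classical
  by_cases hex : ∃ p ∈ Q1 D.hm, p * p = zc h ∧ D.κ p ∈ H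
  · obtain ⟨p, hp, hp2, hpH⟩ := hex
    refine Or.inl (Subgroup.normalClosure_le_normal ?_)
    have : Q1 D.hm ≤ H.comap D.κ := Q1_le_of D.hm fun v hv hv2 => by
      obtain ⟨g, hg⟩ := isConj_iff.mp (D.order_four hp hp2 hv hv2)
      rw [Subgroup.mem_comap, ← hg]
      exact (inferInstance : H.Normal).conj_mem _ hpH g
    rintro _ ⟨v, hv, rfl⟩
    exact this hv
  · refine Or.inr (D.small_normal H fun w hw => ?_)
    have hwQ := D.N1_inter (hH hw)
    by_contra hne
    push Not at hne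
    obtain ⟨r, hr⟩ := D.pow_four hwQ hne.1 hne.2
    exact hex ⟨w ^ r, pow_mem hwQ r, hr, by rw [map_pow]; exact pow_mem hw r⟩

/-- The Sylow subgroup of a normal subgroup. -/
theorem sylow_of_inter (H : Subgroup X) [H.Normal] (hQ : ∀ w ∈ Q1 D.hm, D.κ w ∈ H)
    (hH : ∀ w, D.κ w ∈ H → w ∈ Q1 D.hm) :
    ∃ T : Sylow 2 H, (T : Subgroup H) = ((Q1 D.hm).map D.κ).subgroupOf H := by
  haveI : Fact (Nat.Prime 2) := ⟨Nat.prime_two⟩
  have hle : (Q1 D.hm).map D.κ ≤ H := by rintro _ ⟨w, hw, rfl⟩; exact hQ w hw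
  have heq : (D.S : Subgroup X) ⊓ H = (Q1 D.hm).map D.κ := by
    refine le_antisymm ?_ (le_inf ?_ hle)
    · rintro x ⟨hx, hxH⟩
      obtain ⟨w, rfl⟩ := D.mem_S.mp hx
      exact ⟨w, hH w hxH, rfl⟩
    · rw [D.coe_S]; exact Subgroup.map_le_range _ _
  have hodd := CfsgLib.AfterFT.PairClosed.odd_index_inf_normal D.S H
  rw [heq] at hodd
  exact ⟨((D.isPGroup_map _).of_equiv (Subgroup.subgroupOfEquivOfLe hle).symm).toSylow
    (fun hd => Nat.not_even_iff_odd.mpr hodd (even_iff_two_dvd.mpr hd)), rfl⟩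

include D in
theorem core_normal (H : Subgroup X) [H.Normal] : Cfsg.oddCore H = ⊥ := by
  apply Subgroup.map_injective H.subtype_injective
  rw [Subgroup.map_bot]
  exact le_bot_iff.mp (D.core ▸ CfsgLib.map_pPrimeCore_le 2 H)

include D in
theorem alpha_square (hk : 0 < k) : ∃ d : ZMod m, (rot d d : W m) * rot d d * (rot d d * rot d d) = zc h := by
  obtain ⟨j, rfl⟩ : ∃ j, k = j + 1 := Nat.exists_eq_add_of_le' hk
  refine ⟨((2 ^ j : ℕ) : ZMod m), ?_⟩
  have : ((2 ^ j : ℕ) : ZMod m) + ((2 ^ j : ℕ) : ZMod m) + (((2 ^ j : ℕ) : ZMod m) + ((2 ^ j : ℕ) : ZMod m)) =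
      ((h : ℕ) : ZMod m) := by
    rw [← Nat.cast_add, ← Nat.cast_add]
    congr 1
    rw [D.hk]; ring
  simp only [rot_mul, this]

/-- The normal closure is `SL(2,F)` or the quaternion group of order eight. -/
theorem structure_N1 :
    (Group.IsPerfect D.N1 ∧ ∃ (F : Type) (_ : Field F) (_ : Fintype F), Odd (Fintype.card F) ∧ 3 < Fintype.card F ∧
      Nonempty (D.N1 ≃* Matrix.SpecialLinearGroup (Fin 2) F)) ∨
    (k = 0 ∧ ∀ x ∈ D.N1, ∃ w ∈ Q1 D.hm, D.κ w = x) := by
  classical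
  haveI : Fact (Nat.Prime 2) := ⟨Nat.prime_two⟩
  haveI := D.N1_normal
  haveI := D.h_pos
  have hm := D.hm
  obtain ⟨q, hq⟩ := exists_quarter hm D.he
  have hαQ : (rot q q : W m) ∈ Q1 hm := by simp [mem_Q1, rot]
  have hα2 : (rot q q : W m) * rot q q = zc h := by simp [rot_mul, hq]
  have hnotZ : ¬ D.N1 ≤ Subgroup.zpowers (D.κ (zc h)) := fun hle => by
    rcases D.zpow_cases (hle (D.Q1_le_N1 hαQ)) with e | e
    · have := D.inj (e.trans (map_one _).symm)
      rw [this, mul_one] at hα2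
      exact zc_ne hm hα2.symm
    · rw [D.inj e, zc_sq hm] at hα2
      exact zc_ne hm hα2.symm
  obtain ⟨Pc, hPn, hPK, hPperf, hPsol, -⟩ := exists_perfect_core D.N1
  haveI := hPn
  rcases eq_or_ne Pc ⊥ with hP | hP
  · right
    haveI := hPsol hP
    -- the two-core contains the quaternion subgroup
    set R : Subgroup X := Cfsg.pCore 2 X ⊓ D.N1 with hR
    haveI : R.Normal := Subgroup.normal_inf_normal _ _
    have hRN : ∀ x ∈ R, ∃ w ∈ Q1 D.hm, D.κ w = x := by
      intro x hx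
      obtain ⟨w, hw⟩ := D.mem_S.mp (CfsgLib.pCore_le_sylow D.S hx.1)
      exact ⟨w, D.N1_inter (by rw [hw]; exact hx.2), hw⟩
    rcases D.dichotomy R inf_le_right with h1 | h1
    · refine ⟨?_, fun x hx => hRN x (h1 hx)⟩
      by_contra hk
      obtain ⟨d, hd⟩ := D.alpha_square (Nat.pos_of_ne_zero hk)
      have hdQ : (rot d d : W m) ∈ Q1 hm := by simp [mem_Q1, rot]
      obtain ⟨g, hg⟩ := isConj_iff.mp (D.order_four (mul_mem hdQ hdQ) hd (p' := ⟨h, 0, true, true⟩)
        (by simp [mem_Q1]) (sq_of_refl hm (by simp [mem_Q1]) rfl))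
      obtain ⟨v, -, hv⟩ := hRN _ (h1 (D.N1_normal.conj_mem _ (D.Q1_le_N1 hdQ) g))
      have hvv : v * v = (⟨h, 0, true, true⟩ : W m) := D.inj (by rw [← hg, map_mul, map_mul, hv]; group)
      have := congrArg W.e hvv
      simp [mul_def] at this
    · exfalso
      set c : Subgroup D.N1 := Cfsg.pCore 2 D.N1
      have hc : c.map D.N1.subtype ≤ R := le_inf (CfsgLib.map_pCore_le 2 D.N1) (Subgroup.map_subtype_le _)
      have hcz : ∀ y ∈ c, (y : X) ∈ Subgroup.zpowers (D.κ (zc h)) := fun y hy => h1 (hc ⟨y, hy, rfl⟩)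
      have hcent : ∀ y : D.N1, y ∈ Subgroup.centralizer (c : Set D.N1) := fun y q hq => by
        obtain ⟨n, hn⟩ := Subgroup.mem_zpowers_iff.mp (hcz q hq)
        refine Subtype.ext ?_
        show (q : X) * y = y * q
        rw [← hn]
        exact ((D.cz (y : X)).zpow_right n).eq.symm
      refine hnotZ fun x hx => hcz ⟨x, hx⟩ ?_
      exact CfsgLib.centralizer_pCore_le Nat.prime_two (D.core_normal D.N1) (hcent _)
  · left
    have hN : D.N1 = Pc := by
      refine le_antisymm ?_ hPK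
      rcases D.dichotomy Pc hPK with h1 | h1
      · exact h1
      · exfalso
        refine hP ((Subgroup.commutator_eq_self (H := Pc)).symm.trans ?_)
        rw [eq_bot_iff, Subgroup.commutator_le]
        intro a ha b hb
        rw [Subgroup.mem_bot, commutatorElement_eq_one_iff_mul_comm]
        obtain ⟨n, rfl⟩ := Subgroup.mem_zpowers_iff.mp (h1 hb)
        exact ((D.cz a).zpow_right n).eq
    haveI hperf : Group.IsPerfect D.N1 := hN ▸ hPperf
    obtain ⟨T, hT⟩ := D.sylow_of_inter D.N1 (fun w hw => D.Q1_le_N1 hw) (fun w hw => D.N1_inter hw)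
    obtain ⟨φ, hφ, hφr, hφa, hφx, hφx1⟩ := exists_quat (m := m) (h := h) hm
    have hmemN : ∀ y : QuaternionGroup h, D.κ (φ y) ∈ D.N1 := fun y => D.Q1_le_N1 (hφr.le ⟨y, rfl⟩)
    have hmemT : ∀ y : QuaternionGroup h, (⟨D.κ (φ y), hmemN y⟩ : D.N1) ∈ (T : Subgroup D.N1) := fun y => by
      rw [hT, Subgroup.mem_subgroupOf]
      exact ⟨φ y, hφr.le ⟨y, rfl⟩, rfl⟩
    let f : QuaternionGroup h →* (T : Subgroup D.N1) :=
      ((D.κ.comp φ).codRestrict D.N1 hmemN).codRestrict (T : Subgroup D.N1) hmemT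
    have hf : Function.Bijective f := by
      refine ⟨fun a b e => hφ (D.inj (congrArg (fun t : (T : Subgroup D.N1) => ((t : D.N1) : X)) e)), ?_⟩
      rintro ⟨⟨x, hx⟩, hxT⟩
      rw [hT, Subgroup.mem_subgroupOf] at hxT
      obtain ⟨w, hw, rfl⟩ := hxT
      obtain ⟨y, rfl⟩ := hφr.ge hw
      exact ⟨y, rfl⟩
    have hk1 : h = 2 ^ (k + 1) := D.hk
    obtain rfl := hk1
    let e : (T : Subgroup D.N1) ≃* QuaternionGroup (2 ^ (k + 1)) := (MulEquiv.ofBijective f hf).symm
    obtain ⟨hZ, hres | hA⟩ := quaternion_core_free CfsgLib.GW.gwThm (D.core_normal D.N1) T (Nat.succ_pos k) e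
    · exact ⟨hperf, hres⟩
    · exfalso
      obtain ⟨-, ⟨fA⟩, -⟩ := id hA
      have hcard : Nat.card (T : Subgroup D.N1) = 2 ^ 4 := by
        rw [T.card_eq_multiplicity, Subgroup.card_eq_card_quotient_mul_card_subgroup (Subgroup.center D.N1),
          Nat.card_congr fA.toEquiv, hZ, Nat.factorization_mul (Nat.card_pos.ne') two_ne_zero, Finsupp.add_apply,
          A7.card_two_part, Nat.Prime.factorization_self Nat.prime_two]
      obtain rfl : k = 1 := by
        rw [Nat.card_congr e.toEquiv, Nat.card_eq_fintype_card, QuaternionGroup.card,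
          show 4 * 2 ^ (k + 1) = 2 ^ (k + 3) by ring] at hcard
        have := Nat.pow_right_injective le_rfl hcard
        omega
      have hr : Cfsg.PRankLE 2 1 D.N1 := rank_of_quaternion fun P' => ⟨2, by norm_num, ⟨(P'.equiv T).trans e⟩⟩
      have hval : ∀ y, (((e.symm y : (T : Subgroup D.N1)) : D.N1) : X) = D.κ (φ y) := fun y => rfl
      refine no_double_seven D.N1 hr hA T e (D.κ (rot (-1) 0)) ?_ ?_
      · rw [hval, hφa, ← map_inv, ← map_mul, ← map_mul]
        congr 1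
        simp [rot, mul_def, inv_def, sg]
      · rw [hval, hval, hφx, hφx1, ← map_inv, ← map_mul, ← map_mul]
        congr 1
        simp [rot, mul_def, inv_def, sg]
        ring

end Setup

end CfsgLib.G2Cent
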