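/-
The two factors and the commutator subgroup.
-/
import Cfsg.Agent.Lib.G2Cent.Side
import Cfsg.Agent.Lib.G2Cent.SL23
import Cfsg.Agent.Lib.G2Cent.InnerComm

set_option autoImplicit false
set_option linter.unusedSectionVars false
set_option linter.style.haveILetI false

namespace CfsgLib.G2Cent

open CfsgLib.G2Sylow

universe u

/-- The elements outside the cyclic subgroup of the first quaternion group of order eight. -/
theorem four_axes : ∀ b : W 4, b.e = true → b.s = true → b.i = b.j + 2 →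
    let t : W 4 := CfsgLib.G2Sylow.refl 1 0
    (∀ q : W 4, q.s = q.e → q.i = q.j + (if q.e then 2 else 0) → q * b * q⁻¹ ≠ t * b⁻¹ * t) ∧
      t * b⁻¹ * t * b⁻¹ * (t * b⁻¹ * t * b⁻¹) = zc 2 := by
  decide +kernel

theorem four_alpha : (CfsgLib.G2Sylow.refl 1 0 : W 4) * rot 1 1 * CfsgLib.G2Sylow.refl 1 0 = (rot 1 1)⁻¹ ∧
    (CfsgLib.G2Sylow.refl 1 0 : W 4) * CfsgLib.G2Sylow.refl 1 0 = 1 ∧
    ∀ v : W 4, v.e = false → v.s = false → v.i = v.j → v * v = zc 2 → v = rot 1 1 ∨ v = (rot 1 1)⁻¹ := by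
  decide +kernel

theorem four_count : (Finset.univ.filter fun w : W 4 =>
    (w.i + w.j = 0 ∨ w.i + w.j = 2) ∧ w * w = 1 ∧ w ≠ 1 ∧ w ≠ zc 2).card = 18 := by
  decide +kernel

namespace Setup

variable {X : Type u} [Group X] [Finite X] {m h k : ℕ} [NeZero m] (D : Setup X m h k)

/-- An element centralising a Sylow subgroup of a normal subgroup and moving it centrally centralises it. -/
theorem central_kills (H : Subgroup X) [H.Normal] (hQ : ∀ w ∈ Q1 D.hm, D.κ w ∈ H)
    (hH : ∀ w, D.κ w ∈ H → w ∈ Q1 D.hm) (a : X)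
    (hcom : ∀ b ∈ H, a * b * a⁻¹ * b⁻¹ ∈ Subgroup.zpowers (D.κ (zc h))) (hQa : ∀ w ∈ Q1 D.hm, Commute a (D.κ w)) :
    ∀ b ∈ H, Commute a b := by
  classical
  haveI : Fact (Nat.Prime 2) := ⟨Nat.prime_two⟩
  obtain ⟨T, hT⟩ := D.sylow_of_inter H hQ hH
  have hcen : ∀ (x : X) (c : X), c ∈ Subgroup.zpowers (D.κ (zc h)) → c * x = x * c := fun x c hc => by
    obtain ⟨n, rfl⟩ := Subgroup.mem_zpowers_iff.mp hc
    exact ((D.cz x).zpow_right n).eq.symm
  let f : H →* Subgroup.zpowers (D.κ (zc h)) := MonoidHom.mk' (fun b => ⟨_, hcom b b.2⟩) fun b b' => Subtype.ext <| by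
    show a * ((b : X) * b') * a⁻¹ * ((b : X) * b')⁻¹ = (a * b * a⁻¹ * (b : X)⁻¹) * (a * b' * a⁻¹ * (b' : X)⁻¹)
    calc a * ((b : X) * b') * a⁻¹ * ((b : X) * b')⁻¹ = a * b * a⁻¹ * (a * b' * a⁻¹ * (b' : X)⁻¹) * (b : X)⁻¹ := by group
      _ = a * b * a⁻¹ * ((b : X)⁻¹ * (a * b' * a⁻¹ * (b' : X)⁻¹)) := by
        rw [← hcen (b : X)⁻¹ _ (hcom b' b'.2)]; group
      _ = _ := by group
  have hker : (T : Subgroup H) ≤ f.ker := by
    intro b hb
    rw [hT, Subgroup.mem_subgroupOf] at hb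
    obtain ⟨w, hw, e⟩ := hb
    refine Subtype.ext ?_
    show a * b * a⁻¹ * (b : X)⁻¹ = 1
    rw [← e, (hQa w hw).eq, mul_inv_cancel_right, mul_inv_cancel]
  intro b hb
  have h1 : f.ker.index ∣ (T : Subgroup H).index := Subgroup.index_dvd_of_le hker
  have h2 : f.ker.index ∣ 2 := by
    rw [Subgroup.index_ker]
    refine (Subgroup.card_subgroup_dvd_card _).trans (dvd_of_eq ?_)
    rw [Nat.card_zpowers, orderOf_injective D.κ D.inj]
    exact orderOf_eq_prime (by rw [sq, zc_sq D.hm]) (zc_ne D.hm)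
  have h3 : f.ker.index = 1 := by
    rcases (Nat.dvd_prime Nat.prime_two).mp h2 with h | h
    · exact h
    · rw [h] at h1
      exact absurd h1 T.not_dvd_index
  have h4 : (⟨b, hb⟩ : H) ∈ f.ker := Subgroup.index_eq_one.mp h3 ▸ Subgroup.mem_top _
  have h5 : a * b * a⁻¹ * b⁻¹ = 1 := congrArg Subtype.val h4
  exact (mul_inv_eq_iff_eq_mul.mp (mul_inv_eq_one.mp h5) : a * b = b * a)

theorem N_commute : ∀ a ∈ D.N1, ∀ b ∈ D.flip.N1, Commute a b := by
  have hz := D.closures.2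
  haveI := D.N1_normal
  haveI := D.flip.N1_normal
  have hQ2 : ∀ q ∈ Q2 D.hm, ∀ a ∈ D.N1, Commute (D.κ q) a := fun q hq => by
    refine D.central_kills D.N1 (fun w hw => D.Q1_le_N1 hw) (fun w hw => D.N1_inter hw) _ (fun a ha => ?_)
      (fun w hw => (show Commute q w from (Q_comm D.hm hw hq).symm).map D.κ)
    have := hz (Subgroup.commutator_mem_commutator ha (D.Q2_le_N1 hq))
    rw [commutatorElement_def] at this
    have e : D.κ q * a * (D.κ q)⁻¹ * a⁻¹ = (a * D.κ q * a⁻¹ * (D.κ q)⁻¹)⁻¹ := by group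
    rw [e]
    exact inv_mem this
  intro a ha b hb
  refine D.flip.central_kills D.flip.N1 (fun w hw => D.flip.Q1_le_N1 hw) (fun w hw => D.flip.N1_inter hw) a
    (fun c hc => ?_) (fun w hw => ?_) b hb
  · have := hz (Subgroup.commutator_mem_commutator ha hc)
    rw [commutatorElement_def] at this
    show _ ∈ Subgroup.zpowers (D.κ (CfsgLib.G2Cent.flip (zc h)))
    rw [flip_zc D.hm]
    exact this
  · exact (hQ2 _ ((flip_mem_Q2 D.hm).mpr hw) a ha).symm

/-- The closure is the quaternion group of order eight. -/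
def Small : Prop := k = 0 ∧ ∀ x ∈ D.N1, ∃ w ∈ Q1 D.hm, D.κ w = x

/-- The centraliser of the other closure. -/
def Cn : Subgroup X := Subgroup.centralizer (D.flip.N1 : Set X)

theorem Cn_normal : D.Cn.Normal := by
  haveI := D.flip.N1_normal
  exact inferInstanceAs (Subgroup.centralizer (D.flip.N1 : Set X)).Normal

open Classical in
/-- The factor. -/
noncomputable def L : Subgroup X := if D.Small then D.Cn else D.N1

theorem L_normal : D.L.Normal := by
  unfold L
  split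
  · exact D.Cn_normal
  · exact D.N1_normal

theorem N1_le_Cn : D.N1 ≤ D.Cn := fun a ha b hb => (D.N_commute a ha b hb).eq.symm

theorem N1_le_L : D.N1 ≤ D.L := by
  unfold L
  split
  · exact D.N1_le_Cn
  · exact le_rfl

theorem L_le_Cn : D.L ≤ D.Cn := by
  unfold L
  split
  · exact le_rfl
  · exact D.N1_le_Cn

theorem Cn_inter {w : W m} (hw : D.κ w ∈ D.Cn) : w ∈ Q1 D.hm :=
  cent_Q2 D.hm D.h4 fun q hq => D.inj (by rw [map_mul, map_mul]; exact (hw _ (D.Q2_le_N1 hq)).symm)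

theorem Cn_flip_inter {w : W m} (hw : D.κ w ∈ D.flip.Cn) : w ∈ Q2 D.hm :=
  (flip_mem_Q1 D.hm).mp (D.flip.Cn_inter (w := CfsgLib.G2Cent.flip w) (by rw [flip_κ, flip_flip]; exact hw))

theorem both_cent : D.Cn ⊓ D.flip.Cn ≤ Subgroup.zpowers (D.κ (zc h)) := by
  haveI := D.Cn_normal
  haveI := D.flip.Cn_normal
  exact D.small_normal _ fun w hw =>
    inf_cases D.hm (D.Cn_inter hw.1) (D.Cn_flip_inter hw.2)

/-- The two factors commute. -/
theorem L_commute : ∀ a ∈ D.L, ∀ b ∈ D.flip.L, Commute a b := by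
  haveI := D.Cn_normal
  haveI := D.flip.Cn_normal
  haveI := D.flip.L_normal
  haveI := D.L_normal
  intro a ha b hb
  refine D.flip.central_kills D.flip.L (fun w hw => D.flip.N1_le_L (D.flip.Q1_le_N1 hw))
    (fun w hw => D.flip.Cn_inter (D.flip.L_le_Cn hw)) a (fun c hc => ?_) (fun w hw => ?_) b hb
  · have hzz : D.flip.κ (zc h) = D.κ (zc h) := by rw [flip_κ, flip_zc D.hm]
    rw [hzz]
    refine D.both_cent (Subgroup.mem_inf.mpr ⟨?_, ?_⟩)
    · rw [show a * c * a⁻¹ * c⁻¹ = a * (c * a⁻¹ * c⁻¹) by group]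
      exact mul_mem (D.L_le_Cn ha) (D.Cn_normal.conj_mem _ (inv_mem (D.L_le_Cn ha)) c)
    · exact mul_mem (D.flip.Cn_normal.conj_mem _ (D.flip.L_le_Cn hc) a) (inv_mem (D.flip.L_le_Cn hc))
  · exact (show Commute _ a from D.L_le_Cn ha _ (D.flip.Q1_le_N1 hw)).symm

include D in
theorem flip_flip_N1 : D.flip.flip.N1 = D.N1 := by
  have : D.flip.flip.κ = D.κ := by
    ext w
    show D.κ (CfsgLib.G2Cent.flip (CfsgLib.G2Cent.flip w)) = _
    rw [flip_flip]
  unfold N1
  rw [this]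

/-- In the small case the centraliser of the other closure is larger than the quaternion group. -/
theorem Cn_ne (hS : D.Small) : ∃ x ∈ D.Cn, ∀ w ∈ Q1 D.hm, D.κ w ≠ x := by
  classical
  obtain ⟨hk, hN⟩ := hS
  obtain rfl : h = 2 := by rw [D.hk, hk]; norm_num
  obtain rfl : m = 4 := by rw [D.hm]
  have hm := D.hm
  haveI := D.N1_normal
  haveI := D.flip.N1_normal
  by_contra hcon
  push Not at hcon
  rcases D.flip.structure_N1 with ⟨-, F, hF, hFt, hodd, -, ⟨e⟩⟩ | ⟨-, hN2⟩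
  · obtain ⟨ha, ht, hα⟩ := four_alpha
    set t : W 4 := CfsgLib.G2Sylow.refl 1 0
    have hb : (⟨2, 0, true, true⟩ : W 4) ∈ Q1 hm := by simp [mem_Q1]
    set b : W 4 := ⟨2, 0, true, true⟩
    have hα1 : (rot 1 1 : W 4) ∈ Q1 hm := by simp [mem_Q1, rot]
    obtain ⟨g, hg⟩ := isConj_iff.mp (D.order_four hα1 (by decide +kernel) hb (by decide +kernel))
    obtain ⟨l, hl⟩ := inner_commutator hodd e (MulAut.conjNormal (D.κ t)) (MulAut.conjNormal g)
    set c := D.κ t * g * (D.κ t)⁻¹ * g⁻¹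
    have hlc : (l : X)⁻¹ * c ∈ D.Cn := by
      intro x hx
      have h1 := congrArg Subtype.val (hl ⟨x, hx⟩)
      simp only [MulAut.conjNormal_apply, MulAut.conjNormal_symm_apply, Subgroup.coe_mul, Subgroup.coe_inv] at h1
      have h2 : c * x * c⁻¹ = (l : X) * x * (l : X)⁻¹ := by rw [← h1]; simp only [c]; group
      calc x * ((l : X)⁻¹ * c) = (l : X)⁻¹ * ((l : X) * x * (l : X)⁻¹) * c := by group
        _ = (l : X)⁻¹ * (c * x * c⁻¹) * c := by rw [h2]
        _ = _ := by group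
    obtain ⟨q, hq, hqe⟩ := hcon _ hlc
    obtain ⟨hqs, hqi⟩ := hq
    have hbl : Commute (l : X) (D.κ b) := (D.N_commute _ (D.Q1_le_N1 hb) _ l.2).symm
    have h1 : c * D.κ b * c⁻¹ = D.κ (q * b * q⁻¹) := by
      have ec : c = l * D.κ q := by rw [hqe]; group
      have hqb : Commute (l : X) (D.κ (q * b * q⁻¹)) :=
        (D.N_commute _ (D.Q1_le_N1 (D.Q1_normal _ hb q)) _ l.2).symm
      rw [ec, show (l : X) * D.κ q * D.κ b * ((l : X) * D.κ q)⁻¹ = l * (D.κ q * D.κ b * (D.κ q)⁻¹) * (l : X)⁻¹ by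
        group, ← map_inv, ← map_mul, ← map_mul, hqb.eq, mul_inv_cancel_right]
    have h2 : c * D.κ b * c⁻¹ = D.κ (t * b⁻¹ * t) := by
      have ht' : (D.κ t)⁻¹ = D.κ t := by rw [← map_inv, inv_eq_of_mul_eq_one_right ht]
      rw [map_mul, map_mul, map_inv]
      have hgb : g⁻¹ * D.κ b * g = D.κ (rot 1 1) := by rw [← hg]; group
      calc c * D.κ b * c⁻¹ = D.κ t * g * ((D.κ t)⁻¹ * (g⁻¹ * D.κ b * g) * D.κ t) * g⁻¹ * (D.κ t)⁻¹ := by
            simp only [c]; group
        _ = D.κ t * (g * D.κ (rot 1 1)⁻¹ * g⁻¹) * D.κ t := by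
            rw [hgb, ht', ← map_mul, ← map_mul, ha]; simp [mul_assoc]
        _ = _ := by rw [map_inv, ← hg]; group
    exact (four_axes b rfl rfl rfl).1 q hqs hqi (D.inj (h1.symm.trans h2))
  · haveI := D.flip.Cn_normal
    -- the class of the involution
    have hKp : ∀ w : W 4, w ∈ (Kp : Subgroup (W 4)) ↔ (w.i + w.j = 0 ∨ w.i + w.j = 2) := fun w => by
      constructor
      · rintro ⟨a, ha⟩
        rw [ha]
        clear ha
        revert a; decide
      · rintro (e | e)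
        · exact ⟨0, by rw [e]; rfl⟩
        · exact ⟨1, by rw [e]; rfl⟩
    set U := Finset.univ.filter fun w : W 4 => (w.i + w.j = 0 ∨ w.i + w.j = 2) ∧ w * w = 1 ∧ w ≠ 1 ∧ w ≠ zc 2
    set u : X := D.κ (uc 2)
    have hclass : ∀ x, x ∈ ConjClasses.carrier (ConjClasses.mk u) ↔ ∃ w ∈ U, D.κ w = x := by
      intro x
      rw [ConjClasses.mem_carrier_iff_mk_eq, ConjClasses.mk_eq_mk_iff_isConj]
      constructor
      · intro hx
        obtain ⟨g, hg⟩ := isConj_iff.mp hx.symm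
        -- the product of the closures is normal
        have hsup : u ∈ D.N1 ⊔ D.flip.N1 := by
          obtain ⟨p, hp, q, hq, e⟩ := exists_decomp hm D.he (w := (uc 2 : W 4)) ((hKp _).mpr (by decide))
          show D.κ (uc 2) ∈ _
          rw [e, map_mul]
          exact mul_mem (Subgroup.mem_sup_left (D.Q1_le_N1 hp)) (Subgroup.mem_sup_right (D.Q2_le_N1 hq))
        have hx' : x ∈ D.N1 ⊔ D.flip.N1 := hg ▸ (inferInstance : (D.N1 ⊔ D.flip.N1).Normal).conj_mem _ hsup g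
        obtain ⟨a, ha, b, hb, rfl⟩ := Subgroup.mem_sup_of_normal_right.mp hx'
        obtain ⟨p, hp, rfl⟩ := hN a ha
        obtain ⟨q, hq, hqb⟩ := hN2 b hb
        rw [flip_κ] at hqb
        have hw : D.κ (p * CfsgLib.G2Cent.flip q) = g * D.κ (uc 2) * g⁻¹ := by rw [map_mul, hqb]; exact hg.symm
        refine ⟨p * CfsgLib.G2Cent.flip q, ?_, by rw [map_mul, hqb]⟩
        simp only [U, Finset.mem_filter, Finset.mem_univ, true_and]
        refine ⟨(hKp _).mp (mul_mem (Q1_le hm D.he hp) (Q2_le hm D.he ((flip_mem_Q2 hm).mpr hq))),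
          D.sq_one_of_conj hw.symm (by decide +kernel), fun e => ?_, fun e => ?_⟩
        · rw [e, map_one] at hw
          have := D.inj ((conj_eq_one_iff.mp hw.symm).trans (map_one _).symm)
          revert this; decide +kernel
        · rw [e, ← D.conj_z g] at hw
          have := D.inj (mul_left_cancel (mul_right_cancel hw))
          revert this; decide +kernel
      · rintro ⟨w, hw, rfl⟩
        simp only [U, Finset.mem_filter, Finset.mem_univ, true_and] at hw
        obtain ⟨g, hg, -⟩ := D.fus w ((hKp w).mpr hw.1) hw.2.1 hw.2.2.1 hw.2.2.2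
        exact isConj_iff.mpr ⟨g, hg⟩
    have h18 : (ConjClasses.carrier (ConjClasses.mk u)).ncard = 18 := by
      rw [show ConjClasses.carrier (ConjClasses.mk u) = D.κ '' (U : Set (W 4)) from Set.ext fun x => hclass x,
        Set.ncard_image_of_injective _ D.inj, Set.ncard_coe_finset]
      exact four_count
    have hdvd : 18 ∣ Nat.card X := by
      rw [← h18, ← ConjAct.orbit_eq_carrier_conjClasses, ← MulAction.index_stabilizer,
        show Nat.card X = Nat.card (ConjAct X) from Nat.card_congr ConjAct.toConjAct.toEquiv]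
      exact Subgroup.index_dvd_card _
    -- the action on the other quaternion group
    set H := D.flip.N1
    let f : X →* MulAut H := MulAut.conjNormal
    have hkerle : Nat.card f.ker ≤ 8 := by
      have hle : f.ker ≤ (Q1 hm).map D.κ := by
        intro x hx
        have hxC : x ∈ D.Cn := fun y hy => by
          have h' := congrArg Subtype.val (DFunLike.congr_fun (MonoidHom.mem_ker.mp hx) (⟨y, hy⟩ : H))
          rw [MulAut.conjNormal_apply, MulAut.one_apply] at h'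
          exact (mul_inv_eq_iff_eq_mul.mp h').symm
        obtain ⟨w, hw, e⟩ := hcon x hxC
        exact ⟨w, hw, e⟩
      refine (Subgroup.card_le_of_le hle).trans ?_
      rw [D.card_map]
      refine (card_le_of_inj (α := Bool × ZMod 4) (fun w => (w.e, w.j)) ?_).trans (le_of_eq (by simp))
      rintro a ⟨hs, hi⟩ b ⟨hs', hi'⟩ heq
      simp only [Prod.mk.injEq] at heq
      rw [heq.1, heq.2] at hi
      exact W.ext (hi.trans hi'.symm) heq.2 heq.1 (hs.trans (heq.1.trans hs'.symm))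
    have hrange : Nat.card f.range ≤ 24 := by
      obtain ⟨φ, hφ, hφr, -⟩ := exists_quat (m := 4) (h := 2) hm
      have hH : H = ((D.flip.κ.comp φ).range) := by
        rw [MonoidHom.range_comp, hφr]
        exact le_antisymm (fun x hx => by obtain ⟨w, hw, e⟩ := hN2 x hx; exact ⟨w, hw, e⟩)
          (by rintro _ ⟨w, hw, rfl⟩; exact D.flip.Q1_le_N1 hw)
      have e : H ≃* QuaternionGroup 2 :=
        (MulEquiv.subgroupCongr hH).trans (MonoidHom.ofInjective (show Function.Injective (D.flip.κ.comp φ) from D.flip.inj.comp hφ)).symm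
      exact (Nat.card_le_card_of_injective _ Subtype.val_injective).trans
        (Cfsg.FusionSystem.RankTwo.card_mulAut_q8_le e)
    have h64 : 64 ∣ Nat.card X := by
      have := (D.S : Subgroup X).card_subgroup_dvd_card
      rwa [D.card_S, card_W] at this
    have h576 : 576 ∣ Nat.card X := Nat.lcm_dvd h64 hdvd
    have := Nat.le_of_dvd Nat.card_pos h576
    rw [← f.ker.card_mul_index, Subgroup.index_ker] at this
    have := Nat.mul_le_mul hkerle hrange
    omega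

/-- The factors are special linear, and lie in the commutator subgroup. -/
theorem L_spec : (∃ (F : Type) (_ : Field F) (_ : Fintype F), Odd (Fintype.card F) ∧
      Nonempty (D.L ≃* Matrix.SpecialLinearGroup (Fin 2) F)) ∧ D.L ≤ commutator X := by
  classical
  haveI := D.N1_normal
  haveI : Fact (Nat.Prime 2) := ⟨Nat.prime_two⟩
  by_cases hS : D.Small
  swap
  · obtain ⟨hperf, F, hF, hFt, hodd, -, he⟩ := D.structure_N1.resolve_right hS
    have hL : D.L = D.N1 := if_neg hS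
    rw [hL]
    refine ⟨⟨F, hF, hFt, hodd, he⟩, ?_⟩
    haveI := hperf
    rw [← Subgroup.commutator_eq_self (H := D.N1), commutator_def]
    exact Subgroup.commutator_mono le_top le_top
  obtain ⟨x0, hx0, hx0n⟩ := D.Cn_ne hS
  have hL : D.L = D.Cn := if_pos hS
  rw [hL]
  obtain ⟨hk, hN⟩ := hS
  obtain rfl : h = 2 := by rw [D.hk, hk]; norm_num
  obtain rfl : m = 4 := by rw [D.hm]
  have hm := D.hm
  haveI := D.Cn_normal
  haveI := D.flip.Cn_normal
  set Qx := (Q1 hm).map D.κ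
  obtain ⟨T, hT⟩ := D.sylow_of_inter D.Cn (fun w hw => D.N1_le_Cn (D.Q1_le_N1 hw)) (fun w hw => D.Cn_inter hw)
  have hQn : ∀ (g : X) (q : X), q ∈ Qx → g * q * g⁻¹ ∈ Qx := by
    rintro g _ ⟨w, hw, rfl⟩
    obtain ⟨v, hv, e⟩ := hN _ (D.N1_normal.conj_mem _ (D.Q1_le_N1 hw) g)
    exact ⟨v, hv, e⟩
  haveI : (Qx.subgroupOf D.Cn).Normal := ⟨fun q hq g => hQn g q hq⟩
  obtain ⟨φ, hφ, hφr, -⟩ := exists_quat (m := 4) (h := 2) hm
  have hQle : Qx ≤ D.Cn := by rintro _ ⟨w, hw, rfl⟩; exact D.N1_le_Cn (D.Q1_le_N1 hw)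
  let e : (Qx.subgroupOf D.Cn) ≃* QuaternionGroup 2 := (Subgroup.subgroupOfEquivOfLe hQle).trans
    ((MulEquiv.subgroupCongr (by rw [MonoidHom.range_comp, hφr] : Qx = (D.κ.comp φ).range)).trans
      (MonoidHom.ofInjective (show Function.Injective (D.κ.comp φ) from D.inj.comp hφ)).symm)
  have hne : Qx.subgroupOf D.Cn ≠ ⊤ := fun e => by
    obtain ⟨w, hw, ew⟩ := Subgroup.subgroupOf_eq_top.mp e hx0
    exact hx0n w hw ew
  have hC : Subgroup.centralizer ((Qx.subgroupOf D.Cn : Subgroup D.Cn) : Set D.Cn) ≤ Qx.subgroupOf D.Cn := by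
    intro c hc
    have hcC : (c : X) ∈ D.flip.Cn := fun n hn => by
      rw [D.flip_flip_N1] at hn
      obtain ⟨w, hw, rfl⟩ := hN n hn
      exact congrArg Subtype.val (hc ⟨D.κ w, hQle ⟨w, hw, rfl⟩⟩ (Subgroup.mem_subgroupOf.mpr ⟨w, hw, rfl⟩))
    rw [Subgroup.mem_subgroupOf]
    rcases D.zpow_cases (D.both_cent (Subgroup.mem_inf.mpr ⟨c.2, hcC⟩)) with e | e <;> rw [e]
    · exact one_mem _
    · exact ⟨zc 2, zc_mem_Q1 hm, rfl⟩
  obtain ⟨h24, hiso, y, hy⟩ := sl23_general (Qx.subgroupOf D.Cn) e (hT ▸ T.not_dvd_index) hne hC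
  refine ⟨⟨ZMod 3, inferInstance, inferInstance, by rw [ZMod.card]; decide, hiso⟩, ?_⟩
  obtain ⟨ha, ht, hα⟩ := four_alpha
  set t : W 4 := CfsgLib.G2Sylow.refl 1 0
  have hα1 : (rot 1 1 : W 4) ∈ Q1 hm := by simp [mem_Q1, rot]
  have hα2 : (rot 1 1 : W 4) * rot 1 1 = zc 2 := by decide +kernel
  obtain ⟨b, hb, eb⟩ := hQn y _ ⟨rot 1 1, hα1, rfl⟩
  have hb2 := D.sq_zc_of_conj eb.symm hα2
  have hbe : b.e = true := by
    by_contra hne'
    have hbe : b.e = false := by simpa using hne'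
    obtain ⟨hs, hi⟩ := id hb
    rw [hbe] at hs
    simp [hbe] at hi
    have hy' := hy ⟨D.κ (rot 1 1), hQle ⟨_, hα1, rfl⟩⟩ (Subgroup.mem_subgroupOf.mpr ⟨_, hα1, rfl⟩) (fun e => by
      have e2 : D.κ (rot 1 1 * rot 1 1) = 1 := by rw [map_mul]; exact congrArg Subtype.val e
      rw [hα2] at e2
      exact D.z_ne e2)
    rcases hα b hbe hs hi hb2 with e' | e'
    · exact hy'.1 (Subtype.ext (eb.symm.trans (congrArg D.κ e')))
    · exact hy'.2 (Subtype.ext (eb.symm.trans ((congrArg D.κ e').trans (map_inv D.κ _))))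
  obtain ⟨hbs, hbi⟩ := id hb
  rw [hbe] at hbs
  simp [hbe] at hbi
  obtain ⟨hax1, hax2⟩ := four_axes b hbe hbs hbi
  set c := D.κ t * (y : X) * (D.κ t)⁻¹ * (y : X)⁻¹
  set R := D.Cn ⊓ commutator X
  have hcR : c ∈ R := Subgroup.mem_inf.mpr ⟨mul_mem (D.Cn_normal.conj_mem _ y.2 (D.κ t)) (inv_mem y.2),
    Subgroup.commutator_mem_commutator (Subgroup.mem_top _) (Subgroup.mem_top _)⟩
  have hcb : c * D.κ b * c⁻¹ = D.κ (t * b⁻¹ * t) := by
    have ht' : (D.κ t)⁻¹ = D.κ t := by rw [← map_inv, inv_eq_of_mul_eq_one_right ht]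
    rw [map_mul, map_mul, map_inv]
    have hgb : (y : X)⁻¹ * D.κ b * y = D.κ (rot 1 1) := by rw [eb]; group
    calc c * D.κ b * c⁻¹ =
          D.κ t * y * ((D.κ t)⁻¹ * ((y : X)⁻¹ * D.κ b * y) * D.κ t) * (y : X)⁻¹ * (D.κ t)⁻¹ := by
          simp only [c]; group
      _ = D.κ t * ((y : X) * D.κ (rot 1 1)⁻¹ * (y : X)⁻¹) * D.κ t := by
          rw [hgb, ht', ← map_mul, ← map_mul, ha]; simp [mul_assoc]
      _ = _ := by rw [map_inv, eb]; group
  haveI : R.Normal := Subgroup.normal_inf_normal _ _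
  have hv : D.κ (t * b⁻¹ * t * b⁻¹) ∈ R := by
    rw [map_mul, ← hcb, map_inv, show c * D.κ b * c⁻¹ * (D.κ b)⁻¹ = c * (D.κ b * c⁻¹ * (D.κ b)⁻¹) by group]
    exact mul_mem hcR ((inferInstance : R.Normal).conj_mem _ (inv_mem hcR) _)
  have hvQ : t * b⁻¹ * t * b⁻¹ ∈ Q1 hm := by
    refine mul_mem ?_ (inv_mem hb)
    have := D.Q1_normal _ (inv_mem hb) t
    rwa [inv_eq_of_mul_eq_one_right ht] at this
  have hQR : ∀ w ∈ Q1 hm, D.κ w ∈ R := by
    have : Q1 hm ≤ R.comap D.κ := Q1_le_of hm fun v hv' hv2 => by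
      obtain ⟨g, hg⟩ := isConj_iff.mp (D.order_four hvQ hax2 hv' hv2)
      rw [Subgroup.mem_comap, ← hg]
      exact (inferInstance : R.Normal).conj_mem _ hv g
    exact this
  have hcQ : c ∉ Qx := by
    rintro ⟨q, hq, e⟩
    obtain ⟨hqs, hqi⟩ := id hq
    exact hax1 q hqs hqi (D.inj (by rw [← hcb, ← e, map_mul, map_mul, map_inv]))
  -- more than eight elements of a group of order twenty-four
  have hlt : Qx < R := lt_of_le_of_ne (by rintro _ ⟨w, hw, rfl⟩; exact hQR w hw) fun e => hcQ (e ▸ hcR)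
  have hRle : R ≤ D.Cn := inf_le_left
  have h8 : Nat.card Qx = 8 := by
    rw [← Nat.card_congr (Subgroup.subgroupOfEquivOfLe hQle).toEquiv, Nat.card_congr e.toEquiv,
      Nat.card_eq_fintype_card, QuaternionGroup.card]
  have d1 := Subgroup.card_dvd_of_le hlt.le
  have d2 := Subgroup.card_dvd_of_le hRle
  have hne' : Nat.card R ≠ 8 := fun e =>
    hlt.ne (Subgroup.eq_of_le_of_card_ge hlt.le (by rw [e, h8]))
  rw [h8] at d1
  rw [h24] at d2
  have hR24 : Nat.card R = 24 := by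
    obtain ⟨a, ha⟩ := d1
    obtain ⟨b, hb⟩ := d2
    have hb0 : 0 < b := Nat.pos_of_ne_zero fun e => by rw [e, mul_zero] at hb; omega
    have ha0 : a ≠ 1 := fun e => hne' (by rw [ha, e])
    have : a * b = 3 := by rw [ha] at hb; nlinarith
    have hdvd : a ∣ 3 := ⟨b, this.symm⟩
    rcases (Nat.dvd_prime Nat.prime_three).mp hdvd with e | e
    · exact absurd e ha0
    · rw [ha, e]
  exact (Subgroup.eq_of_le_of_card_ge hRle (by rw [hR24, h24])).ge.trans inf_le_right

theorem inner_on (x y : X) :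
    ∃ l ∈ D.L, ∀ a ∈ D.L, (x * y * x⁻¹ * y⁻¹) * a * (x * y * x⁻¹ * y⁻¹)⁻¹ = l * a * l⁻¹ := by
  obtain ⟨⟨F, hF, hFt, hodd, ⟨e⟩⟩, -⟩ := D.L_spec
  haveI := D.L_normal
  obtain ⟨l, hl⟩ := inner_commutator hodd e (MulAut.conjNormal x) (MulAut.conjNormal y)
  refine ⟨l, l.2, fun a ha => ?_⟩
  have h1 := congrArg Subtype.val (hl ⟨a, ha⟩)
  simp only [MulAut.conjNormal_apply, MulAut.conjNormal_symm_apply, Subgroup.coe_mul, Subgroup.coe_inv] at h1
  rw [← h1]
  group

include D in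
/-- The structure of the centraliser. -/
theorem result : ∃ L₁ L₂ : Subgroup X, L₁.Normal ∧ L₂.Normal ∧
    (∃ (F₁ : Type) (_ : Field F₁) (_ : Fintype F₁), Odd (Fintype.card F₁) ∧
      Nonempty (L₁ ≃* Matrix.SpecialLinearGroup (Fin 2) F₁)) ∧
    (∃ (F₂ : Type) (_ : Field F₂) (_ : Fintype F₂), Odd (Fintype.card F₂) ∧
      Nonempty (L₂ ≃* Matrix.SpecialLinearGroup (Fin 2) F₂)) ∧
    ⁅L₁, L₂⁆ = ⊥ ∧ L₁ ⊔ L₂ = commutator X := by
  refine ⟨D.L, D.flip.L, D.L_normal, D.flip.L_normal, D.L_spec.1, D.flip.L_spec.1, ?_, ?_⟩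
  · rw [eq_bot_iff, Subgroup.commutator_le]
    intro a ha b hb
    rw [Subgroup.mem_bot, commutatorElement_eq_one_iff_mul_comm]
    exact (D.L_commute a ha b hb).eq
  · refine le_antisymm (sup_le D.L_spec.2 D.flip.L_spec.2) ?_
    rw [commutator_def, Subgroup.commutator_le]
    intro x _ y _
    rw [commutatorElement_def]
    obtain ⟨l, hl, hla⟩ := D.inner_on x y
    obtain ⟨l', hl', hla'⟩ := D.flip.inner_on x y
    set c := x * y * x⁻¹ * y⁻¹
    haveI := D.Cn_normal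
    haveI := D.flip.Cn_normal
    have hc : (l * l')⁻¹ * c ∈ Subgroup.zpowers (D.κ (zc h)) := by
      refine D.both_cent (Subgroup.mem_inf.mpr ⟨fun b hb => ?_, fun b hb => ?_⟩)
      · have h1 := hla' b (D.flip.N1_le_L hb)
        have h3 : Commute l (l' * b * l'⁻¹) := D.L_commute l hl _ (mul_mem (mul_mem hl' (D.flip.N1_le_L hb)) (inv_mem hl'))
        calc b * ((l * l')⁻¹ * c) = l'⁻¹ * l⁻¹ * (l * (l' * b * l'⁻¹) * l⁻¹) * c := by group
          _ = l'⁻¹ * l⁻¹ * (c * b * c⁻¹) * c := by rw [h3.eq, mul_inv_cancel_right, h1]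
          _ = _ := by group
      · rw [D.flip_flip_N1] at hb
        have h1 := hla b (D.N1_le_L hb)
        have h3 : Commute b l' := D.L_commute b (D.N1_le_L hb) l' hl'
        calc b * ((l * l')⁻¹ * c) = b * l'⁻¹ * l⁻¹ * c := by group
          _ = l'⁻¹ * b * l⁻¹ * c := by rw [h3.inv_right.eq]
          _ = l'⁻¹ * l⁻¹ * (l * b * l⁻¹) * c := by group
          _ = l'⁻¹ * l⁻¹ * (c * b * c⁻¹) * c := by rw [h1]
          _ = _ := by group
    rw [show c = l * l' * ((l * l')⁻¹ * c) by group]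
    refine mul_mem (mul_mem (Subgroup.mem_sup_left hl) (Subgroup.mem_sup_right hl')) (Subgroup.mem_sup_left ?_)
    rcases D.zpow_cases hc with e | e <;> rw [e]
    · exact one_mem _
    · exact D.N1_le_L (D.Q1_le_N1 (zc_mem_Q1 D.hm))

end Setup

end CfsgLib.G2Cent
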