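/-
The fusion inside the centraliser of the central involution.
-/
import Cfsg.Agent.Lib.G2Cent.Final
import Cfsg.Agent.Lib.G2Sylow.Fusion

set_option autoImplicit false
set_option linter.unusedSectionVars false
set_option linter.style.haveILetI false

namespace CfsgLib.G2Cent

open CfsgLib.G2Sylow

section Model

variable {m h : ℕ} (hm : m = 2 * h) (he : Even h)

/-- The parity sum of a commutator. -/
theorem comm_sum (a b : W m) : (a * b * a⁻¹ * b⁻¹).i + (a * b * a⁻¹ * b⁻¹).j =
    (if b.e then (a.i + a.j) + (a.i + a.j) else 0) - (if a.e then (b.i + b.j) + (b.i + b.j) else 0) := by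
  obtain ⟨i, j, e, s⟩ := a
  obtain ⟨i', j', e', s'⟩ := b
  cases e <;> cases s <;> cases e' <;> cases s' <;> simp [mul_def, inv_def, sg] <;> ring

theorem cent_diag_refl {c : ZMod m} {v : W m} (hv : Commute v (CfsgLib.G2Sylow.refl c c)) :
    v.i + v.i = (if v.e then c + c else 0) ∧ v.j + v.j = (if v.e then c + c else 0) := by
  obtain ⟨i, j, e, s⟩ := v
  have h1 := hv.eq
  cases e <;> cases s <;> simp [mul_def, CfsgLib.G2Sylow.refl, sg] at h1 ⊢ <;>
    first
      | exact ⟨by linear_combination h1.1, by linear_combination h1.2⟩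
      | exact ⟨by linear_combination h1.2, by linear_combination h1.1⟩
      | exact ⟨by linear_combination -h1.1, by linear_combination -h1.2⟩
      | exact ⟨by linear_combination -h1.2, by linear_combination -h1.1⟩

include hm

theorem rot_cases [NeZero m] {v : W m} (hv : v * v = 1) (he' : v.e = false) (hs' : v.s = false)
    (hij : v.i = v.j) : v = 1 ∨ v = zc h := by
  obtain ⟨i, j, e, s⟩ := v
  simp only at he' hs' hij
  subst he' hs' hij
  simp [mul_def, one_def, sg] at hv
  rcases two_torsion hm hv with e | e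
  · exact Or.inl (by simp [one_def, e])
  · exact Or.inr (by simp [rot, e])

/-- Commutators which are involutions in the centraliser of a representative. -/
theorem comm_involution [NeZero m] {r : W m}
    (hr : r = CfsgLib.G2Sylow.refl 0 0 ∨ r = CfsgLib.G2Sylow.refl 1 1 ∨ r = swp ∨ r = swr) {a b : W m}
    (ha : Commute a r) (hb : Commute b r) {v : W m} (hv : v = a * b * a⁻¹ * b⁻¹) (hv2 : v * v = 1) :
    v = 1 ∨ v = zc h := by
  have hn := neg_h hm
  obtain ⟨he', hs'⟩ := commutator_flags a b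
  rw [← hv] at he' hs'
  refine rot_cases hm hv2 he' hs' ?_
  have hvr : Commute v r := by
    rw [hv]; exact ((ha.mul_left hb).mul_left ha.inv_left).mul_left hb.inv_left
  have tt : v.i + v.i = 0 ∧ v.j + v.j = 0 := by
    have e := hv2
    obtain ⟨i, j, e', s'⟩ := v
    simp only at he' hs'
    subst he' hs'
    simpa [mul_def, one_def, sg] using e
  have hrefl : ∀ c : ZMod m, r = CfsgLib.G2Sylow.refl c c → v.i = v.j := by
    intro c e
    subst e
    obtain ⟨a1, a2⟩ := cent_diag_refl ha
    obtain ⟨b1, b2⟩ := cent_diag_refl hb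
    have key : v.i + v.j = 0 := by
      rw [hv, comm_sum]
      cases hae : a.e <;> cases hbe : b.e <;> simp [hae, hbe] at a1 a2 b1 b2 ⊢
      · linear_combination a1 + a2
      · linear_combination -b1 - b2
      · linear_combination a1 + a2 - b1 - b2
    linear_combination key - tt.2
  rcases hr with e | e | e | e
  · exact hrefl 0 e
  · exact hrefl 1 e
  · subst e
    have h1 := congrArg W.i hvr.eq
    simpa [mul_def, swp, sg, he', hs'] using h1
  · subst e
    have h1 := congrArg W.i hvr.eq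
    simp [mul_def, swr, sg, he', hs'] at h1
    linear_combination h1 - tt.2

include he

/-- The central involution is a commutator in the centraliser of a representative. -/
theorem zc_comm [NeZero m] {r : W m}
    (hr : r = CfsgLib.G2Sylow.refl 0 0 ∨ r = CfsgLib.G2Sylow.refl 1 1 ∨ r = swp ∨ r = swr) :
    ∃ a b : W m, Commute a r ∧ Commute b r ∧ a * b * a⁻¹ * b⁻¹ = zc h := by
  have hh := two_h hm
  have nh := neg_h hm
  obtain ⟨q, hq⟩ := exists_quarter hm he
  rcases hr with rfl | rfl | rfl | rfl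
  · exact ⟨rot h 0, swp, by simp [Commute, SemiconjBy, mul_def, rot, CfsgLib.G2Sylow.refl, sg, nh],
      by simp [Commute, SemiconjBy, mul_def, swp, CfsgLib.G2Sylow.refl, sg],
      by simp [mul_def, inv_def, swp, rot, sg, nh]⟩
  · exact ⟨rot h 0, swp, by simp [Commute, SemiconjBy, mul_def, rot, CfsgLib.G2Sylow.refl, sg, nh, add_comm],
      by simp [Commute, SemiconjBy, mul_def, swp, CfsgLib.G2Sylow.refl, sg],
      by simp [mul_def, inv_def, swp, rot, sg, nh]⟩
  · exact ⟨rot q q, CfsgLib.G2Sylow.refl 0 0, by simp [Commute, SemiconjBy, mul_def, swp, rot, sg],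
      by simp [Commute, SemiconjBy, mul_def, swp, CfsgLib.G2Sylow.refl, sg],
      by simp [mul_def, inv_def, CfsgLib.G2Sylow.refl, rot, sg]; linear_combination hq⟩
  · exact ⟨rot q (-q), CfsgLib.G2Sylow.refl 0 0, by simp [Commute, SemiconjBy, mul_def, swr, rot, sg],
      by simp [Commute, SemiconjBy, mul_def, swr, CfsgLib.G2Sylow.refl, sg],
      by simp [mul_def, inv_def, CfsgLib.G2Sylow.refl, rot, sg]
         exact ⟨by linear_combination hq, by linear_combination -hq + nh⟩⟩

omit he

/-- The centraliser of a reflection has at most sixteen elements. -/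
theorem card_cent_refl [NeZero m] (i j : ZMod m) :
    Nat.card (Subgroup.centralizer ({CfsgLib.G2Sylow.refl i j} : Set (W m))) ≤ 16 := by
  have hm0 := NeZero.ne m
  let χ : Subgroup.centralizer ({CfsgLib.G2Sylow.refl i j} : Set (W m)) → Bool × Bool × Bool × Bool :=
    fun w => ((w : W m).e, (w : W m).s, decide ((w : W m).i.val < h), decide ((w : W m).j.val < h))
  have key : ∀ x y : ZMod m, x - y + (x - y) = 0 → (x.val < h ↔ y.val < h) → x = y := by
    intro x y e4 hiff
    rcases two_torsion hm e4 with e5 | e5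
    · exact sub_eq_zero.mp e5
    · exfalso
      have hx : x.val = (h + y.val) % m := by
        rw [show x = (h : ZMod m) + y by rw [← e5]; ring, ZMod.val_add, ZMod.val_natCast,
          Nat.mod_eq_of_lt (by omega : h < m)]
      have := ZMod.val_lt y
      by_cases hlt : y.val < h
      · rw [Nat.mod_eq_of_lt (by omega)] at hx
        omega
      · rw [Nat.mod_eq_sub_mod (by omega), Nat.mod_eq_of_lt (by omega)] at hx
        omega
  have χinj : Function.Injective χ := by
    rintro ⟨⟨a, b, e1, s1⟩, hw⟩ ⟨⟨a', b', e1', s1'⟩, hw'⟩ heq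
    simp only [χ, Prod.mk.injEq, decide_eq_decide] at heq
    obtain ⟨rfl, rfl, ha, hb⟩ := heq
    have e2 := Subgroup.mem_centralizer_singleton_iff.mp hw
    have e3 := Subgroup.mem_centralizer_singleton_iff.mp hw'
    have h1 : a - a' + (a - a') = 0 ∧ b - b' + (b - b') = 0 := by
      cases e1 <;> cases s1 <;> simp [mul_def, CfsgLib.G2Sylow.refl, sg] at e2 e3 <;>
        exact ⟨by linear_combination e2.1 - e3.1, by linear_combination e2.2 - e3.2⟩
    exact Subtype.ext (W.ext (key a a' h1.1 ha) (key b b' h1.2 hb) rfl rfl)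
  refine (Nat.card_le_card_of_injective χ χinj).trans ?_
  simp [Nat.card_eq_fintype_card]

/-- The centraliser of a symmetric reflection has sixteen elements. -/
theorem le_card_cent_refl [NeZero m] (c : ZMod m) :
    16 ≤ Nat.card (Subgroup.centralizer ({CfsgLib.G2Sylow.refl c c} : Set (W m))) := by
  have hh := two_h hm
  have nh := neg_h hm
  have hne := h_ne hm
  let sh : Bool → ZMod m := fun x => if x then (h : ZMod m) else 0
  have shinj : ∀ x y (d : ZMod m), d + sh x = d + sh y → x = y := by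
    intro x y d e
    cases x <;> cases y <;> simp [sh, hne, Ne.symm hne] at e ⊢
  let f : Bool × Bool × Bool × Bool → Subgroup.centralizer ({CfsgLib.G2Sylow.refl c c} : Set (W m)) := fun p =>
    ⟨⟨(if p.1 then c else 0) + sh p.2.2.1, (if p.1 then c else 0) + sh p.2.2.2, p.1, p.2.1⟩,
      Subgroup.mem_centralizer_singleton_iff.mpr (by
        obtain ⟨e, s, x, y⟩ := p
        cases e <;> cases s <;> cases x <;> cases y <;>
          simp [sh, mul_def, CfsgLib.G2Sylow.refl, sg, nh] <;> grind)⟩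
  have hf : Function.Injective f := by
    rintro ⟨e, s, x, y⟩ ⟨e', s', x', y'⟩ hp
    simp only [f, Subtype.mk.injEq, W.mk.injEq] at hp
    obtain ⟨hx, hy, rfl, rfl⟩ := hp
    rw [shinj x x' _ hx, shinj y y' _ hy]
  refine le_trans (le_of_eq ?_) (Nat.card_le_card_of_injective f hf)
  simp [Nat.card_eq_fintype_card]

omit hm in
/-- The centraliser of the exchange. -/
theorem card_cent_swp [NeZero m] : Nat.card (Subgroup.centralizer ({swp} : Set (W m))) = 4 * m := by
  let f : ZMod m × Bool × Bool → Subgroup.centralizer ({(swp : W m)} : Set (W m)) := fun p =>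
    ⟨⟨p.1, p.1, p.2.1, p.2.2⟩, Subgroup.mem_centralizer_singleton_iff.mpr (by
      obtain ⟨a, e, s⟩ := p
      cases e <;> cases s <;> simp [mul_def, swp, sg])⟩
  rw [← Nat.card_congr (Equiv.ofBijective f ⟨?_, ?_⟩)]
  · simp [Nat.card_eq_fintype_card]; ring
  · rintro ⟨a, e, s⟩ ⟨a', e', s'⟩ hp
    simp only [f, Subtype.mk.injEq, W.mk.injEq] at hp
    obtain ⟨rfl, -, rfl, rfl⟩ := hp
    rfl
  · rintro ⟨⟨a, b, e, s⟩, hw⟩
    have e1 := Subgroup.mem_centralizer_singleton_iff.mp hw
    refine ⟨(a, e, s), Subtype.ext (W.ext rfl ?_ rfl rfl)⟩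
    cases e <;> cases s <;> simp [mul_def, swp, sg] at e1 <;> simp [f] <;> grind

omit hm in
/-- The centraliser of the exchange with reflection. -/
theorem card_cent_swr [NeZero m] : Nat.card (Subgroup.centralizer ({swr} : Set (W m))) = 4 * m := by
  let f : ZMod m × Bool × Bool → Subgroup.centralizer ({(swr : W m)} : Set (W m)) := fun p =>
    ⟨⟨p.1, -p.1, p.2.1, p.2.2⟩, Subgroup.mem_centralizer_singleton_iff.mpr (by
      obtain ⟨a, e, s⟩ := p
      cases e <;> cases s <;> simp [mul_def, swr, sg])⟩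
  rw [← Nat.card_congr (Equiv.ofBijective f ⟨?_, ?_⟩)]
  · simp [Nat.card_eq_fintype_card]; ring
  · rintro ⟨a, e, s⟩ ⟨a', e', s'⟩ hp
    simp only [f, Subtype.mk.injEq, W.mk.injEq] at hp
    obtain ⟨rfl, -, rfl, rfl⟩ := hp
    rfl
  · rintro ⟨⟨a, b, e, s⟩, hw⟩
    have e1 := Subgroup.mem_centralizer_singleton_iff.mp hw
    refine ⟨(a, e, s), Subtype.ext (W.ext rfl ?_ rfl rfl)⟩
    cases e <;> cases s <;> simp [mul_def, swr, sg] at e1 <;> simp [f] <;> grind

omit hm in
theorem Kp_conj {w c : W m} (hw : w ∈ (Kp : Subgroup (W m))) : c * w * c⁻¹ ∈ (Kp : Subgroup (W m)) := by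
  obtain ⟨i, j, e, s⟩ := c
  obtain ⟨i', j', e', s'⟩ := w
  obtain ⟨a, ha⟩ := hw
  rw [mem_Kp]
  simp only at ha
  cases e <;> cases s <;> cases e' <;> cases s' <;> simp [mul_def, inv_def, sg] <;>
    first
      | exact ⟨a, by linear_combination ha⟩
      | exact ⟨-a, by linear_combination -ha⟩
      | exact ⟨a + i + j, by linear_combination ha⟩
      | exact ⟨a - i - j, by linear_combination ha⟩
      | exact ⟨-a + i + j, by linear_combination -ha⟩
      | exact ⟨-a - i - j, by linear_combination -ha⟩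

theorem refl10_not_Kp [NeZero m] : (CfsgLib.G2Sylow.refl 1 0 : W m) ∉ (Kp : Subgroup (W m)) := by
  rintro ⟨a, ha⟩
  have := congrArg (par hm) ha
  simp [CfsgLib.G2Sylow.refl, map_add] at this
  exact absurd (this.trans (CharTwo.add_self_eq_zero _)) (by decide)

end Model

section Group

universe u
variable {G : Type u} [Group G] [Finite G]
variable {m h : ℕ} [NeZero m] (hm : m = 2 * h) (he : Even h) (h4 : 4 ≤ m)
variable (S : Sylow 2 G) (ι : W m →* G) (hinj : Function.Injective ι) (hι : ι.range = (S : Subgroup G))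
variable (h1 : ∀ x y : G, orderOf x = 2 → orderOf y = 2 → IsConj x y)

/-- The representative is sent to the rotation by an element of the centraliser. -/
def Good (h : ℕ) (r : W m) : Prop :=
  ∃ g : G, Commute g (ι (zc h)) ∧ g * ι r * g⁻¹ = ι (uc h) ∧
    ∀ v, Commute v r → g * ι v * g⁻¹ ∈ ι.range

include hm hι in
theorem good_conj {w r c : W m} (e : c * w * c⁻¹ = r) (hr : Good ι h r) : Good ι h w := by
  obtain ⟨g, hgz, hg, hgc⟩ := hr
  refine ⟨g * ι c, hgz.mul_left ((show Commute c (zc h) from zc_central hm c).map ι), ?_, fun v hv => ?_⟩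
  · rw [← hg, ← e, map_mul, map_mul, map_inv]; group
  · have := hgc (c * v * c⁻¹) (e ▸ hv.map (MulAut.conj c).toMonoidHom)
    rwa [show g * ι c * ι v * (g * ι c)⁻¹ = g * ι (c * v * c⁻¹) * g⁻¹ by
      rw [map_mul, map_mul, map_inv]; group]

include hm he h4 hinj hι h1

/-- One step: a larger centraliser. -/
theorem step {r : W m} (hr2 : r * r = 1) (hr1 : r ≠ 1) (hrz : r ≠ zc h)
    (hr : r = CfsgLib.G2Sylow.refl 0 0 ∨ r = CfsgLib.G2Sylow.refl 1 1 ∨ r = swp ∨ r = swr) :
    ∃ (g : G) (r' : W m), Commute g (ι (zc h)) ∧ g * ι r * g⁻¹ = ι r' ∧ r' * r' = 1 ∧ r' ≠ 1 ∧ r' ≠ zc h ∧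
      Nat.card (Subgroup.centralizer ({r} : Set (W m))) < Nat.card (Subgroup.centralizer ({r'} : Set (W m))) ∧
      ∀ v, Commute v r → g * ι v * g⁻¹ ∈ ι.range ∧ Commute (g * ι v * g⁻¹) (ι r') := by
  classical
  set z := ι (zc h)
  set A := (Subgroup.centralizer ({r} : Set (W m))).map ι
  have hzs : ∀ s ∈ (S : Subgroup G), Commute s z := fun s hs => by
    rw [← hι] at hs
    obtain ⟨w, rfl⟩ := hs
    exact (show Commute w (zc h) from zc_central hm w).map ι
  have hAS : A ≤ (S : Subgroup G) := hι ▸ Subgroup.map_le_range ι _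
  have hA : IsPGroup 2 A := IsPGroup.to_le S.2 hAS
  have hcardA : Nat.card A = Nat.card (Subgroup.centralizer ({r} : Set (W m))) :=
    Subgroup.card_map_of_injective hinj
  have ord : ∀ {x : W m}, x * x = 1 → x ≠ 1 → orderOf (ι x) = 2 := fun {x} e e' => by
    rw [orderOf_injective ι hinj]
    exact orderOf_eq_prime (by rw [sq, e]) e'
  obtain ⟨k, hk⟩ := isConj_iff.mp (h1 _ _ (ord hr2 hr1) (ord (zc_sq hm) (zc_ne hm)))
  have hk' : k⁻¹ * z * k = ι r := by rw [show z = k * ι r * k⁻¹ from hk.symm]; group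
  set H := Subgroup.centralizer ({ι r} : Set G)
  set R₀ := (S : Subgroup G).map (MulAut.conj k⁻¹).toMonoidHom
  have hRH : R₀ ≤ H := by
    rintro _ ⟨s, hs, rfl⟩
    refine Subgroup.mem_centralizer_singleton_iff.mpr ?_
    have := ((hzs s hs).map (MulAut.conj k⁻¹).toMonoidHom).eq
    simpa [hk', mul_assoc] using this
  have hAH : A ≤ H := by
    rintro _ ⟨w, hw, rfl⟩
    exact Subgroup.mem_centralizer_singleton_iff.mpr
      ((show Commute w r from Subgroup.mem_centralizer_singleton_iff.mp hw).map ι).eq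
  have hlt : Nat.card A < Nat.card R₀ := by
    rw [show Nat.card R₀ = Nat.card (S : Subgroup G) from Subgroup.card_map_of_injective (MulAut.conj k⁻¹).injective, hcardA, ← hι,
      ← Nat.card_congr (MonoidHom.ofInjective hinj).toEquiv, ← Subgroup.card_top (G := W m)]
    refine lt_of_le_of_ne (Subgroup.card_le_of_le le_top) fun e => hrz (eq_zc hm h4 hr2 hr1 fun v => ?_)
    have hv : v ∈ Subgroup.centralizer ({r} : Set (W m)) := by
      rw [Subgroup.eq_of_le_of_card_ge le_top e.ge]; exact Subgroup.mem_top v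
    exact Subgroup.mem_centralizer_singleton_iff.mp hv
  obtain ⟨P, hP, hPH, hAP, hcardP, hnorm⟩ := grow hA hAH (S.2.map _) hRH hlt
  obtain ⟨a, b, ha, hb, hab⟩ := zc_comm hm he hr
  have hPz : ∀ y ∈ P, Commute y z := by
    intro y hy
    obtain ⟨a', ha', ea⟩ := hnorm y hy (ι a) ⟨a, Subgroup.mem_centralizer_singleton_iff.mpr ha.eq, rfl⟩
    obtain ⟨b', hb', eb⟩ := hnorm y hy (ι b) ⟨b, Subgroup.mem_centralizer_singleton_iff.mpr hb.eq, rfl⟩
    obtain ⟨v, hv⟩ : ∃ v, v = a' * b' * a'⁻¹ * b'⁻¹ := ⟨_, rfl⟩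
    have ev : ι v = y * z * y⁻¹ := by
      rw [hv, map_mul, map_mul, map_mul, map_inv, map_inv, ea, eb]
      show _ = y * ι (zc h) * y⁻¹
      rw [← hab, map_mul, map_mul, map_mul, map_inv, map_inv]
      group
    have hz2 : z * z = 1 := by rw [← map_mul, zc_sq hm, map_one]
    have hvv : v * v = 1 := hinj (by
      rw [map_mul, ev, map_one, show y * z * y⁻¹ * (y * z * y⁻¹) = y * (z * z) * y⁻¹ by group, hz2]; group)
    rcases comm_involution hm hr (Subgroup.mem_centralizer_singleton_iff.mp ha')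
      (Subgroup.mem_centralizer_singleton_iff.mp hb') hv hvv with e | e
    · rw [e, map_one] at ev
      exact absurd (hinj ((conj_eq_one_iff.mp ev.symm).trans (map_one ι).symm)) (zc_ne hm)
    · rw [e] at ev
      exact (mul_inv_eq_iff_eq_mul.mp ev.symm : y * z = z * y)
  obtain ⟨c, hc, hcS⟩ := CfsgLib.G2Sylow.into_sylow S hzs hP hPz
  have hrP : ι r ∈ P := hAP ⟨r, Subgroup.mem_centralizer_singleton_iff.mpr rfl, rfl⟩
  obtain ⟨r', hr'⟩ : c * ι r * c⁻¹ ∈ ι.range := by rw [hι]; exact hcS _ hrP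
  have hPimg : ∀ y ∈ P, ∃ w, ι w = c * y * c⁻¹ ∧ Commute w r' := by
    intro y hy
    obtain ⟨w, hw⟩ : c * y * c⁻¹ ∈ ι.range := by rw [hι]; exact hcS _ hy
    refine ⟨w, hw, hinj ?_⟩
    rw [map_mul, map_mul, hw, hr']
    exact ((show Commute y (ι r) from Subgroup.mem_centralizer_singleton_iff.mp (hPH hy)).map
      (MulAut.conj c).toMonoidHom).eq
  refine ⟨c, r', hc, hr'.symm, ?_, ?_, ?_, ?_, fun v hv => ?_⟩
  · refine hinj ?_
    rw [map_mul, hr', map_one, show c * ι r * c⁻¹ * (c * ι r * c⁻¹) = c * (ι r * ι r) * c⁻¹ by group, ← map_mul, hr2,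
      map_one]
    group
  · intro e
    rw [e, map_one] at hr'
    exact hr1 (hinj ((conj_eq_one_iff.mp hr'.symm).trans (map_one ι).symm))
  · intro e
    rw [e] at hr'
    have : c * z * c⁻¹ = c * ι r * c⁻¹ := by rw [hc.eq, mul_inv_cancel_right]; exact hr'
    exact hrz (hinj (mul_left_cancel (mul_right_cancel this))).symm
  · rw [← hcardA]
    refine lt_of_lt_of_le hcardP ?_
    choose F hF hFc using hPimg
    refine Nat.card_le_card_of_injective
      (fun y : P => (⟨F y y.2, Subgroup.mem_centralizer_singleton_iff.mpr (hFc y y.2).eq⟩ :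
        Subgroup.centralizer ({r'} : Set (W m)))) fun y y' e => ?_
    have e' : F y y.2 = F y' y'.2 := congrArg Subtype.val e
    exact Subtype.ext (mul_left_cancel (mul_right_cancel ((hF y y.2).symm.trans
      ((congrArg ι e').trans (hF y' y'.2)))))
  · obtain ⟨w, hw, hwc⟩ := hPimg (ι v) (hAP ⟨v, Subgroup.mem_centralizer_singleton_iff.mpr hv.eq, rfl⟩)
    exact ⟨⟨w, hw⟩, hw ▸ hwc.map ι⟩

/-- Passing through a step. -/
theorem good_of_step {r r' : W m} {g : G} (hg : Commute g (ι (zc h))) (e : g * ι r * g⁻¹ = ι r')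
    (hc : ∀ v, Commute v r → g * ι v * g⁻¹ ∈ ι.range ∧ Commute (g * ι v * g⁻¹) (ι r')) (hr' : Good ι h r') :
    Good ι h r := by
  obtain ⟨g', hg', e', hc'⟩ := hr'
  refine ⟨g' * g, hg'.mul_left hg, ?_, fun v hv => ?_⟩
  · rw [← e', ← e]; group
  · obtain ⟨⟨w, hw⟩, hwc⟩ := hc v hv
    rw [← hw] at hwc
    have := hc' w (hinj (by rw [map_mul, map_mul]; exact hwc.eq))
    rw [hw] at this
    rwa [show g' * g * ι v * (g' * g)⁻¹ = g' * (g * ι v * g⁻¹) * g'⁻¹ by group]

omit he h4 hinj h1 in
theorem good_uc : Good ι h (uc h : W m) :=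
  ⟨1, Commute.one_left _, by simp, fun v _ => by simp⟩

omit hm hinj h1 hι he h4 in
theorem card_cent_conj {w r c : W m} (e : c * w * c⁻¹ = r) :
    Nat.card (Subgroup.centralizer ({w} : Set (W m))) = Nat.card (Subgroup.centralizer ({r} : Set (W m))) := by
  refine Nat.card_congr ((MulAut.conj c).toEquiv.subtypeEquiv fun v => ?_)
  show v ∈ Subgroup.centralizer ({w} : Set (W m)) ↔ c * v * c⁻¹ ∈ Subgroup.centralizer ({r} : Set (W m))
  rw [Subgroup.mem_centralizer_singleton_iff, Subgroup.mem_centralizer_singleton_iff, ← e,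
    show c * v * c⁻¹ * (c * w * c⁻¹) = c * (v * w) * c⁻¹ by group,
    show c * w * c⁻¹ * (c * v * c⁻¹) = c * (w * v) * c⁻¹ by group, mul_left_inj, mul_right_inj]

theorem good_exchange {r : W m} (hr : r = swp ∨ r = swr) : Good ι h r := by
  have hcard : Nat.card (Subgroup.centralizer ({r} : Set (W m))) = 4 * m := by
    rcases hr with rfl | rfl
    exacts [card_cent_swp, card_cent_swr]
  have hh : r * r = 1 ∧ r ≠ 1 ∧ r ≠ zc h := by
    rcases hr with rfl | rfl <;>
      exact ⟨by simp [mul_def, one_def, swp, swr, sg], by simp [one_def, swp, swr], by simp [rot, swp, swr]⟩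
  obtain ⟨g, r', hg, e, h2, h1', hz, hlt, hc⟩ :=
    step hm he h4 S ι hinj hι h1 hh.1 hh.2.1 hh.2.2 (Or.inr (Or.inr hr))
  obtain ⟨x, hx, c, hcx⟩ := reps hm h2 h1'
  refine good_of_step hm he h4 S ι hinj hι h1 hg e hc (good_conj hm S ι hι hcx ?_)
  rw [hcard, card_cent_conj hcx] at hlt
  simp only [List.mem_cons, List.not_mem_nil, or_false] at hx
  rcases hx with rfl | rfl | rfl | rfl | rfl | rfl | rfl
  · refine absurd ?_ hz
    have e3 : c * r' = zc h * c := by rw [← hcx]; group
    rw [← zc_central hm c] at e3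
    exact mul_left_cancel e3
  · exact good_uc hm S ι hι
  · have := card_cent_refl hm (0 : ZMod m) 0; omega
  · have := card_cent_refl hm (1 : ZMod m) 1; omega
  · have := card_cent_refl hm (1 : ZMod m) 0; omega
  · rw [card_cent_swp] at hlt; omega
  · rw [card_cent_swr] at hlt; omega

theorem good_reflection {r : W m} (hr : r = CfsgLib.G2Sylow.refl 0 0 ∨ r = CfsgLib.G2Sylow.refl 1 1) :
    Good ι h r := by
  have hcard : 16 ≤ Nat.card (Subgroup.centralizer ({r} : Set (W m))) := by
    rcases hr with rfl | rfl <;> exact le_card_cent_refl hm _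
  have hh : r * r = 1 ∧ r ≠ 1 ∧ r ≠ zc h := by
    rcases hr with rfl | rfl <;>
      exact ⟨by simp [mul_def, one_def, CfsgLib.G2Sylow.refl, sg], by simp [one_def, CfsgLib.G2Sylow.refl],
        by simp [rot, CfsgLib.G2Sylow.refl]⟩
  obtain ⟨g, r', hg, e, h2, h1', hz, hlt, hc⟩ :=
    step hm he h4 S ι hinj hι h1 hh.1 hh.2.1 hh.2.2 (hr.imp id Or.inl)
  obtain ⟨x, hx, c, hcx⟩ := reps hm h2 h1'
  refine good_of_step hm he h4 S ι hinj hι h1 hg e hc (good_conj hm S ι hι hcx ?_)
  rw [card_cent_conj hcx] at hlt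
  simp only [List.mem_cons, List.not_mem_nil, or_false] at hx
  rcases hx with rfl | rfl | rfl | rfl | rfl | rfl | rfl
  · refine absurd ?_ hz
    have e3 : c * r' = zc h * c := by rw [← hcx]; group
    rw [← zc_central hm c] at e3
    exact mul_left_cancel e3
  · exact good_uc hm S ι hι
  · have := card_cent_refl hm (0 : ZMod m) 0; omega
  · have := card_cent_refl hm (1 : ZMod m) 1; omega
  · have := card_cent_refl hm (1 : ZMod m) 0; omega
  · exact good_exchange hm he h4 S ι hinj hι h1 (Or.inl rfl)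
  · exact good_exchange hm he h4 S ι hinj hι h1 (Or.inr rfl)

/-- The fusion inside the centraliser. -/
theorem fusion {w : W m} (hw : w ∈ (Kp : Subgroup (W m))) (hw2 : w * w = 1) (hw1 : w ≠ 1) (hwz : w ≠ zc h) :
    Good ι h w := by
  obtain ⟨r, hr, c, hc⟩ := reps hm hw2 hw1
  refine good_conj hm S ι hι hc ?_
  have hrK : r ∈ (Kp : Subgroup (W m)) := hc ▸ Kp_conj hw
  simp only [List.mem_cons, List.not_mem_nil, or_false] at hr
  rcases hr with rfl | rfl | rfl | rfl | rfl | rfl | rfl
  · refine absurd ?_ hwz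
    have e3 : c * w = zc h * c := by rw [← hc]; group
    rw [← zc_central hm c] at e3
    exact mul_left_cancel e3
  · exact good_uc hm S ι hι
  · exact good_reflection hm he h4 S ι hinj hι h1 (Or.inl rfl)
  · exact good_reflection hm he h4 S ι hinj hι h1 (Or.inr rfl)
  · exact absurd hrK (refl10_not_Kp hm)
  · exact good_exchange hm he h4 S ι hinj hι h1 (Or.inl rfl)
  · exact good_exchange hm he h4 S ι hinj hι h1 (Or.inr rfl)

end Group

end CfsgLib.G2Cent
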